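import Groth.Agent.L02.An.Basic
import Mathlib.Topology.Compactness.LocallyCompact
import Mathlib.AlgebraicGeometry.Morphisms.Affine
import Mathlib.AlgebraicGeometry.Morphisms.ClosedImmersion

/-!
The complex points of an affine open as a closed subset of ℂⁿ; inducing properties of maps.
-/

set_option maxHeartbeats 100000

noncomputable section

open AlgebraicGeometry CategoryTheory TopologicalSpace Opposite Filter Topology

namespace Groth.L02.An

open _root_.An

variable {X Y : Scheme.{0}} [X.Over SC] [Y.Over SC]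

theorem tendsto_nhds_of_closure {α : Type*} {l : Filter α} {g : α → Pts X} {x : Pts X} {U : X.Opens}
    (hU : IsAffineOpen U) (hx : x.pt ∈ U) (G : Set Γ(X, U)) (hG : Subring.closure G = ⊤) :
    Tendsto g l (𝓝 x) ↔ (∀ᶠ a in l, (g a).pt ∈ U) ∧
      ∀ f ∈ G, Tendsto (fun a => evF U f (g a)) l (𝓝 (x.ev U hx f)) := by
  refine ⟨fun h => ⟨((tendsto_nhds hU hx).mp h).1, fun f _ => ((tendsto_nhds hU hx).mp h).2 f⟩, ?_⟩
  rintro ⟨hmem, hf⟩
  refine (tendsto_nhds hU hx).mpr ⟨hmem, fun f => ?_⟩
  have hmem' : f ∈ Subring.closure G := hG ▸ Subring.mem_top f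
  have key : ∀ {p q : Γ(X, U)} {op : ℂ → ℂ → ℂ} (_ : Continuous (Function.uncurry op))
      (r : Γ(X, U)), (∀ y : Pts X, ∀ hy : y.pt ∈ U, y.ev U hy r = op (y.ev U hy p) (y.ev U hy q)) →
      Tendsto (fun a => evF U p (g a)) l (𝓝 (x.ev U hx p)) →
      Tendsto (fun a => evF U q (g a)) l (𝓝 (x.ev U hx q)) →
      Tendsto (fun a => evF U r (g a)) l (𝓝 (x.ev U hx r)) := by
    intro p q op hop r hr hp hq
    rw [hr]
    refine Tendsto.congr' ?_ ((hop.tendsto (_, _)).comp (hp.prodMk_nhds hq))
    filter_upwards [hmem] with a ha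
    simp only [Function.comp_apply, Function.uncurry_apply_pair, evF_of_mem _ ha, hr]
  induction hmem' using Subring.closure_induction with
  | mem p hp => exact hf p hp
  | zero =>
    rw [ev_zero]
    refine tendsto_const_nhds.congr' ?_
    filter_upwards [hmem] with a ha
    rw [evF_of_mem _ ha, ev_zero]
  | one =>
    rw [ev_one]
    refine tendsto_const_nhds.congr' ?_
    filter_upwards [hmem] with a ha
    rw [evF_of_mem _ ha, ev_one]
  | add p q _ _ hp hq => exact key continuous_add _ (fun y hy => ev_add y U hy p q) hp hq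
  | mul p q _ _ hp hq => exact key continuous_mul _ (fun y hy => ev_mul y U hy p q) hp hq
  | neg p _ hp =>
    exact key (op := fun a _ => -a) (continuous_neg.comp continuous_fst) _
      (fun y hy => map_neg (val y U hy) p) hp hp

theorem ev_map_appLE (g : X ⟶ Y) [g.IsOver SC] (x : Pts X) {U : X.Opens} {V : Y.Opens}
    (i : U ≤ g ⁻¹ᵁ V) (hx : x.pt ∈ U) (hgx : (Pts.map g x).pt ∈ V) (b : Γ(Y, V)) :
    x.ev U hx (g.appLE V U i b) = (Pts.map g x).ev V hgx b := by
  rw [Pts.ev_map g x V hgx b]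
  exact ev_res x i hx _

theorem map_pt_mem (g : X ⟶ Y) [g.IsOver SC] (x : Pts X) {U : X.Opens} {V : Y.Opens}
    (i : U ≤ g ⁻¹ᵁ V) (hx : x.pt ∈ U) : (Pts.map g x).pt ∈ V := by
  rw [Pts.pt_map]; exact i hx

/-- A morphism is inducing on complex points if it is so on coordinate rings locally on the target. -/
theorem isInducing_map (g : X ⟶ Y) [g.IsOver SC]
    (H : ∀ x : Pts X, ∃ V : Y.Opens, IsAffineOpen V ∧ (Pts.map g x).pt ∈ V ∧
      IsAffineOpen (g ⁻¹ᵁ V) ∧ Function.Surjective (g.app V)) :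
    IsInducing (Pts.map g) := by
  rw [isInducing_iff_nhds]
  intro x
  refine le_antisymm (tendsto_iff_comap.mp ((Pts.continuous_map g).tendsto x)) ?_
  obtain ⟨V, hV, hxV, hU, hsurj⟩ := H x
  have hxU : x.pt ∈ g ⁻¹ᵁ V := by rw [Pts.pt_map] at hxV; exact hxV
  have h : Tendsto (Pts.map g) (comap (Pts.map g) (𝓝 (Pts.map g x))) (𝓝 (Pts.map g x)) := tendsto_comap
  obtain ⟨hmem, hf⟩ := (tendsto_nhds hV hxV).mp h
  refine (le_nhds hU hxU).mpr ⟨?_, fun f => ?_⟩
  · filter_upwards [hmem] with y hy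
    rw [Pts.pt_map] at hy; exact hy
  · obtain ⟨b, rfl⟩ := hsurj f
    rw [← Pts.ev_map g x V hxV b]
    refine (hf b).congr' ?_
    filter_upwards [hmem] with y hy
    have hy' : y.pt ∈ g ⁻¹ᵁ V := by rw [Pts.pt_map] at hy; exact hy
    rw [evF_of_mem _ hy, evF_of_mem _ hy', Pts.ev_map g y V hy b]

theorem map_injective_of_mono (g : X ⟶ Y) [g.IsOver SC] [Mono g] : Function.Injective (Pts.map g) :=
  fun _ _ h => Subtype.ext ((cancel_mono g).mp (congrArg Subtype.val h))

/-- Points of the target lying in the image of a monomorphism whose residue fields are ℂ lift. -/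
theorem mem_range_map_of_lift (g : X ⟶ Y) [g.IsOver SC] (y : Pts Y) (l : SC ⟶ X) (hl : l ≫ g = y.1) :
    y ∈ Set.range (Pts.map g) :=
  ⟨⟨l, by rw [← comp_over g (S := SC), ← Category.assoc, hl, y.2]⟩, Subtype.ext hl⟩

theorem range_map_of_isOpenImmersion (g : X ⟶ Y) [g.IsOver SC] [IsOpenImmersion g] :
    Set.range (Pts.map g) = Pts.pt ⁻¹' Set.range g.base := by
  ext y
  refine ⟨?_, fun hy => ?_⟩
  · rintro ⟨x, rfl⟩
    exact ⟨x.pt, (Pts.pt_map g x).symm⟩
  · refine mem_range_map_of_lift g y (IsOpenImmersion.lift g y.1 ?_) (IsOpenImmersion.lift_fac _ _ _)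
    rintro _ ⟨p, rfl⟩
    rw [eq_cpt p]; exact hy

theorem isOpenEmbedding_map (g : X ⟶ Y) [g.IsOver SC] [IsOpenImmersion g] :
    IsOpenEmbedding (Pts.map g) := by
  refine ⟨⟨isInducing_map g fun x => ?_, map_injective_of_mono g⟩, ?_⟩
  · obtain ⟨U, hU, hx⟩ := exists_affine_mem x
    refine ⟨g ''ᵁ U, hU.image_of_isOpenImmersion g, ?_, ?_, ?_⟩
    · rw [Pts.pt_map]; exact ⟨_, hx, rfl⟩
    · rwa [Scheme.Hom.preimage_image_eq]
    · exact ((ConcreteCategory.bijective_of_isIso (g.app (g ''ᵁ U))) ).surjective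
  · rw [range_map_of_isOpenImmersion]
    exact g.opensRange.2.preimage Pts.continuous_pt

theorem range_map_of_isClosedImmersion [LocallyOfFiniteType (Y ↘ SC)] (g : X ⟶ Y) [g.IsOver SC]
    [IsClosedImmersion g] : Set.range (Pts.map g) = Pts.pt ⁻¹' Set.range g.base := by
  have : LocallyOfFiniteType (X ↘ SC) := by rw [← comp_over g (S := SC)]; infer_instance
  ext y
  refine ⟨?_, fun ⟨p, hp⟩ => ?_⟩
  · rintro ⟨x, rfl⟩
    exact ⟨x.pt, (Pts.pt_map g x).symm⟩
  · have hc : IsClosed ({p} : Set X) := by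
      have := (isClosed_pt y).preimage g.continuous
      rwa [← hp, ← Set.image_singleton, Set.preimage_image_eq _ g.isClosedEmbedding.injective] at this
    obtain ⟨x, hx⟩ := exists_pt_eq hc
    exact ⟨x, pt_injective ((Pts.pt_map g x).trans ((congrArg g.base hx).trans hp))⟩

theorem isClosedEmbedding_map [LocallyOfFiniteType (Y ↘ SC)] (g : X ⟶ Y) [g.IsOver SC]
    [IsClosedImmersion g] : IsClosedEmbedding (Pts.map g) := by
  refine ⟨⟨isInducing_map g fun x => ?_, map_injective_of_mono g⟩, ?_⟩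
  · obtain ⟨V, hV, hx⟩ := exists_affine_mem (Pts.map g x)
    exact ⟨V, hV, hx, hV.preimage g, g.app_surjective V hV⟩
  · rw [range_map_of_isClosedImmersion]
    exact g.isClosedEmbedding.isClosed_range.preimage Pts.continuous_pt

/-- The coordinates of the complex points of an affine open. -/
def coords (U : X.Opens) {ι : Type*} (s : ι → Γ(X, U)) (x : {x : Pts X // x.pt ∈ U}) : ι → ℂ :=
  fun i => x.1.ev U x.2 (s i)

theorem range_coords {U : X.Opens} (hU : IsAffineOpen U) {ι : Type*} (s : ι → Γ(X, U))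
    (hs : Function.Surjective (MvPolynomial.eval₂Hom (str X U) s)) :
    Set.range (coords U s) = {z | ∀ p ∈ RingHom.ker (MvPolynomial.eval₂Hom (str X U) s),
      MvPolynomial.eval z p = 0} := by
  ext z
  constructor
  · rintro ⟨x, rfl⟩ p hp
    rw [RingHom.mem_ker] at hp
    show MvPolynomial.eval (fun i => x.1.ev U x.2 (s i)) p = 0
    rw [← val_eval₂Hom, hp, ev_zero]
  · intro hz
    let φ : Γ(X, U) →+* ℂ := RingHom.liftOfSurjective (MvPolynomial.eval₂Hom (str X U) s) hs
      ⟨MvPolynomial.eval z, fun p hp => hz p hp⟩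
    have hφ : φ.comp (MvPolynomial.eval₂Hom (str X U) s) = MvPolynomial.eval z :=
      RingHom.liftOfRightInverse_comp _ _ _ _
    have hc : φ.comp (str X U) = RingHom.id ℂ := by
      ext c
      simpa using congr($hφ (MvPolynomial.C c))
    refine ⟨⟨mkPt hU φ hc, pt_mkPt_mem hU φ hc⟩, funext fun i => ?_⟩
    show val (mkPt hU φ hc) U (pt_mkPt_mem hU φ hc) (s i) = z i
    rw [val_mkPt]
    simpa using congr($hφ (MvPolynomial.X i))

theorem isClosedEmbedding_coords {U : X.Opens} (hU : IsAffineOpen U) {ι : Type*} (s : ι → Γ(X, U))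
    (hs : Function.Surjective (MvPolynomial.eval₂Hom (str X U) s)) :
    IsClosedEmbedding (coords U s) := by
  refine ⟨⟨isInducing_iff_nhds.mpr fun x => le_antisymm ?_ ?_, ?_⟩, ?_⟩
  · refine tendsto_iff_comap.mp (tendsto_pi_nhds.mpr fun i => ?_)
    have := (tendsto_evF (s i) x.2).comp (continuous_subtype_val.tendsto x)
    exact this.congr fun y => evF_of_mem _ y.2
  · rw [show 𝓝 x = comap Subtype.val (𝓝 x.1) from nhds_induced _ _]
    refine tendsto_iff_comap.mp ?_
    refine (tendsto_nhds_of_generators hU x.2 s hs).mpr ⟨Eventually.of_forall fun y => y.2, fun i => ?_⟩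
    have : Tendsto (fun y => coords U s y i) (comap (coords U s) (𝓝 (coords U s x)))
        (𝓝 (coords U s x i)) := ((continuous_apply i).tendsto (coords U s x)).comp (tendsto_comap (f := coords U s))
    exact this.congr fun y => (evF_of_mem _ y.2).symm
  · rintro x y h
    refine Subtype.ext (ext_of_val hU x.2 y.2 fun f => ?_)
    obtain ⟨p, rfl⟩ := hs f
    rw [val_eval₂Hom, val_eval₂Hom]
    exact congrArg (fun z => MvPolynomial.eval z p) h
  · rw [range_coords hU s hs]
    simp only [Set.ofPred_forall]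
    exact isClosed_iInter fun p => isClosed_iInter fun _ =>
      isClosed_eq (MvPolynomial.continuous_eval p) continuous_const

theorem locallyCompactSpace_pts [LocallyOfFiniteType (X ↘ SC)] : LocallyCompactSpace (Pts X) := by
  refine ⟨fun x n hn => ?_⟩
  obtain ⟨U, hU, hx⟩ := exists_affine_mem x
  obtain ⟨m, s, hs⟩ := exists_generators hU
  have := (isClosedEmbedding_coords hU s hs).locallyCompactSpace
  obtain ⟨t, ht, htn, htc⟩ := local_compact_nhds (x := (⟨x, hx⟩ : {y : Pts X // y.pt ∈ U}))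
    ((continuous_subtype_val.tendsto _).eventually_mem hn)
  refine ⟨Subtype.val '' t, ?_, ?_, htc.image continuous_subtype_val⟩
  · exact (Pts.isOpen_preimage_pt U).isOpenEmbedding_subtypeVal.isOpenMap.image_mem_nhds ht
  · rintro _ ⟨y, hy, rfl⟩
    exact htn hy

theorem strHom_eq_str : strHom X = str X ⊤ := by
  refine RingHom.ext fun c => ?_
  show strHom X c = (X.presheaf.map (homOfLE le_top).op).hom (strHom X c)
  rw [show (homOfLE (le_top : (⊤ : X.Opens) ≤ ⊤)).op = 𝟙 _ from Subsingleton.elim _ _,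
    X.presheaf.map_id]
  rfl

theorem isClosedEmbedding_evTop [IsAffine X] {ι : Type*} (s : ι → Γ(X, ⊤))
    (hs : Function.Surjective (MvPolynomial.eval₂Hom (strHom X) s)) :
    IsClosedEmbedding (fun (x : Pts X) (i : ι) => x.evTop (s i)) := by
  rw [strHom_eq_str] at hs
  let e : Pts X ≃ₜ {x : Pts X // x.pt ∈ (⊤ : X.Opens)} :=
    { toFun := fun x => ⟨x, trivial⟩
      invFun := Subtype.val
      left_inv := fun _ => rfl
      right_inv := fun _ => rfl
      continuous_toFun := continuous_id.subtype_mk _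
      continuous_invFun := continuous_subtype_val }
  have h := (isClosedEmbedding_coords (isAffineOpen_top X) s hs).comp e.isClosedEmbedding
  have h' : (fun (x : Pts X) (i : ι) => x.evTop (s i)) = coords ⊤ s ∘ e := by
    funext x i
    simp only [Function.comp_apply, coords]
    rfl
  rw [h']
  exact h

end Groth.L02.An
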