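import Groth.Prelude.Def_AnPts
import Groth.Prelude.Def_AnHol
import Mathlib.AlgebraicGeometry.AlgClosed.Basic
import Mathlib.Analysis.Complex.Polynomial.Basic
import Mathlib.Topology.Algebra.MvPolynomial
import Mathlib.AlgebraicGeometry.Morphisms.FiniteType

/-!
Complex points of a scheme over ℂ: values of sections, points of affine opens, neighbourhood filters.
-/

noncomputable section

open AlgebraicGeometry CategoryTheory TopologicalSpace Opposite Filter Topology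

namespace Groth.L02.An

open _root_.An

variable {X : Scheme.{0}} [X.Over SC]

/-- Evaluation of sections at a complex point, as a ring homomorphism. -/
def val (x : Pts X) (U : X.Opens) (h : x.pt ∈ U) : Γ(X, U) →+* ℂ where
  toFun := x.ev U h
  map_one' := ev_one x U h
  map_mul' := ev_mul x U h
  map_zero' := ev_zero x U h
  map_add' := ev_add x U h

theorem val_apply (x : Pts X) (U : X.Opens) (h : x.pt ∈ U) (f : Γ(X, U)) :
    val x U h f = x.ev U h f := rfl

theorem ofHom_val (x : Pts X) (U : X.Opens) (h : x.pt ∈ U) :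
    CommRingCat.ofHom (val x U h) =
      x.1.appLE U ⊤ (x.top_le_preimage h) ≫ (Scheme.ΓSpecIso (CommRingCat.of ℂ)).hom := rfl

theorem SpecMap_val_fromSpec (x : Pts X) {U : X.Opens} (hU : IsAffineOpen U) (h : x.pt ∈ U) :
    Spec.map (CommRingCat.ofHom (val x U h)) ≫ hU.fromSpec = x.1 := by
  rw [ofHom_val, Spec.map_comp, Category.assoc,
    IsAffineOpen.SpecMap_appLE_fromSpec x.1 hU (isAffineOpen_top SC) (x.top_le_preimage h),
    IsAffineOpen.fromSpec_top, ← Category.assoc, SpecMap_ΓSpecIso_hom]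
  simp [Scheme.isoSpec]

theorem ext_of_val {x y : Pts X} {U : X.Opens} (hU : IsAffineOpen U) (hx : x.pt ∈ U) (hy : y.pt ∈ U)
    (h : ∀ f, x.ev U hx f = y.ev U hy f) : x = y := by
  apply Subtype.ext
  rw [← SpecMap_val_fromSpec x hU hx, ← SpecMap_val_fromSpec y hU hy]
  congr 3
  exact RingHom.ext h

/-- The structure homomorphism of the sections over an open. -/
def str (X : Scheme.{0}) [X.Over SC] (U : X.Opens) : ℂ →+* Γ(X, U) :=
  (X.presheaf.map (homOfLE le_top).op).hom.comp (strHom X)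

theorem ev_top_strHom (x : Pts X) (c : ℂ) : x.ev ⊤ (Opens.mem_top _) (strHom X c) = c := by
  have h1 : (X ↘ SC).appTop ≫ x.1.appTop = 𝟙 _ := by
    rw [← Scheme.Hom.comp_appTop, x.2]; rfl
  have h2 := congr($h1 ((Scheme.ΓSpecIso (CommRingCat.of ℂ)).inv c))
  show (Scheme.ΓSpecIso (CommRingCat.of ℂ)).hom (x.1.appLE ⊤ ⊤ _ _) = c
  have h3 : x.1.appLE ⊤ ⊤ (x.top_le_preimage (Opens.mem_top _)) = x.1.appTop := by
    exact Scheme.Hom.appLE_eq_app _
  rw [h3]
  refine (congrArg (fun t => (Scheme.ΓSpecIso (CommRingCat.of ℂ)).hom t) h2).trans ?_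
  simp

@[simp] theorem val_str (x : Pts X) (U : X.Opens) (h : x.pt ∈ U) (c : ℂ) :
    val x U h (str X U c) = c :=
  (ev_res x le_top h _).trans (ev_top_strHom x c)

theorem val_comp_str (x : Pts X) (U : X.Opens) (h : x.pt ∈ U) :
    (val x U h).comp (str X U) = RingHom.id ℂ :=
  RingHom.ext (val_str x U h)

theorem str_eq_appLE (X : Scheme.{0}) [X.Over SC] (U : X.Opens) :
    str X U = ((X ↘ SC).appLE ⊤ U le_top).hom.comp (Scheme.ΓSpecIso (CommRingCat.of ℂ)).inv.hom := by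
  rfl

/-- The complex point of an affine open given by a ℂ-algebra homomorphism to ℂ. -/
def mkPt {U : X.Opens} (hU : IsAffineOpen U) (φ : Γ(X, U) →+* ℂ)
    (hφ : φ.comp (str X U) = RingHom.id ℂ) : Pts X :=
  ⟨Spec.map (CommRingCat.ofHom φ) ≫ hU.fromSpec, by
    have hS : IsAffineOpen (⊤ : SC.Opens) := isAffineOpen_top SC
    rw [Category.assoc, ← IsAffineOpen.SpecMap_appLE_fromSpec (X ↘ SC) hS hU le_top,
      IsAffineOpen.fromSpec_top, ← Category.assoc, ← Spec.map_comp]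
    have h1 : (X ↘ SC).appLE ⊤ U le_top ≫ CommRingCat.ofHom φ =
        (Scheme.ΓSpecIso (CommRingCat.of ℂ)).hom := by
      rw [← cancel_epi (Scheme.ΓSpecIso (CommRingCat.of ℂ)).inv, Iso.inv_hom_id]
      ext c
      exact congr($hφ c)
    rw [h1, SpecMap_ΓSpecIso_hom]
    simp [Scheme.isoSpec]⟩

theorem pt_mkPt_mem {U : X.Opens} (hU : IsAffineOpen U) (φ : Γ(X, U) →+* ℂ)
    (hφ : φ.comp (str X U) = RingHom.id ℂ) : (mkPt hU φ hφ).pt ∈ U :=
  hU.range_fromSpec.le ⟨_, rfl⟩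

theorem val_mkPt {U : X.Opens} (hU : IsAffineOpen U) (φ : Γ(X, U) →+* ℂ)
    (hφ : φ.comp (str X U) = RingHom.id ℂ) :
    val (mkPt hU φ hφ) U (pt_mkPt_mem hU φ hφ) = φ := by
  have h := SpecMap_val_fromSpec (mkPt hU φ hφ) hU (pt_mkPt_mem hU φ hφ)
  have h' := Spec.map_injective ((cancel_mono hU.fromSpec).mp h)
  exact congrArg CommRingCat.Hom.hom h'

/-- The point of a complex point is closed. -/
theorem isClosed_pt [LocallyOfFiniteType (X ↘ SC)] (x : Pts X) : IsClosed ({x.pt} : Set X) := by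
  have := (pointEquivClosedPoint (X ↘ SC) x).2
  rwa [show x.pt = x.1 (IsLocalRing.closedPoint ℂ) from congrArg _ (eq_cpt _).symm]

theorem exists_pt_eq [LocallyOfFiniteType (X ↘ SC)] {p : X} (hp : IsClosed ({p} : Set X)) :
    ∃ x : Pts X, x.pt = p :=
  ⟨⟨pointOfClosedPoint (X ↘ SC) p hp, pointOfClosedPoint_comp _ _ _⟩,
    pointOfClosedPoint_apply _ _ _ _⟩

theorem pt_injective [LocallyOfFiniteType (X ↘ SC)] : Function.Injective (Pts.pt : Pts X → X) :=
  fun x y h => Subtype.ext <| ext_of_apply_closedPoint_eq (X ↘ SC) x.2 y.2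
    (by rw [eq_cpt (IsLocalRing.closedPoint ℂ)]; exact h)

theorem range_pt [LocallyOfFiniteType (X ↘ SC)] :
    Set.range (Pts.pt : Pts X → X) = closedPoints X := by
  ext p
  exact ⟨by rintro ⟨x, rfl⟩; exact isClosed_pt x, exists_pt_eq⟩

theorem mem_basicOpen_iff (x : Pts X) {U : X.Opens} (h : x.pt ∈ U) (f : Γ(X, U)) :
    x.pt ∈ X.basicOpen f ↔ x.ev U h f ≠ 0 := by
  have hbo : x.1 ⁻¹ᵁ X.basicOpen f = SC.basicOpen (x.1.app U f) := Scheme.preimage_basicOpen x.1 f
  have h1 : x.pt ∈ X.basicOpen f ↔ cpt ∈ SC.basicOpen (x.1.app U f) := by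
    rw [← hbo]; exact Iff.rfl
  rw [h1]
  have h2 : SC.basicOpen (x.1.appLE U ⊤ (x.top_le_preimage h) f) = SC.basicOpen (x.1.app U f) := by
    rw [Scheme.Hom.appLE]
    erw [Scheme.basicOpen_res]
    exact inf_of_le_right le_top
  rw [← h2]
  rw [basicOpen_eq_of_affine']
  refine (PrimeSpectrum.mem_basicOpen _ _).trans ?_
  have hbot : (cpt : PrimeSpectrum ℂ).asIdeal = (⊥ : Ideal ℂ) :=
    (Ideal.eq_bot_or_top _).resolve_right (cpt : PrimeSpectrum ℂ).isPrime.ne_top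
  show ¬ (x.ev U h f ∈ (cpt : PrimeSpectrum ℂ).asIdeal) ↔ _
  simp only [hbot, Ideal.mem_bot, ne_eq]

/-- Values of a section over an open, extended by zero. -/
def evF (U : X.Opens) (f : Γ(X, U)) : Pts X → ℂ :=
  open Classical in fun x => if h : x.pt ∈ U then x.ev U h f else 0

theorem evF_of_mem {U : X.Opens} (f : Γ(X, U)) {x : Pts X} (h : x.pt ∈ U) :
    evF U f x = x.ev U h f := dif_pos h

theorem continuousOn_evF (U : X.Opens) (f : Γ(X, U)) :
    ContinuousOn (evF U f) (Pts.pt ⁻¹' (U : Set X)) := by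
  rw [continuousOn_open_iff (Pts.isOpen_preimage_pt U)]
  intro t ht
  have := Pts.isOpen_basicSet U f ht
  rw [show (Pts.pt ⁻¹' (U : Set X)) ∩ evF U f ⁻¹' t = Pts.basicSet U f t from ?_]
  · exact this
  · ext x
    exact ⟨fun ⟨h, h'⟩ => ⟨h, by rwa [Set.mem_preimage, evF_of_mem f h] at h'⟩,
      fun ⟨h, h'⟩ => ⟨h, by rwa [Set.mem_preimage, evF_of_mem f h]⟩⟩

theorem tendsto_evF {U : X.Opens} (f : Γ(X, U)) {x : Pts X} (h : x.pt ∈ U) :
    Tendsto (evF U f) (𝓝 x) (𝓝 (x.ev U h f)) := by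
  rw [← evF_of_mem f h]
  exact ((continuousOn_evF U f).continuousAt ((Pts.isOpen_preimage_pt U).mem_nhds h))

theorem eventually_mem (x : Pts X) {U : X.Opens} (h : x.pt ∈ U) : ∀ᶠ y in 𝓝 x, y.pt ∈ U :=
  (Pts.isOpen_preimage_pt U).mem_nhds h

/-- The neighbourhood filter of a point of an affine open is governed by the values of its sections. -/
theorem tendsto_nhds {α : Type*} {l : Filter α} {g : α → Pts X} {x : Pts X} {U : X.Opens}
    (hU : IsAffineOpen U) (hx : x.pt ∈ U) :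
    Tendsto g l (𝓝 x) ↔ (∀ᶠ a in l, (g a).pt ∈ U) ∧
      ∀ f : Γ(X, U), Tendsto (fun a => evF U f (g a)) l (𝓝 (x.ev U hx f)) := by
  refine ⟨fun h => ⟨h.eventually (eventually_mem x hx), fun f => (tendsto_evF f hx).comp h⟩, ?_⟩
  rintro ⟨hmem, hf⟩
  rw [tendsto_nhds_generateFrom_iff]
  rintro _ ⟨W, s, V, hV, rfl⟩ ⟨hxW, hsV⟩
  obtain ⟨h, hhW, hxh⟩ := hU.exists_basicOpen_le (V := W) ⟨x.pt, hxW⟩ hx
  let D := X.basicOpen h
  let _ := hU.isLocalization_basicOpen h
  obtain ⟨a, ⟨_, k, rfl⟩, ha⟩ := IsLocalization.exists_mk'_eq (Submonoid.powers h)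
    (X.presheaf.map (homOfLE hhW).op s : Γ(X, D))
  have key : ∀ y : Pts X, ∀ (hy : y.pt ∈ D),
      y.ev U (X.basicOpen_le h hy) h ≠ 0 ∧
      y.ev W (hhW hy) s = y.ev U (X.basicOpen_le h hy) a / (y.ev U (X.basicOpen_le h hy) h) ^ k := by
    intro y hy
    have h0 := (mem_basicOpen_iff y (X.basicOpen_le h hy) h).mp hy
    refine ⟨h0, ?_⟩
    have h1 := congrArg (val y D hy) ((IsLocalization.mk'_spec (Γ(X, D)) a (⟨h ^ k, ⟨k, rfl⟩⟩ : Submonoid.powers h)))
    rw [ha, map_mul] at h1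
    have h2 : ∀ b : Γ(X, U), val y D hy (algebraMap Γ(X, U) Γ(X, D) b) =
        y.ev U (X.basicOpen_le h hy) b := fun b => ev_res y (X.basicOpen_le h) hy b
    have h3 : val y D hy (X.presheaf.map (homOfLE hhW).op s) = y.ev W (hhW hy) s := ev_res y hhW hy s
    simp only [h2, h3] at h1
    rw [show y.ev U (X.basicOpen_le h hy) (h ^ k) = (y.ev U (X.basicOpen_le h hy) h) ^ k from
      map_pow (val y U (X.basicOpen_le h hy)) h k] at h1
    rw [eq_div_iff (pow_ne_zero _ h0)]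
    exact h1
  obtain ⟨hx0, hxs⟩ := key x hxh
  have hlim : Tendsto (fun b => evF U a (g b) / evF U h (g b) ^ k) l (𝓝 (x.ev W hxW s)) := by
    rw [hxs]
    exact ((hf a).div ((hf h).pow k) (pow_ne_zero _ hx0))
  filter_upwards [hmem, (hf h).eventually_ne hx0, hlim.eventually (hV.mem_nhds hsV)] with b hb hb0 hbV
  rw [evF_of_mem h hb] at hb0
  have hbD : (g b).pt ∈ D := (mem_basicOpen_iff (g b) hb h).mpr hb0
  refine ⟨hhW hbD, ?_⟩
  rw [(key (g b) hbD).2]
  rwa [evF_of_mem a hb, evF_of_mem h hb] at hbV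

theorem le_nhds {l : Filter (Pts X)} {x : Pts X} {U : X.Opens} (hU : IsAffineOpen U)
    (hx : x.pt ∈ U) :
    l ≤ 𝓝 x ↔ (∀ᶠ y in l, y.pt ∈ U) ∧ ∀ f : Γ(X, U), Tendsto (evF U f) l (𝓝 (x.ev U hx f)) :=
  tendsto_nhds (g := id) hU hx

theorem exists_affine_mem (x : Pts X) : ∃ U : X.Opens, IsAffineOpen U ∧ x.pt ∈ U := by
  obtain ⟨U, hU, hx, -⟩ := X.isBasis_affineOpens.exists_subset_of_mem_open
    (Set.mem_univ x.pt) isOpen_univ
  obtain ⟨U, hU', rfl⟩ := hU
  exact ⟨U, hU', hx⟩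

theorem finiteType_str [LocallyOfFiniteType (X ↘ SC)] {U : X.Opens} (hU : IsAffineOpen U) :
    (str X U).FiniteType := by
  rw [str_eq_appLE]
  exact ((X ↘ SC).finiteType_appLE (isAffineOpen_top SC) hU le_top).comp
    (RingHom.FiniteType.of_surjective _
      (ConcreteCategory.bijective_of_isIso (Scheme.ΓSpecIso (CommRingCat.of ℂ)).inv).surjective)

/-- Finitely many sections generate an affine open's coordinate ring. -/
theorem exists_generators [LocallyOfFiniteType (X ↘ SC)] {U : X.Opens} (hU : IsAffineOpen U) :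
    ∃ (n : ℕ) (s : Fin n → Γ(X, U)), Function.Surjective (MvPolynomial.eval₂Hom (str X U) s) := by
  let _ := (str X U).toAlgebra
  have : Algebra.FiniteType ℂ Γ(X, U) := finiteType_str hU
  obtain ⟨n, φ, hφ⟩ := Algebra.FiniteType.iff_quotient_mvPolynomial''.mp this
  refine ⟨n, fun i => φ (MvPolynomial.X i), ?_⟩
  convert hφ using 1
  have : φ = MvPolynomial.aeval fun i => φ (MvPolynomial.X i) := MvPolynomial.aeval_unique φ
  conv_rhs => rw [this]
  rfl

theorem val_eval₂Hom (x : Pts X) (U : X.Opens) (h : x.pt ∈ U) {ι : Type*} (s : ι → Γ(X, U))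
    (p : MvPolynomial ι ℂ) :
    x.ev U h (MvPolynomial.eval₂Hom (str X U) s p) = MvPolynomial.eval (fun i => x.ev U h (s i)) p := by
  show val x U h (MvPolynomial.eval₂Hom (str X U) s p) = _
  rw [MvPolynomial.map_eval₂Hom, val_comp_str]
  rfl

/-- Generators of the coordinate ring detect convergence. -/
theorem tendsto_nhds_of_generators {α : Type*} {l : Filter α} {g : α → Pts X} {x : Pts X}
    {U : X.Opens} (hU : IsAffineOpen U) (hx : x.pt ∈ U) {ι : Type*} (s : ι → Γ(X, U))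
    (hs : Function.Surjective (MvPolynomial.eval₂Hom (str X U) s)) :
    Tendsto g l (𝓝 x) ↔ (∀ᶠ a in l, (g a).pt ∈ U) ∧
      ∀ i, Tendsto (fun a => evF U (s i) (g a)) l (𝓝 (x.ev U hx (s i))) := by
  refine ⟨fun h => ⟨((tendsto_nhds hU hx).mp h).1, fun i => ((tendsto_nhds hU hx).mp h).2 _⟩, ?_⟩
  rintro ⟨hmem, hf⟩
  refine (tendsto_nhds hU hx).mpr ⟨hmem, fun f => ?_⟩
  obtain ⟨p, rfl⟩ := hs f
  rw [val_eval₂Hom]
  refine Tendsto.congr' ?_ (((MvPolynomial.continuous_eval p).tendsto _).comp (tendsto_pi_nhds.mpr hf))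
  filter_upwards [hmem] with a ha
  simp only [Function.comp_apply, evF_of_mem _ ha, val_eval₂Hom]

end Groth.L02.An
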