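import Groth.Agent.L02.An.Dense
import Mathlib.AlgebraicGeometry.Morphisms.FinitePresentation
import Mathlib.AlgebraicGeometry.Morphisms.Separated
import Mathlib.AlgebraicGeometry.Morphisms.UniversallyInjective
import Mathlib.AlgebraicGeometry.Morphisms.Immersion
import Mathlib.Topology.SeparatedMap

/-!
Locally constructible sets of a complex scheme versus their complex points.
-/

noncomputable section

open AlgebraicGeometry CategoryTheory TopologicalSpace Opposite Filter Topology

namespace Groth.L02.An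

open _root_.An

theorem exists_isAffineOpen_mem {X : Scheme.{0}} (p : X) : ∃ U : X.Opens, IsAffineOpen U ∧ p ∈ U := by
  obtain ⟨_, ⟨U, hU, rfl⟩, hxU, -⟩ :=
    X.isBasis_affineOpens.exists_subset_of_mem_open (Set.mem_univ p) isOpen_univ
  exact ⟨U, hU, hxU⟩

variable {X Y : Scheme.{0}} [X.Over SC] [Y.Over SC]

theorem isLocallyConstructible_compl {Z : Type*} [TopologicalSpace Z] {T : Set Z}
    (hT : IsLocallyConstructible T) : IsLocallyConstructible Tᶜ := fun x =>
  let ⟨U, hxU, hU, h⟩ := hT x
  ⟨U, hxU, hU, h.compl⟩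

theorem isLocallyConstructible_of_isOpen [LocallyOfFiniteType (X ↘ SC)] {V : Set X} (hV : IsOpen V) :
    IsLocallyConstructible V := by
  intro x
  have := isLocallyNoetherian (X := X)
  obtain ⟨U, hU, hxU⟩ := exists_isAffineOpen_mem x
  have : IsNoetherianRing Γ(X, U) := IsLocallyNoetherian.component_noetherian ⟨U, hU⟩
  have : NoetherianSpace (U : Set X) := noetherianSpace_of_isAffineOpen U hU
  exact ⟨U, U.2.mem_nhds hxU, U.2,
    (IsRetrocompact.isConstructible (hV.preimage continuous_subtype_val)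
      (fun W _ _ => NoetherianSpace.isCompact _))⟩

theorem isLocallyConstructible_of_isClosed [LocallyOfFiniteType (X ↘ SC)] {C : Set X}
    (hC : IsClosed C) : IsLocallyConstructible C := by
  simpa using isLocallyConstructible_compl (isLocallyConstructible_of_isOpen (X := X) hC.isOpen_compl)

/-- A nonempty locally constructible set has a complex point. -/
theorem exists_pt_mem [LocallyOfFiniteType (X ↘ SC)] {T : Set X} (hT : IsLocallyConstructible T)
    (hne : T.Nonempty) : ∃ x : Pts X, x.pt ∈ T := by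
  obtain ⟨q, hq⟩ := hne
  have := isLocallyNoetherian (X := X)
  obtain ⟨U, hU, hqU⟩ := exists_isAffineOpen_mem q
  have : IsNoetherianRing Γ(X, U) := IsLocallyNoetherian.component_noetherian ⟨U, hU⟩
  have : IsAffine U.toScheme := hU
  have : NoetherianSpace U.toScheme := noetherianSpace_of_isAffineOpen U hU
  have hs : Topology.IsConstructible (U.ι ⁻¹' T) :=
    (hT.preimage_of_isOpenEmbedding U.ι.isOpenEmbedding).isConstructible
  obtain ⟨p, V, hVo, hpV, hV, -⟩ := exists_specializes_of_mem_closure hs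
    (subset_closure (show (⟨q, hqU⟩ : U.toScheme) ∈ U.ι ⁻¹' T from hq))
  have : JacobsonSpace ↥X := LocallyOfFiniteType.jacobsonSpace (X ↘ SC)
  obtain ⟨z, ⟨⟨w, hw, rfl⟩, hzc⟩, hz⟩ := nonempty_inter_closedPoints
    (Z := U.ι '' V ∩ closure {U.ι p})
    ⟨U.ι p, ⟨p, hpV, rfl⟩, subset_closure rfl⟩
    ((U.ι.isOpenEmbedding.isOpenMap V hVo).isLocallyClosed.inter isClosed_closure.isLocallyClosed)
  obtain ⟨x, hx⟩ := exists_pt_eq hz
  refine ⟨x, ?_⟩
  rw [hx]
  refine hV ⟨hw, ?_⟩
  rw [U.ι.isOpenEmbedding.isInducing.closure_eq_preimage_closure_image, Set.image_singleton]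
  exact hzc

theorem subset_of_pts [LocallyOfFiniteType (X ↘ SC)] {S T : Set X} (hS : IsLocallyConstructible S)
    (hT : IsLocallyConstructible T) (h : Pts.pt ⁻¹' S ⊆ (Pts.pt ⁻¹' T : Set (Pts X))) : S ⊆ T := by
  intro p hp
  by_contra hc
  obtain ⟨x, hxS, hxT⟩ := exists_pt_mem (hS.inter (isLocallyConstructible_compl hT)) ⟨p, hp, hc⟩
  exact hxT (h hxS)

theorem isClosed_of_pts [LocallyOfFiniteType (X ↘ SC)] {T : Set X} (hT : IsLocallyConstructible T)
    (h : IsClosed (Pts.pt ⁻¹' T : Set (Pts X))) : IsClosed T := by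
  refine closure_subset_iff_isClosed.mp (subset_of_pts
    (isLocallyConstructible_of_isClosed isClosed_closure) hT ?_)
  rw [preimage_closure hT, h.closure_eq]

theorem isOpen_iff_pts [LocallyOfFiniteType (X ↘ SC)] {T : Set X} (hT : IsLocallyConstructible T) :
    IsOpen T ↔ IsOpen (Pts.pt ⁻¹' T : Set (Pts X)) :=
  ⟨fun h => h.preimage Pts.continuous_pt, fun h => isClosed_compl_iff.mp
    (isClosed_of_pts (isLocallyConstructible_compl hT) (isClosed_compl_iff.mpr h))⟩

theorem dense_iff_pts [LocallyOfFiniteType (X ↘ SC)] {T : Set X} (hT : IsLocallyConstructible T) :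
    Dense T ↔ Dense (Pts.pt ⁻¹' T : Set (Pts X)) := by
  rw [dense_iff_closure_eq, dense_iff_closure_eq, ← preimage_closure hT]
  refine ⟨fun h => by rw [h, Set.preimage_univ], fun h => ?_⟩
  refine Set.univ_subset_iff.mp (subset_of_pts IsLocallyConstructible.univ
    (isLocallyConstructible_of_isClosed isClosed_closure) ?_)
  rw [h]; exact Set.subset_univ _

theorem preimage_range [LocallyOfFiniteType (X ↘ SC)] [LocallyOfFiniteType (Y ↘ SC)] (f : X ⟶ Y)
    [f.IsOver SC] : (Pts.pt ⁻¹' Set.range f.base : Set (Pts Y)) = Set.range (Pts.map f) := by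
  refine subset_antisymm (fun y hy => ?_) ?_
  · obtain ⟨p, hp⟩ := hy
    have : JacobsonSpace ↥X := LocallyOfFiniteType.jacobsonSpace (X ↘ SC)
    obtain ⟨z, hz, hzc⟩ := nonempty_inter_closedPoints (Z := f.base ⁻¹' {y.pt}) ⟨p, hp⟩
      ((isClosed_pt y).preimage f.continuous).isLocallyClosed
    obtain ⟨x, rfl⟩ := exists_pt_eq hzc
    exact ⟨x, pt_injective ((Pts.pt_map f x).trans hz)⟩
  · rintro _ ⟨x, rfl⟩
    exact ⟨x.pt, (Pts.pt_map f x).symm⟩

theorem isLocallyConstructible_range [LocallyOfFiniteType (X ↘ SC)] [LocallyOfFiniteType (Y ↘ SC)]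
    (f : X ⟶ Y) [f.IsOver SC] [QuasiCompact f] : IsLocallyConstructible (Set.range f.base) := by
  have := isLocallyNoetherian (X := Y)
  have : LocallyOfFiniteType f := by
    have : LocallyOfFiniteType (f ≫ (Y ↘ SC)) := by rw [comp_over f]; infer_instance
    exact locallyOfFiniteType_of_comp f (Y ↘ SC)
  rw [← Set.image_univ]
  exact f.isLocallyConstructible_image IsLocallyConstructible.univ

theorem surjective_iff_pts [LocallyOfFiniteType (X ↘ SC)] [LocallyOfFiniteType (Y ↘ SC)] (f : X ⟶ Y)
    [f.IsOver SC] [QuasiCompact f] :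
    Function.Surjective f.base ↔ Function.Surjective (Pts.map f) := by
  rw [← Set.range_eq_univ, ← Set.range_eq_univ, ← preimage_range f]
  refine ⟨fun h => by rw [h, Set.preimage_univ], fun h => ?_⟩
  refine Set.univ_subset_iff.mp (subset_of_pts IsLocallyConstructible.univ
    (isLocallyConstructible_range f) ?_)
  rw [h]; exact Set.subset_univ _

theorem discreteTopology_iff_pts [LocallyOfFiniteType (X ↘ SC)] :
    DiscreteTopology ↥X ↔ DiscreteTopology (Pts X) := by
  refine ⟨fun h => discreteTopology_iff_isOpen_singleton.mpr fun x => ?_, fun h => ?_⟩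
  · have := (isOpen_discrete ({x.pt} : Set X)).preimage (Pts.continuous_pt (X := X))
    rwa [← Set.image_singleton, Set.preimage_image_eq _ pt_injective] at this
  · have hopen : ∀ p ∈ closedPoints X, IsOpen ({p} : Set X) := fun p hp =>
      (isOpen_iff_pts (isLocallyConstructible_of_isClosed hp)).mpr (isOpen_discrete _)
    have : JacobsonSpace ↥X := LocallyOfFiniteType.jacobsonSpace (X ↘ SC)
    have hall : closedPoints X = Set.univ := by
      have hc : IsClosed (closedPoints X)ᶜ := by
        rw [isClosed_compl_iff, ← Set.biUnion_of_singleton (closedPoints X)]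
        exact isOpen_biUnion hopen
      by_contra hne
      obtain ⟨z, hz, hz'⟩ := nonempty_inter_closedPoints (Z := (closedPoints X)ᶜ)
        (Set.nonempty_compl.mpr hne) hc.isLocallyClosed
      exact hz hz'
    exact discreteTopology_iff_isOpen_singleton.mpr fun p => hopen p (hall ▸ Set.mem_univ p)

theorem isClosedImmersion_of_pts [LocallyOfFiniteType (X ↘ SC)] [LocallyOfFiniteType (Y ↘ SC)]
    (f : X ⟶ Y) [f.IsOver SC] [IsImmersion f] [QuasiCompact f] (h : IsClosed (Set.range (Pts.map f))) :
    IsClosedImmersion f :=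
  IsClosedImmersion.of_isPreimmersion f
    (isClosed_of_pts (isLocallyConstructible_range f) (by rwa [preimage_range f]))

end Groth.L02.An
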