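import Groth.Agent.L02.An.Monodromy
import Groth.Agent.L02.An.Constructible
import Mathlib.Topology.Connected.TotallyDisconnected

/-!
Connectedness of a complex scheme versus connectedness of its complex points.
-/

noncomputable section

open AlgebraicGeometry CategoryTheory TopologicalSpace Opposite Filter Topology

namespace Groth.L02.An

open _root_.An

variable {X : Scheme.{0}} [X.Over SC] [LocallyOfFiniteType (X ↘ SC)]

omit [LocallyOfFiniteType (X ↘ SC)] in
/-- The structure of ℂ-algebra on the sections over an open. -/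
abbrev algU (U : X.Opens) : Algebra ℂ Γ(X, U) := (str X U).toAlgebra

/-- Complex points of an irreducible closed subvariety in an affine open are parametrised by the
complex points of its coordinate ring. -/
theorem exists_param {U : X.Opens} (hU : IsAffineOpen U) {η : X} (hη : η ∈ U) :
    letI := algU U
    letI P := (hU.primeIdealOf ⟨η, hη⟩).asIdeal
    ∃ G : (Set.range fun ψ : (Γ(X, U) ⧸ P) →ₐ[ℂ] ℂ => ⇑ψ) → Pts X, Continuous G ∧
      Set.range G = {x : Pts X | x.pt ∈ U ∧ η ⤳ x.pt} ∧
      ∀ f (h : (G f).pt ∈ U) (g : Γ(X, U)), (G f).ev U h g = f.1 (Ideal.Quotient.mk P g) := by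
  let _ := algU U
  have : Algebra.FiniteType ℂ Γ(X, U) := finiteType_str hU
  set P : PrimeSpectrum Γ(X, U) := hU.primeIdealOf ⟨η, hη⟩
  have hP : hU.fromSpec P = η := hU.fromSpec_primeIdealOf ⟨η, hη⟩
  let Tp : Set ((Γ(X, U) ⧸ P.asIdeal) → ℂ) :=
    Set.range fun ψ : (Γ(X, U) ⧸ P.asIdeal) →ₐ[ℂ] ℂ => ⇑ψ
  choose ψ hψ using fun f : Tp => f.2
  let φ : Tp → (Γ(X, U) →ₐ[ℂ] ℂ) := fun f => (ψ f).comp (Ideal.Quotient.mkₐ ℂ P.asIdeal)
  let G : Tp → Pts X := fun f => mkPt hU (φ f : Γ(X, U) →+* ℂ) (RingHom.ext (φ f).commutes)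
  have hmem : ∀ f : Tp, (G f).pt ∈ U := fun f => pt_mkPt_mem _ _ _
  have hval : ∀ (f : Tp) (g : Γ(X, U)),
      (G f).ev U (hmem f) g = f.1 (Ideal.Quotient.mk P.asIdeal g) := fun f g =>
    (congr($(val_mkPt hU (φ f : Γ(X, U) →+* ℂ) (RingHom.ext (φ f).commutes)) g)).trans
      (congrFun (hψ f) _)
  have hG : Continuous G := continuous_iff_continuousAt.mpr fun f =>
    (tendsto_nhds hU (hmem f)).mpr ⟨Eventually.of_forall hmem, fun g => by
      rw [hval]
      refine ((((continuous_apply _).comp continuous_subtype_val).tendsto f)).congr fun f' => ?_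
      rw [evF_of_mem g (hmem f'), hval]
      rfl⟩
  have key : {x : Pts X | x.pt ∈ U ∧ η ⤳ x.pt} = Set.range G := by
    ext x
    constructor
    · rintro ⟨hxU, hx⟩
      have hle : P.asIdeal ≤ RingHom.ker (val x U hxU) := by
        rw [pt_eq_fromSpec x hU hxU, ← hP] at hx
        exact (PrimeSpectrum.le_iff_specializes P _).mpr
          (hU.fromSpec.isOpenEmbedding.isInducing.specializes_iff.mp hx)
      let χ : Γ(X, U) →ₐ[ℂ] ℂ := { val x U hxU with commutes' := val_str x U hxU }
      let χ' : (Γ(X, U) ⧸ P.asIdeal) →ₐ[ℂ] ℂ := Ideal.Quotient.liftₐ P.asIdeal χ fun a ha => hle ha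
      refine ⟨⟨⇑χ', χ', rfl⟩, ext_of_val hU (hmem _) hxU fun g => ?_⟩
      rw [hval]
      rfl
    · rintro ⟨f, rfl⟩
      refine ⟨hmem f, ?_⟩
      rw [pt_eq_fromSpec (G f) hU (hmem f), ← hP]
      refine Specializes.map ((PrimeSpectrum.le_iff_specializes P _).mp ?_) hU.fromSpec.continuous
      intro a ha
      show _ ∈ RingHom.ker _
      rw [RingHom.mem_ker, val_apply, hval, Ideal.Quotient.eq_zero_iff_mem.mpr ha, ← hψ f]
      exact map_zero (ψ f)
  exact ⟨G, hG, key.symm, fun f _ g => hval f g⟩

/-- The complex points of an irreducible closed subvariety in an affine open form a connected set. -/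
theorem isPreconnected_pts_affine {U : X.Opens} (hU : IsAffineOpen U) {η : X} (hη : η ∈ U) :
    IsPreconnected {x : Pts X | x.pt ∈ U ∧ η ⤳ x.pt} := by
  let _ := algU U
  have : Algebra.FiniteType ℂ Γ(X, U) := finiteType_str hU
  obtain ⟨G, hG, hr, -⟩ := exists_param hU hη
  have := Subtype.preconnectedSpace
    (isPreconnected_range_algHom (Γ(X, U) ⧸ (hU.primeIdealOf ⟨η, hη⟩).asIdeal))
  rw [← hr]
  exact isPreconnected_range hG

/-- The complex points of an irreducible closed subvariety form a connected set. -/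
theorem isPreconnected_pts (η : X) : IsPreconnected {x : Pts X | η ⤳ x.pt} := by
  have : JacobsonSpace ↥X := LocallyOfFiniteType.jacobsonSpace (X ↘ SC)
  refine isPreconnected_of_forall_pair fun x (hx : η ⤳ x.pt) y (hy : η ⤳ y.pt) => ?_
  obtain ⟨U, hU, hxU⟩ := exists_affine_mem x
  obtain ⟨V, hV, hyV⟩ := exists_affine_mem y
  have hηU := hx.mem_open U.2 hxU
  have hηV := hy.mem_open V.2 hyV
  refine ⟨{z : Pts X | z.pt ∈ U ∧ η ⤳ z.pt} ∪ {z : Pts X | z.pt ∈ V ∧ η ⤳ z.pt},
    Set.union_subset (fun z hz => hz.2) (fun z hz => hz.2), Or.inl ⟨hxU, hx⟩, Or.inr ⟨hyV, hy⟩, ?_⟩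
  obtain ⟨p, ⟨⟨hpU, hpV⟩, hp⟩, hpc⟩ := nonempty_inter_closedPoints
    (Z := ((U : Set X) ∩ V) ∩ closure {η}) ⟨η, ⟨hηU, hηV⟩, subset_closure rfl⟩
    ((U.2.inter V.2).isLocallyClosed.inter isClosed_closure.isLocallyClosed)
  obtain ⟨z, rfl⟩ := exists_pt_eq hpc
  exact IsPreconnected.union z ⟨hpU, specializes_iff_mem_closure.mpr hp⟩
    ⟨hpV, specializes_iff_mem_closure.mpr hp⟩ (isPreconnected_pts_affine hU hηU)
    (isPreconnected_pts_affine hV hηV)

theorem exists_pt_specializes (η : X) : ∃ x : Pts X, η ⤳ x.pt := by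
  have : JacobsonSpace ↥X := LocallyOfFiniteType.jacobsonSpace (X ↘ SC)
  obtain ⟨p, hp, hpc⟩ := nonempty_inter_closedPoints (Z := closure {η})
    ⟨η, subset_closure rfl⟩ isClosed_closure.isLocallyClosed
  obtain ⟨x, rfl⟩ := exists_pt_eq hpc
  exact ⟨x, specializes_iff_mem_closure.mpr hp⟩

omit [X.Over SC] [LocallyOfFiniteType (X ↘ SC)] in
/-- In a locally Noetherian scheme a set stable under specialization and generalization is open. -/
theorem isOpen_of_stable [IsLocallyNoetherian X] {W : Set X} (h1 : StableUnderSpecialization W)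
    (h2 : StableUnderGeneralization W) : IsOpen W := by
  refine isOpen_iff_forall_mem_open.mpr fun p hp => ?_
  obtain ⟨U, hU, hpU⟩ := exists_isAffineOpen_mem p
  have : IsNoetherianRing Γ(X, U) := IsLocallyNoetherian.component_noetherian ⟨U, hU⟩
  have : NoetherianSpace U.toScheme := noetherianSpace_of_isAffineOpen U hU
  let p' : U.toScheme := ⟨p, hpU⟩
  let K : Set (Set U.toScheme) := {Z | Z ∈ irreducibleComponents U.toScheme ∧ p' ∉ Z}
  have hK : IsClosed (⋃₀ K) := by
    rw [Set.sUnion_eq_biUnion]
    exact ((NoetherianSpace.finite_irreducibleComponents).subset fun Z hZ => hZ.1).isClosed_biUnion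
      fun Z hZ => isClosed_of_mem_irreducibleComponents Z hZ.1
  refine ⟨U.ι '' (⋃₀ K)ᶜ, ?_, U.ι.isOpenEmbedding.isOpenMap _ hK.isOpen_compl, p', ?_, rfl⟩
  · rintro _ ⟨q, hq, rfl⟩
    have hpq : p' ∈ irreducibleComponent q := by_contra fun h => hq
      ⟨_, ⟨irreducibleComponent_mem_irreducibleComponents q, h⟩, mem_irreducibleComponent⟩
    obtain ⟨g, hg⟩ := QuasiSober.sober (S := irreducibleComponent q) isIrreducible_irreducibleComponent
      isClosed_irreducibleComponent
    exact h1 ((hg.specializes mem_irreducibleComponent).map U.ι.continuous)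
      (h2 ((hg.specializes hpq).map U.ι.continuous) hp)
  · rintro ⟨Z, ⟨-, hpZ⟩, hp'⟩
    exact hpZ hp'

/-- Complex points over one connected component form one connected component. -/
theorem connectedComponent_eq_of_pt {x y : Pts X}
    (h : connectedComponent x.pt = connectedComponent y.pt) :
    connectedComponent x = connectedComponent y := by
  have := isLocallyNoetherian (X := X)
  let W : Set X := {p | ∀ z : Pts X, p ⤳ z.pt → connectedComponent z = connectedComponent x}
  have hmk : ∀ (p : X) (z : Pts X), p ⤳ z.pt → connectedComponent z = connectedComponent x →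
      p ∈ W := fun p z hz he z' hz' => he ▸ connectedComponent_eq
        ((isPreconnected_pts p).subset_connectedComponent hz' hz)
  have hs : StableUnderSpecialization W := fun p q hpq hp z hz => hp z (hpq.trans hz)
  have hg : StableUnderGeneralization W := fun q p hpq hq => by
    obtain ⟨z, hz⟩ := exists_pt_specializes q
    exact hmk p z (hpq.trans hz) (hq z hz)
  have hW : IsClopen W :=
    ⟨isOpen_compl_iff.mp (isOpen_of_stable hg.compl hs.compl), isOpen_of_stable hs hg⟩
  have hy : y.pt ∈ W := hW.connectedComponent_subset (hmk x.pt x le_rfl rfl)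
    (h ▸ mem_connectedComponent)
  exact (hy y le_rfl).symm

/-- Connected components of complex points and of the scheme correspond. -/
theorem connectedComponentsMap_bijective :
    Function.Bijective (Pts.continuous_pt (X := X)).connectedComponentsMap := by
  refine ⟨?_, ?_⟩
  · intro a b hab
    obtain ⟨x, rfl⟩ := ConnectedComponents.surjective_coe a
    obtain ⟨y, rfl⟩ := ConnectedComponents.surjective_coe b
    exact ConnectedComponents.coe_eq_coe.mpr
      (connectedComponent_eq_of_pt (ConnectedComponents.coe_eq_coe.mp hab))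
  · intro b
    obtain ⟨p, rfl⟩ := ConnectedComponents.surjective_coe b
    obtain ⟨x, hx⟩ := exists_pt_specializes p
    refine ⟨ConnectedComponents.mk x, ConnectedComponents.coe_eq_coe'.mpr ?_⟩
    exact isClosed_connectedComponent.closure_subset_iff.mpr
      (Set.singleton_subset_iff.mpr mem_connectedComponent) hx.mem_closure

theorem connectedSpace_iff : ConnectedSpace ↥X ↔ ConnectedSpace (Pts X) := by
  have hb := connectedComponentsMap_bijective (X := X)
  have e := Equiv.ofBijective _ hb
  have hne : Nonempty (Pts X) ↔ Nonempty ↥X :=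
    ⟨fun ⟨x⟩ => ⟨x.pt⟩, fun ⟨p⟩ => ⟨(exists_pt_specializes p).choose⟩⟩
  have hpre : ∀ (T : Type) [TopologicalSpace T],
      PreconnectedSpace T ↔ Subsingleton (ConnectedComponents T) := fun T _ => by
    refine ⟨fun _ => inferInstance, fun hs => preconnectedSpace_iff_connectedComponent.mpr fun t => ?_⟩
    exact Set.eq_univ_of_forall fun s => ConnectedComponents.coe_eq_coe'.mp (Subsingleton.elim _ _)
  constructor
  · intro hX
    have : Subsingleton (ConnectedComponents ↥X) := (hpre _).mp inferInstance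
    exact { toPreconnectedSpace := (hpre _).mpr e.subsingleton, toNonempty := hne.mpr inferInstance }
  · intro hX
    have : Subsingleton (ConnectedComponents (Pts X)) := (hpre _).mp inferInstance
    exact { toPreconnectedSpace := (hpre _).mpr e.symm.subsingleton, toNonempty := hne.mp inferInstance }

end Groth.L02.An
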