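import Mathlib.RingTheory.NoetherNormalization
import Mathlib.FieldTheory.Minpoly.IsIntegrallyClosed
import Mathlib.RingTheory.Polynomial.UniqueFactorization
import Mathlib.RingTheory.Polynomial.RationalRoot
import Mathlib.Analysis.Complex.Polynomial.Basic
import Mathlib.Analysis.Normed.Group.Bounded
import Mathlib.Topology.Algebra.MvPolynomial
import Mathlib.Algebra.MvPolynomial.Funext
import Mathlib.RingTheory.Ideal.GoingUp
import Mathlib.RingTheory.Jacobson.Ring

/-!
A nonzero function on an irreducible affine complex variety is nonzero arbitrarily close to any point.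
-/

noncomputable section

open Filter Topology Polynomial

namespace Groth.L02.An

/-- The algebra homomorphisms to ℂ, as functions, form a closed set. -/
theorem isClosed_range_algHom (A : Type) [CommRing A] [Algebra ℂ A] :
    IsClosed (Set.range fun ψ : A →ₐ[ℂ] ℂ => (⇑ψ : A → ℂ)) := by
  have : (Set.range fun ψ : A →ₐ[ℂ] ℂ => (⇑ψ : A → ℂ)) =
      ({f | f 1 = 1} ∩ ⋂ (a : A) (b : A), {f | f (a + b) = f a + f b}) ∩
      ((⋂ (a : A) (b : A), {f | f (a * b) = f a * f b}) ∩ ⋂ c : ℂ, {f | f (algebraMap ℂ A c) = c}) := by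
    ext f
    constructor
    · rintro ⟨ψ, rfl⟩
      simp
    · simp only [Set.mem_inter_iff, Set.mem_iInter, Set.mem_ofPred_eq]
      rintro ⟨⟨h1, hadd⟩, hmul, hc⟩
      refine ⟨{ toFun := f, map_one' := h1, map_mul' := hmul, map_add' := hadd, map_zero' := ?_,
                commutes' := hc }, rfl⟩
      simpa using hc 0
  rw [this]
  refine ((isClosed_eq (continuous_apply _) continuous_const).inter ?_).inter (IsClosed.inter ?_ ?_)
  · exact isClosed_iInter fun a => isClosed_iInter fun b =>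
      isClosed_eq (continuous_apply _) ((continuous_apply a).add (continuous_apply b))
  · exact isClosed_iInter fun a => isClosed_iInter fun b =>
      isClosed_eq (continuous_apply _) ((continuous_apply a).mul (continuous_apply b))
  · exact isClosed_iInter fun c => isClosed_eq (continuous_apply _) continuous_const

variable {R A : Type} [CommRing R] [CommRing A] [Algebra R A]

/-- A root of a monic polynomial is bounded by one plus the norms of its coefficients. -/
theorem norm_le_of_root {P : ℂ[X]} (hP : P.Monic) {z : ℂ} (hz : P.eval z = 0) :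
    ‖z‖ ≤ 1 + ∑ i ∈ Finset.range P.natDegree, ‖P.coeff i‖ := by
  set D := P.natDegree
  set S := ∑ i ∈ Finset.range D, ‖P.coeff i‖
  have hS : 0 ≤ S := Finset.sum_nonneg fun _ _ => norm_nonneg _
  by_contra h
  push Not at h
  have h1 : 1 ≤ ‖z‖ := by linarith
  have e : z ^ D = -∑ i ∈ Finset.range D, P.coeff i * z ^ i := by
    have := Polynomial.eval_eq_sum_range (p := P) z
    rw [hz, Finset.sum_range_succ, hP.coeff_natDegree, one_mul] at this
    linear_combination -this
  rcases Nat.eq_zero_or_pos D with hD | hD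
  · rw [hD] at e
    simp at e
  have h2 : ‖z‖ ^ D ≤ S * ‖z‖ ^ (D - 1) := by
    rw [← norm_pow, e, norm_neg, Finset.sum_mul]
    refine (norm_sum_le _ _).trans (Finset.sum_le_sum fun i hi => ?_)
    rw [norm_mul, norm_pow]
    exact mul_le_mul_of_nonneg_left
      (pow_le_pow_right₀ h1 (by have := Finset.mem_range.mp hi; omega)) (norm_nonneg _)
  obtain ⟨E, hE⟩ := Nat.exists_eq_add_of_le hD
  rw [hE, show 1 + E - 1 = E by omega, pow_add, pow_one] at h2
  have := le_of_mul_le_mul_right h2 (by positivity)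
  linarith

/-- A monic polynomial with small constant coefficient has a small root. -/
theorem exists_root_norm_lt {P : ℂ[X]} (hP : P.Monic) (hd : P.natDegree ≠ 0) {ε : ℝ} (hε : 0 < ε)
    (h : ‖P.coeff 0‖ < ε ^ P.natDegree) : ∃ z, P.eval z = 0 ∧ ‖z‖ < ε := by
  by_contra hc
  push Not at hc
  have hs := IsAlgClosed.splits P
  have hprod : ‖P.coeff 0‖ = (P.roots.map fun r => ‖r‖).prod := by
    rw [hs.coeff_zero_eq_prod_roots_of_monic hP, norm_mul, norm_pow, norm_neg, norm_one, one_pow,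
      one_mul]
    exact Multiset.prod_hom (P.roots) (normHom : ℂ →*₀ ℝ) |>.symm
  have hle : ε ^ P.natDegree ≤ (P.roots.map fun r => ‖r‖).prod := by
    rw [hs.natDegree_eq_card_roots]
    have : ∀ r ∈ P.roots, ε ≤ ‖r‖ := fun r hr => hc r (isRoot_of_mem_roots hr)
    clear hprod h hc hd hP
    revert this
    induction P.roots using Multiset.induction_on with
    | empty => simp
    | cons a s ih =>
      intro this
      rw [Multiset.card_cons, pow_succ', Multiset.map_cons, Multiset.prod_cons]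
      exact mul_le_mul (this a (by simp)) (ih fun r hr => this r (Multiset.mem_cons_of_mem hr))
        (by positivity) (norm_nonneg _)
  linarith

/-- An element with a monic minimal polynomial takes every root as a value. -/
theorem exists_algHom_eq_root [Algebra ℂ R] [Algebra ℂ A] [IsScalarTower ℂ R A] [IsDomain A]
    [IsDomain R] [IsIntegrallyClosed R] [FaithfulSMul R A] [Algebra.IsIntegral R A]
    [Algebra.FiniteType ℂ A] (t : R →ₐ[ℂ] ℂ) (a : A) (z : ℂ)
    (hz : ((minpoly R a).map (t : R →+* ℂ)).eval z = 0) :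
    ∃ ψ : A →ₐ[ℂ] ℂ, (∀ r, ψ (algebraMap R A r) = t r) ∧ ψ a = z := by
  let θ₀ : R[X] →+* ℂ := Polynomial.eval₂RingHom (t : R →+* ℂ) z
  let e : R[X] →+* A := (Polynomial.aeval a).toRingHom
  let B := Algebra.adjoin R {a}
  have hker : RingHom.ker e ≤ RingHom.ker θ₀ := by
    rw [minpoly.ker_eval (Algebra.IsIntegral.isIntegral a), Ideal.span_le]
    simp only [Set.singleton_subset_iff, SetLike.mem_coe, RingHom.mem_ker]
    show Polynomial.eval₂ (t : R →+* ℂ) z (minpoly R a) = 0
    rwa [← Polynomial.eval_map]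
  have : Algebra.IsIntegral B A := Algebra.IsIntegral.tower_top R
  let eB : R[X] →+* B := ((Polynomial.aeval a).codRestrict B
    fun p => Polynomial.aeval_mem_adjoin_singleton R a).toRingHom
  have heB : Function.Surjective eB := by
    rintro ⟨b, hb⟩
    obtain ⟨p, rfl⟩ := (Algebra.adjoin_singleton_eq_range_aeval R a).le hb
    exact ⟨p, Subtype.ext rfl⟩
  let θ : B →+* ℂ := RingHom.liftOfSurjective eB heB ⟨θ₀, fun p hp => hker (by
    rw [RingHom.mem_ker] at hp ⊢
    exact congrArg Subtype.val hp)⟩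
  have hθ : θ.comp eB = θ₀ := RingHom.liftOfRightInverse_comp _ _ _ _
  have hθR : ∀ r : R, θ (algebraMap R B r) = t r := fun r => by
    have h1 : eB (C r) = algebraMap R B r := Subtype.ext (by simp [eB])
    rw [← h1, ← RingHom.comp_apply, hθ]
    simp [θ₀]
  have hθsurj : Function.Surjective θ := fun c => ⟨algebraMap R B (algebraMap ℂ R c), by
    rw [hθR, AlgHom.commutes]; rfl⟩
  have hmax : (RingHom.ker θ).IsMaximal := RingHom.ker_isMaximal_of_surjective θ hθsurj
  obtain ⟨Q, hQ, hQc⟩ := Ideal.exists_ideal_over_maximal_of_isIntegral (S := A) (RingHom.ker θ)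
    (fun b hb => by
      rw [RingHom.mem_ker] at hb
      rw [show b = 0 from Subtype.ext hb]; exact zero_mem _)
  let _ := Ideal.Quotient.field Q
  have : Algebra.IsIntegral ℂ (A ⧸ Q) := by
    have : Module.Finite ℂ (A ⧸ Q) := finite_of_finite_type_of_isJacobsonRing ℂ (A ⧸ Q)
    infer_instance
  let eq : ℂ ≃ₐ[ℂ] A ⧸ Q := AlgEquiv.ofBijective (Algebra.ofId ℂ (A ⧸ Q))
    IsAlgClosed.algebraMap_bijective_of_isIntegral
  let ψ : A →ₐ[ℂ] ℂ := eq.symm.toAlgHom.comp (Ideal.Quotient.mkₐ ℂ Q)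
  have hψB : ∀ b : B, ψ b = θ b := fun b => by
    obtain ⟨c, hc⟩ : ∃ c : ℂ, θ b = c := ⟨_, rfl⟩
    let b₀ : B := algebraMap R B (algebraMap ℂ R c)
    have h0 : b - b₀ ∈ RingHom.ker θ := by
      simp [RingHom.mem_ker, b₀, hθR, hc]
    rw [← hQc, Ideal.mem_comap] at h0
    have h1 : ψ ((b - b₀ : B) : A) = 0 := by
      show eq.symm (Ideal.Quotient.mk Q _) = 0
      rw [(Ideal.Quotient.eq_zero_iff_mem (a := ((b - b₀ : B) : A))).mpr h0, map_zero]
    rw [Subalgebra.coe_sub, map_sub, sub_eq_zero] at h1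
    rw [h1, hc, show ((b₀ : B) : A) = algebraMap ℂ A c from
      (IsScalarTower.algebraMap_apply ℂ R A c).symm, AlgHom.commutes]
    rfl
  refine ⟨ψ, fun r => (hψB (algebraMap R B r)).trans (hθR r), ?_⟩
  have h1 : (eB X : A) = a := Polynomial.aeval_X a
  conv_lhs => rw [← h1]
  rw [hψB, ← RingHom.comp_apply, hθ]
  exact Polynomial.eval₂_X _ _

/-- Nonvanishing points of a nonzero function are dense near any point (finite over a polynomial ring). -/
theorem mem_closure_ne_zero_of_finite {d : ℕ} (A : Type) [CommRing A] [IsDomain A] [Algebra ℂ A]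
    [Algebra (MvPolynomial (Fin d) ℂ) A] [IsScalarTower ℂ (MvPolynomial (Fin d) ℂ) A]
    [FaithfulSMul (MvPolynomial (Fin d) ℂ) A] [Module.Finite (MvPolynomial (Fin d) ℂ) A]
    (χ : A →ₐ[ℂ] ℂ) (g : A) (hg : g ≠ 0) :
    (⇑χ : A → ℂ) ∈ closure ((fun ψ : A →ₐ[ℂ] ℂ => (⇑ψ : A → ℂ)) '' {ψ | ψ g ≠ 0}) := by
  have : Algebra.FiniteType ℂ A :=
    Algebra.FiniteType.trans (R := ℂ) (S := MvPolynomial (Fin d) ℂ) inferInstance inferInstance
  let t₀ : (MvPolynomial (Fin d) ℂ) →ₐ[ℂ] ℂ := χ.comp (IsScalarTower.toAlgHom ℂ (MvPolynomial (Fin d) ℂ) A)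
  let x₀ : Fin d → ℂ := fun i => t₀ (MvPolynomial.X i)
  have ht₀ : MvPolynomial.aeval x₀ = t₀ := (MvPolynomial.aeval_unique t₀).symm
  let F : Set (A →ₐ[ℂ] ℂ) := {ψ | ψ.comp (IsScalarTower.toAlgHom ℂ (MvPolynomial (Fin d) ℂ) A) = t₀}
  have hFfin : F.Finite := by
    let I : Ideal A := (RingHom.ker t₀).map (algebraMap (MvPolynomial (Fin d) ℂ) A)
    have hfin : Module.Finite ℂ (A ⧸ I) := by
      let _ : Algebra (MvPolynomial (Fin d) ℂ) ℂ := t₀.toRingHom.toAlgebra
      have hs : Function.Surjective (algebraMap (MvPolynomial (Fin d) ℂ) ℂ) := fun c => ⟨algebraMap ℂ (MvPolynomial (Fin d) ℂ) c, t₀.commutes c⟩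
      have : IsScalarTower ℂ (MvPolynomial (Fin d) ℂ) ℂ := .of_algebraMap_eq fun c => (t₀.commutes c).symm
      obtain ⟨s, hspan⟩ := Module.Finite.fg_top (R := MvPolynomial (Fin d) ℂ) (M := A)
      classical
      refine ⟨⟨s.image (Ideal.Quotient.mk I), ?_⟩⟩
      rw [eq_top_iff]
      rintro q -
      obtain ⟨a, rfl⟩ := Ideal.Quotient.mk_surjective q
      have ha : a ∈ Submodule.span (MvPolynomial (Fin d) ℂ) (s : Set A) := by rw [hspan]; exact Submodule.mem_top
      induction ha using Submodule.span_induction with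
      | mem x hx => exact Submodule.subset_span (by simpa using ⟨x, hx, rfl⟩)
      | zero => simp
      | add x y _ _ hx hy => rw [map_add]; exact add_mem hx hy
      | smul r x _ hx =>
        have : Ideal.Quotient.mk I (r • x) = (t₀ r) • Ideal.Quotient.mk I x := by
          rw [Algebra.smul_def, map_mul, Algebra.smul_def]
          congr 1
          refine (Ideal.Quotient.eq.mpr ?_).trans rfl
          rw [IsScalarTower.algebraMap_apply ℂ (MvPolynomial (Fin d) ℂ) A, ← map_sub]
          exact Ideal.mem_map_of_mem _ (by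
            rw [RingHom.mem_ker, map_sub, AlgHom.commutes]; exact sub_self _)
        rw [this]
        exact Submodule.smul_mem _ _ hx
    refine (Set.finite_range fun φ : (A ⧸ I) →ₐ[ℂ] ℂ => φ.comp (Ideal.Quotient.mkₐ ℂ I)).subset ?_
    intro ψ hψ
    have hI : ∀ a : A, a ∈ I → ψ a = 0 := by
      intro a ha
      refine (Ideal.map_le_iff_le_comap.mpr fun r hr => ?_ : I ≤ RingHom.ker ψ) ha
      show ψ (algebraMap (MvPolynomial (Fin d) ℂ) A r) = 0
      exact (AlgHom.congr_fun hψ r).trans hr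
    exact ⟨Ideal.Quotient.liftₐ I ψ hI, AlgHom.ext fun a => rfl⟩
  obtain ⟨a, haχ, ha⟩ : ∃ a : A, χ a = 0 ∧ ∀ ψ ∈ F, ψ a = 0 → ψ = χ := by
    classical
    let S := hFfin.toFinset.filter (· ≠ χ)
    have : ¬ ((RingHom.ker χ : Ideal A) : Set A) ⊆ ⋃ ψ ∈ (S : Set (A →ₐ[ℂ] ℂ)), ↑(RingHom.ker ψ) := by
      rw [Ideal.subset_union_prime χ χ fun ψ _ _ _ => RingHom.ker_isPrime ψ]
      rintro ⟨ψ, hψS, hle⟩
      refine (Finset.mem_filter.mp hψS).2 (AlgHom.ext fun a => ?_)
      have := hle (x := a - algebraMap ℂ A (χ a)) (by simp [RingHom.mem_ker])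
      simpa [RingHom.mem_ker, sub_eq_zero] using this
    obtain ⟨a, haχ, ha⟩ := Set.not_subset.mp this
    refine ⟨a, haχ, fun ψ hψ h0 => by_contra fun hne => ha ?_⟩
    exact Set.mem_iUnion₂.mpr ⟨ψ, Finset.mem_filter.mpr ⟨hFfin.mem_toFinset.mpr hψ, hne⟩, h0⟩
  have hint : ∀ b : A, IsIntegral (MvPolynomial (Fin d) ℂ) b := Algebra.IsIntegral.isIntegral
  let h : (MvPolynomial (Fin d) ℂ) := (minpoly (MvPolynomial (Fin d) ℂ) g).coeff 0
  have hh : h ≠ 0 := by
    intro h0
    obtain ⟨q, hq⟩ : X ∣ minpoly (MvPolynomial (Fin d) ℂ) g := Polynomial.X_dvd_iff.mpr h0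
    have haev := minpoly.aeval (MvPolynomial (Fin d) ℂ) g
    rw [hq, map_mul, aeval_X, mul_eq_zero] at haev
    have hq0 : q ≠ 0 := fun h0 => minpoly.ne_zero (hint g) (by rw [hq, h0, mul_zero])
    have := minpoly.IsIntegrallyClosed.degree_le_of_ne_zero hq0 (haev.resolve_left hg)
    rw [hq, degree_mul, degree_X, degree_eq_natDegree hq0] at this
    exact absurd this (by exact_mod_cast (by omega : ¬ (1 + q.natDegree ≤ q.natDegree)))
  have hgh : ∀ ψ : A →ₐ[ℂ] ℂ, ψ (algebraMap (MvPolynomial (Fin d) ℂ) A h) ≠ 0 → ψ g ≠ 0 := by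
    intro ψ hψ h0
    apply hψ
    have e := congrArg ψ (minpoly.aeval (MvPolynomial (Fin d) ℂ) g)
    rw [Polynomial.aeval_eq_sum_range, map_sum, map_zero, Finset.sum_range_succ'] at e
    rw [Algebra.smul_def, pow_zero, mul_one] at e
    simpa [Algebra.smul_def, h0] using e
  let coefs : A → (Fin d → ℂ) → ℕ → ℂ := fun b x i => MvPolynomial.eval x ((minpoly (MvPolynomial (Fin d) ℂ) b).coeff i)
  obtain ⟨B, hB⟩ : ∃ B : A → ℝ, ∀ x ∈ Metric.closedBall x₀ 1, ∀ b,
      1 + ∑ i ∈ Finset.range (minpoly (MvPolynomial (Fin d) ℂ) b).natDegree, ‖coefs b x i‖ ≤ B b := by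
    have hb : ∀ b, ∃ c, ∀ x ∈ Metric.closedBall x₀ 1,
        1 + ∑ i ∈ Finset.range (minpoly (MvPolynomial (Fin d) ℂ) b).natDegree, ‖coefs b x i‖ ≤ c := fun b => by
      obtain ⟨c, hc⟩ := (isCompact_closedBall x₀ 1).exists_bound_of_continuousOn
        (f := fun x => 1 + ∑ i ∈ Finset.range (minpoly (MvPolynomial (Fin d) ℂ) b).natDegree, ‖coefs b x i‖)
        (Continuous.continuousOn (continuous_const.add (continuous_finsetSum _ fun i _ =>
          (MvPolynomial.continuous_eval _).norm)))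
      exact ⟨c, fun x hx => (le_abs_self _).trans (hc x hx)⟩
    choose c hc using hb
    exact ⟨c, fun x hx b => hc b x hx⟩
  let K : Set (A → ℂ) := Set.univ.pi fun b => Metric.closedBall 0 (B b)
  let E : Set (A → ℂ) := (fun ψ : A →ₐ[ℂ] ℂ => (⇑ψ : A → ℂ)) '' {ψ | ψ g ≠ 0}
  let p : (A → ℂ) → (Fin d → ℂ) × ℂ := fun f => (fun i => f (algebraMap (MvPolynomial (Fin d) ℂ) A (MvPolynomial.X i)), f a)
  have hp : Continuous p :=
    (continuous_pi fun i => continuous_apply _).prodMk (continuous_apply a)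
  have hKc : IsCompact (closure E ∩ K) :=
    (isCompact_univ_pi fun b => isCompact_closedBall 0 (B b)).inter_left isClosed_closure
  have himg : IsClosed (p '' (closure E ∩ K)) := (hKc.image hp).isClosed
  have h0mem : (x₀, (0 : ℂ)) ∈ p '' (closure E ∩ K) := by
    refine himg.closure_subset (Metric.mem_closure_iff.mpr fun ε hε => ?_)
    set D := (minpoly (MvPolynomial (Fin d) ℂ) a).natDegree
    have hD : D ≠ 0 := (minpoly.natDegree_pos (hint a)).ne'
    have hcoef : MvPolynomial.eval x₀ ((minpoly (MvPolynomial (Fin d) ℂ) a).coeff 0) = 0 := by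
      have e := congrArg χ (minpoly.aeval (MvPolynomial (Fin d) ℂ) a)
      rw [Polynomial.aeval_eq_sum_range, map_sum, map_zero, Finset.sum_range_succ'] at e
      simp only [Algebra.smul_def, map_mul, map_pow, haχ, pow_zero, mul_one, ne_eq,
        Nat.succ_ne_zero, not_false_eq_true, zero_pow, mul_zero, Finset.sum_const_zero, zero_add] at e
      rw [← e]
      exact (AlgHom.congr_fun ht₀ _)
    obtain ⟨δ, hδ, hδ'⟩ := Metric.continuous_iff.mp
      (MvPolynomial.continuous_eval ((minpoly (MvPolynomial (Fin d) ℂ) a).coeff 0)) x₀ (ε ^ D) (by positivity)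
    obtain ⟨v, hv⟩ : ∃ v, MvPolynomial.eval (x₀ + v) h ≠ 0 := by
      by_contra hc
      push Not at hc
      exact hh (MvPolynomial.funext fun x => by simpa using hc (x - x₀))
    let line : Fin d → ℂ[X] := fun i => C (x₀ i) + X * C (v i)
    let hl : ℂ[X] := MvPolynomial.aeval line h
    have hline : ∀ s : ℂ, hl.eval s = MvPolynomial.eval (x₀ + s • v) h := fun s => by
      show (Polynomial.aeval s).comp (MvPolynomial.aeval line) h = _
      rw [MvPolynomial.comp_aeval]
      refine (congrArg (fun w => MvPolynomial.aeval w h) (funext fun i => ?_)).trans rfl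
      simp [line]
      ring
    have hl0 : hl ≠ 0 := fun h0 => hv (by simpa [h0] using (hline 1).symm)
    have hev : ∀ᶠ s : ℂ in 𝓝[≠] 0, dist (x₀ + s • v) x₀ < min (min δ ε) 1 ∧ hl.eval s ≠ 0 := by
      refine Filter.Eventually.and ?_ ?_
      · have hc : Continuous fun s : ℂ => x₀ + s • v := by fun_prop
        have := (hc.tendsto 0).eventually (Metric.ball_mem_nhds (x₀ + (0 : ℂ) • v)
          (show (0 : ℝ) < min (min δ ε) 1 by positivity))
        refine nhdsWithin_le_nhds (this.mono fun s hs => ?_)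
        simpa using hs
      · have hfin : ({s : ℂ | hl.eval s = 0} \ {0}).Finite :=
          (finite_setOfPred_isRoot hl0).subset fun s hs => hs.1
        filter_upwards [self_mem_nhdsWithin, nhdsWithin_le_nhds (hfin.isClosed.isOpen_compl.mem_nhds
          fun hc => hc.2 rfl)] with s hs hs'
        exact fun h0 => hs' ⟨h0, hs⟩
    obtain ⟨s, hs, hsh⟩ := hev.exists
    set x := x₀ + s • v
    let t : (MvPolynomial (Fin d) ℂ) →ₐ[ℂ] ℂ := MvPolynomial.aeval x
    have hxB : x ∈ Metric.closedBall x₀ 1 := (hs.le.trans (min_le_right _ _))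
    have hP : ((minpoly (MvPolynomial (Fin d) ℂ) a).map (t : (MvPolynomial (Fin d) ℂ) →+* ℂ)).Monic := (minpoly.monic (hint a)).map _
    obtain ⟨z, hz, hzε⟩ := exists_root_norm_lt hP (by rwa [(minpoly.monic (hint a)).natDegree_map]) hε
      (by
        rw [(minpoly.monic (hint a)).natDegree_map, coeff_map]
        have := hδ' x (hs.trans_le ((min_le_left _ _).trans (min_le_left _ _)))
        rw [hcoef, dist_zero_right] at this
        exact this)
    obtain ⟨ψ, hψR, hψa⟩ := exists_algHom_eq_root t a z hz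
    refine ⟨p ψ, ⟨ψ, ⟨subset_closure ⟨ψ, hgh ψ ?_, rfl⟩, fun b _ => ?_⟩, rfl⟩, ?_⟩
    · rw [hψR]
      show MvPolynomial.eval x h ≠ 0
      rwa [← hline]
    · rw [Metric.mem_closedBall, dist_zero_right]
      refine le_trans ?_ (hB x hxB b)
      have hroot : ((minpoly (MvPolynomial (Fin d) ℂ) b).map (t : (MvPolynomial (Fin d) ℂ) →+* ℂ)).eval (ψ b) = 0 := by
        rw [Polynomial.eval_map]
        have e := congrArg ψ (minpoly.aeval (MvPolynomial (Fin d) ℂ) b)
        rw [map_zero, Polynomial.aeval_def, show ψ (eval₂ (algebraMap (MvPolynomial (Fin d) ℂ) A) b (minpoly (MvPolynomial (Fin d) ℂ) b)) =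
          eval₂ ((ψ : A →+* ℂ).comp (algebraMap (MvPolynomial (Fin d) ℂ) A)) (ψ b) (minpoly (MvPolynomial (Fin d) ℂ) b) from
          Polynomial.hom_eval₂ _ _ (ψ : A →+* ℂ) _] at e
        rwa [show (ψ : A →+* ℂ).comp (algebraMap (MvPolynomial (Fin d) ℂ) A) = (t : (MvPolynomial (Fin d) ℂ) →+* ℂ) from RingHom.ext hψR] at e
      refine (norm_le_of_root ((minpoly.monic (hint b)).map _) hroot).trans ?_
      rw [(minpoly.monic (hint b)).natDegree_map]
      simp only [coeff_map]
      exact le_rfl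
    · rw [Prod.dist_eq, max_lt_iff]
      refine ⟨?_, ?_⟩
      · have : (p ψ).1 = x := funext fun i => (hψR _).trans (MvPolynomial.aeval_X x i)
        rw [this, dist_comm]
        exact hs.trans_le ((min_le_left _ _).trans (min_le_right _ _))
      · show dist (0 : ℂ) (ψ a) < ε
        rw [hψa, dist_zero_left]
        exact hzε
  obtain ⟨f, ⟨hfE, -⟩, hfp⟩ := h0mem
  obtain ⟨ψ, rfl⟩ : f ∈ Set.range fun ψ : A →ₐ[ℂ] ℂ => (⇑ψ : A → ℂ) :=
    (isClosed_range_algHom A).closure_subset_iff.mpr (Set.image_subset_range _ _) hfE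
  rw [Prod.ext_iff] at hfp
  have hψ : ψ = χ := ha ψ (MvPolynomial.algHom_ext fun i => congrFun hfp.1 i) hfp.2
  rwa [hψ] at hfE

/-- If a prime below the kernel of a complex point does not contain g, then points with g ≠ 0
accumulate at it. -/
theorem mem_closure_ne_zero {A : Type} [CommRing A] [Algebra ℂ A] [Algebra.FiniteType ℂ A]
    (χ : A →ₐ[ℂ] ℂ) (g : A) (Q : Ideal A) [Q.IsPrime] (hQ : Q ≤ RingHom.ker χ) (hg : g ∉ Q) :
    (⇑χ : A → ℂ) ∈ closure ((fun ψ : A →ₐ[ℂ] ℂ => (⇑ψ : A → ℂ)) '' {ψ | ψ g ≠ 0 ∧ Q ≤ RingHom.ker ψ}) := by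
  let χ' : (A ⧸ Q) →ₐ[ℂ] ℂ := Ideal.Quotient.liftₐ Q χ fun a ha => hQ ha
  obtain ⟨d, φ, hinj, hfin⟩ := exists_finite_inj_algHom_of_fg ℂ (A ⧸ Q)
  let _ := φ.toRingHom.toAlgebra
  have : IsScalarTower ℂ (MvPolynomial (Fin d) ℂ) (A ⧸ Q) :=
    .of_algebraMap_eq fun c => (φ.commutes c).symm
  have : FaithfulSMul (MvPolynomial (Fin d) ℂ) (A ⧸ Q) :=
    (faithfulSMul_iff_algebraMap_injective _ _).mpr hinj
  have : Module.Finite (MvPolynomial (Fin d) ℂ) (A ⧸ Q) := hfin
  have h := mem_closure_ne_zero_of_finite (d := d) (A ⧸ Q) χ' (Ideal.Quotient.mk Q g)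
    (fun h0 => hg (Ideal.Quotient.eq_zero_iff_mem.mp h0))
  let r : ((A ⧸ Q) → ℂ) → (A → ℂ) := fun f a => f (Ideal.Quotient.mk Q a)
  have hr : Continuous r := continuous_pi fun a => continuous_apply _
  have h2 := mem_closure_image (f := r) hr.continuousAt h
  have e : r ⇑χ' = (⇑χ : A → ℂ) := funext fun a => rfl
  rw [e] at h2
  refine closure_mono ?_ h2
  rintro _ ⟨_, ⟨ψ, hψ, rfl⟩, rfl⟩
  refine ⟨ψ.comp (Ideal.Quotient.mkₐ ℂ Q), ⟨hψ, fun a ha => ?_⟩, rfl⟩
  show ψ (Ideal.Quotient.mk Q a) = 0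
  rw [Ideal.Quotient.eq_zero_iff_mem.mpr ha, map_zero]

end Groth.L02.An
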