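import Groth.Agent.L02.An.Affine
import Groth.Agent.L02.An.Near
import Mathlib.AlgebraicGeometry.Noetherian
import Mathlib.Topology.Constructible
import Mathlib.Topology.NoetherianSpace
import Mathlib.Topology.Sober

/-!
Closures of constructible sets and of their sets of complex points.
-/

noncomputable section

open AlgebraicGeometry CategoryTheory TopologicalSpace Opposite Filter Topology

namespace Groth.L02.An

open _root_.An

/-- In a Noetherian sober space the closure of a constructible set consists of specializations. -/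
theorem exists_specializes_of_mem_closure {T : Type*} [TopologicalSpace T] [NoetherianSpace T]
    [QuasiSober T] {s : Set T} (hs : Topology.IsConstructible s) {x : T} (hx : x ∈ closure s) :
    ∃ (q : T) (V : Set T), IsOpen V ∧ q ∈ V ∧ V ∩ closure {q} ⊆ s ∧ q ⤳ x := by
  revert hx
  have hb : IsTopologicalBasis (Set.range fun U : Opens T => (U : Set T)) :=
    TopologicalSpace.isTopologicalBasis_of_isOpen_of_nhds
      (by rintro _ ⟨U, rfl⟩; exact U.2)
      (fun a u ha hu => ⟨u, ⟨⟨u, hu⟩, rfl⟩, ha, subset_rfl⟩)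
  induction s, hs using IsConstructible.induction_of_isTopologicalBasis (fun U : Opens T => (U : Set T))
    hb (fun U => NoetherianSpace.isCompact _) with
  | union s hs t ht ihs iht =>
    intro hx
    rw [closure_union] at hx
    rcases hx with h | h
    · obtain ⟨q, V, hV, hq, hVs, hqx⟩ := ihs h
      exact ⟨q, V, hV, hq, hVs.trans Set.subset_union_left, hqx⟩
    · obtain ⟨q, V, hV, hq, hVs, hqx⟩ := iht h
      exact ⟨q, V, hV, hq, hVs.trans Set.subset_union_right, hqx⟩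
  | sdiff V W hW =>
    intro hx
    have hC : IsClosed (⋃ j ∈ W, (j : Set T))ᶜ :=
      (isOpen_biUnion fun j _ => j.2).isClosed_compl
    obtain ⟨S, hSf, hSc, hSi, hSU⟩ := NoetherianSpace.exists_finite_set_isClosed_irreducible hC
    let S' : Set (Set T) := {Z | Z ∈ S ∧ ((V : Set T) ∩ Z).Nonempty}
    have hsub : (V : Set T) \ (⋃ j ∈ W, (j : Set T)) ⊆ ⋃₀ S' := by
      rintro y ⟨hyV, hy⟩
      obtain ⟨Z, hZ, hyZ⟩ := Set.mem_sUnion.mp (hSU ▸ (show y ∈ (⋃ j ∈ W, (j : Set T))ᶜ from hy))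
      exact ⟨Z, ⟨hZ, y, hyV, hyZ⟩, hyZ⟩
    have hcl : IsClosed (⋃₀ S') :=
      Set.sUnion_eq_biUnion ▸ (hSf.subset fun Z (hZ : Z ∈ S') => hZ.1).isClosed_biUnion
        (fun Z (hZ : Z ∈ S') => hSc Z hZ.1)
    obtain ⟨Z, ⟨hZS, y, hyV, hyZ⟩, hxZ⟩ := Set.mem_sUnion.mp (hcl.closure_subset (closure_mono hsub hx))
    obtain ⟨q, hq⟩ := QuasiSober.sober (hSi Z hZS) (hSc Z hZS)
    refine ⟨q, V, V.2, (hq.specializes hyZ).mem_open V.2 hyV, ?_, hq.specializes hxZ⟩
    rintro z ⟨hzV, hz⟩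
    refine ⟨hzV, ?_⟩
    show z ∈ (⋃ j ∈ W, (j : Set T))ᶜ
    rw [hSU]
    exact ⟨Z, hZS, by rwa [← hq.def]⟩

variable {X : Scheme.{0}} [X.Over SC]

theorem pt_eq_fromSpec (x : Pts X) {U : X.Opens} (hU : IsAffineOpen U) (h : x.pt ∈ U) :
    x.pt = hU.fromSpec (⟨RingHom.ker (val x U h), RingHom.ker_isPrime _⟩ : PrimeSpectrum Γ(X, U)) := by
  conv_lhs => rw [Pts.pt, ← SpecMap_val_fromSpec x hU h, Scheme.Hom.comp_apply]
  congr 1

/-- Complex points of an open part of a subvariety are dense among those of its closure. -/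
theorem mem_closure_of_specializes [LocallyOfFiniteType (X ↘ SC)] {V : Set X} (hV : IsOpen V)
    {q : X} (hq : q ∈ V) (x : Pts X) (h : q ⤳ x.pt) :
    x ∈ closure (Pts.pt ⁻¹' (V ∩ closure {q}) : Set (Pts X)) := by
  obtain ⟨U, hU, hxU⟩ := exists_affine_mem x
  have hqU : q ∈ U := h.mem_open U.2 hxU
  let _ : Algebra ℂ Γ(X, U) := (str X U).toAlgebra
  have : Algebra.FiniteType ℂ Γ(X, U) := finiteType_str hU
  let χ : Γ(X, U) →ₐ[ℂ] ℂ := { val x U hxU with commutes' := val_str x U hxU }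
  set P : PrimeSpectrum Γ(X, U) := hU.primeIdealOf ⟨q, hqU⟩
  have hPq : hU.fromSpec P = q := hU.fromSpec_primeIdealOf ⟨q, hqU⟩
  have hle : P.asIdeal ≤ RingHom.ker (val x U hxU) := by
    rw [pt_eq_fromSpec x hU hxU, ← hPq] at h
    exact (PrimeSpectrum.le_iff_specializes P _).mpr
      (hU.fromSpec.isOpenEmbedding.isInducing.specializes_iff.mp h)
  obtain ⟨g, hgV, hqg⟩ := hU.exists_basicOpen_le (V := ⟨V, hV⟩) ⟨q, hq⟩ hqU
  have hg : g ∉ P.asIdeal := by
    have h1 : P ∈ hU.fromSpec ⁻¹ᵁ X.basicOpen g := by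
      show hU.fromSpec P ∈ X.basicOpen g
      rw [hPq]; exact hqg
    rw [hU.fromSpec_preimage_basicOpen] at h1
    exact h1
  have key := mem_closure_ne_zero χ g P.asIdeal hle hg
  let S := {ψ : Γ(X, U) →ₐ[ℂ] ℂ // ψ g ≠ 0 ∧ P.asIdeal ≤ RingHom.ker ψ}
  let F : S → Pts X := fun ψ => mkPt hU (ψ.1 : Γ(X, U) →+* ℂ) (RingHom.ext ψ.1.commutes)
  let l : Filter S := comap (fun ψ : S => (⇑ψ.1 : Γ(X, U) → ℂ)) (𝓝 ⇑χ)
  have : l.NeBot := by
    refine comap_neBot fun t ht => ?_
    obtain ⟨_, h1, ψ, hψ, rfl⟩ := mem_closure_iff_nhds.mp key t ht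
    exact ⟨⟨ψ, hψ⟩, h1⟩
  have hF : Tendsto F l (𝓝 x) := by
    refine (tendsto_nhds hU hxU).mpr ⟨Eventually.of_forall fun ψ => pt_mkPt_mem _ _ _, fun f => ?_⟩
    have h1 : Tendsto (fun ψ : S => (⇑ψ.1 : Γ(X, U) → ℂ) f) l (𝓝 (χ f)) :=
      ((continuous_apply f).tendsto _).comp tendsto_comap
    refine h1.congr fun ψ => ?_
    rw [evF_of_mem f (pt_mkPt_mem _ _ _)]
    exact (congr($(val_mkPt hU (ψ.1 : Γ(X, U) →+* ℂ) (RingHom.ext ψ.1.commutes)) f)).symm
  refine mem_closure_of_tendsto hF (Eventually.of_forall fun ψ => ⟨?_, ?_⟩)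
  · refine hgV ((mem_basicOpen_iff (F ψ) (pt_mkPt_mem _ _ _) g).mpr ?_)
    have := congr($(val_mkPt hU (ψ.1 : Γ(X, U) →+* ℂ) (RingHom.ext ψ.1.commutes)) g)
    rw [val_apply] at this
    rw [this]
    exact ψ.2.1
  · rw [← specializes_iff_mem_closure, pt_eq_fromSpec (F ψ) hU (pt_mkPt_mem _ _ _), ← hPq]
    refine Specializes.map ((PrimeSpectrum.le_iff_specializes P _).mp ?_) hU.fromSpec.continuous
    intro a ha
    have := congr($(val_mkPt hU (ψ.1 : Γ(X, U) →+* ℂ) (RingHom.ext ψ.1.commutes)) a)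
    show _ ∈ RingHom.ker _
    rw [RingHom.mem_ker, this]
    exact ψ.2.2 ha

theorem isLocallyNoetherian [LocallyOfFiniteType (X ↘ SC)] : IsLocallyNoetherian X :=
  LocallyOfFiniteType.isLocallyNoetherian (X ↘ SC)

/-- The complex points in the closure of a constructible set are the closure of its complex points. -/
theorem preimage_closure [LocallyOfFiniteType (X ↘ SC)] {T : Set X}
    (hT : IsLocallyConstructible T) :
    (Pts.pt ⁻¹' closure T : Set (Pts X)) = closure (Pts.pt ⁻¹' T) := by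
  refine subset_antisymm (fun x hx => ?_) (Pts.continuous_pt.closure_preimage_subset T)
  have := isLocallyNoetherian (X := X)
  obtain ⟨U, hU, hxU⟩ := exists_affine_mem x
  have : IsNoetherianRing Γ(X, U) := IsLocallyNoetherian.component_noetherian ⟨U, hU⟩
  have : NoetherianSpace U.toScheme := noetherianSpace_of_isAffineOpen U hU
  have hs : Topology.IsConstructible (U.ι ⁻¹' T) :=
    (hT.preimage_of_isOpenEmbedding U.ι.isOpenEmbedding).isConstructible
  have hx' : (⟨x.pt, hxU⟩ : U.toScheme) ∈ closure (U.ι ⁻¹' T) := by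
    rw [← U.ι.isOpenEmbedding.isOpenMap.preimage_closure_eq_closure_preimage U.ι.continuous]
    exact hx
  obtain ⟨q, V, hVo, hqV, hV, hqx⟩ := exists_specializes_of_mem_closure hs hx'
  refine closure_mono (Set.preimage_mono ?_) (mem_closure_of_specializes
    (U.ι.isOpenEmbedding.isOpenMap V hVo) ⟨q, hqV, rfl⟩ x (hqx.map U.ι.continuous))
  rintro _ ⟨⟨z, hz, rfl⟩, hzc⟩
  refine hV ⟨hz, ?_⟩
  rw [← Set.image_singleton] at hzc
  rw [U.ι.isOpenEmbedding.isInducing.closure_eq_preimage_closure_image]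
  exact hzc

end Groth.L02.An
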