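import Groth.Agent.L02.An.Constructible
import Mathlib.AlgebraicGeometry.Morphisms.Flat

/-!
Complex points of fibre products, immersions, separatedness.
-/

set_option linter.unusedSectionVars false

noncomputable section

open AlgebraicGeometry CategoryTheory CategoryTheory.Limits TopologicalSpace Opposite Filter Topology

namespace Groth.L02.An

open _root_.An

theorem isPushout_closure_eq_top {A B C D : CommRingCat.{0}} {f : A ⟶ B} {g : A ⟶ C} {i : B ⟶ D}
    {j : C ⟶ D} (h : IsPushout f g i j) :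
    Subring.closure (Set.range i ∪ Set.range j) = ⊤ := by
  set S := Subring.closure (Set.range i ∪ Set.range j)
  let i' : B ⟶ CommRingCat.of S :=
    CommRingCat.ofHom (i.hom.codRestrict S fun b => Subring.subset_closure (Or.inl ⟨b, rfl⟩))
  let j' : C ⟶ CommRingCat.of S :=
    CommRingCat.ofHom (j.hom.codRestrict S fun b => Subring.subset_closure (Or.inr ⟨b, rfl⟩))
  have hw : f ≫ i' = g ≫ j' := by
    ext a
    exact congr($h.w a)
  have hid : h.desc i' j' hw ≫ CommRingCat.ofHom S.subtype = 𝟙 D := by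
    apply h.hom_ext
    · rw [h.inl_desc_assoc, Category.comp_id]; rfl
    · rw [h.inr_desc_assoc, Category.comp_id]; rfl
  rw [Subring.eq_top_iff']
  intro d
  have := congr($hid d)
  rw [← show ((h.desc i' j' hw) d : S).1 = d from this]
  exact (h.desc i' j' hw d).2

variable {X Y S : Scheme.{0}} [X.Over SC] [Y.Over SC] [S.Over SC]

/-- The comparison map to the fibre product of spaces. -/
def toFibreProd (f : X ⟶ S) (g : Y ⟶ S) [f.IsOver SC] [g.IsOver SC] (z : Pts (pullback f g)) :
    {q : Pts X × Pts Y // Pts.map f q.1 = Pts.map g q.2} :=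
  ⟨(Pts.map (pullback.fst f g) z, Pts.map (pullback.snd f g) z), Pts.map_pullback_condition f g z⟩

theorem toFibreProd_bijective (f : X ⟶ S) (g : Y ⟶ S) [f.IsOver SC] [g.IsOver SC] :
    Function.Bijective (toFibreProd f g) := by
  refine ⟨fun a b h => Subtype.ext (pullback.hom_ext ?_ ?_), ?_⟩
  · exact congrArg (fun q => q.1.1.1) h
  · exact congrArg (fun q => q.1.2.1) h
  · rintro ⟨⟨x, y⟩, h⟩
    refine ⟨⟨pullback.lift x.1 y.1 (congrArg Subtype.val h), ?_⟩,
      Subtype.ext (Prod.ext (Subtype.ext (pullback.lift_fst _ _ _)) (Subtype.ext (pullback.lift_snd _ _ _)))⟩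
    show pullback.lift x.1 y.1 _ ≫ pullback.fst f g ≫ (X ↘ SC) = _
    exact (pullback.lift_fst_assoc _ _ _ _).trans x.2

theorem exists_affine_le (f : X ⟶ S) (x : X) {W : S.Opens} (h : f x ∈ W) :
    ∃ U : X.Opens, IsAffineOpen U ∧ x ∈ U ∧ U ≤ f ⁻¹ᵁ W := by
  obtain ⟨_, ⟨U, hU, rfl⟩, hxU, hUW⟩ :=
    X.isBasis_affineOpens.exists_subset_of_mem_open (show x ∈ (f ⁻¹ᵁ W : Set X) from h) (f ⁻¹ᵁ W).2
  exact ⟨U, hU, hxU, hUW⟩

theorem toFibreProd_isHomeomorph (f : X ⟶ S) (g : Y ⟶ S) [f.IsOver SC] [g.IsOver SC] :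
    IsHomeomorph (toFibreProd f g) := by
  have hcont : Continuous (toFibreProd f g) :=
    ((Pts.continuous_map _).prodMk (Pts.continuous_map _)).subtype_mk _
  refine isHomeomorph_iff_isEmbedding_surjective.mpr
    ⟨⟨isInducing_iff_nhds.mpr fun z => le_antisymm (tendsto_iff_comap.mp (hcont.tendsto z)) ?_,
      (toFibreProd_bijective f g).1⟩, (toFibreProd_bijective f g).2⟩
  obtain ⟨W, hW, hsW⟩ := exists_affine_mem (Pts.map f (Pts.map (pullback.fst f g) z))
  obtain ⟨U, hU, hxU, hUW⟩ := exists_affine_le f (Pts.map (pullback.fst f g) z).pt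
    (W := W) (by rwa [Pts.pt_map] at hsW)
  rw [Pts.map_pullback_condition] at hsW
  obtain ⟨V, hV, hyV, hVW⟩ := exists_affine_le g (Pts.map (pullback.snd f g) z).pt
    (W := W) (by rwa [Pts.pt_map] at hsW)
  let H := IsPullback.of_hasPullback f g
  set P : (pullback f g).Opens := pullback.fst f g ⁻¹ᵁ U ⊓ pullback.snd f g ⁻¹ᵁ V
  have : IsAffine _ := hW
  have : IsAffine _ := hU
  have : IsAffine _ := hV
  have hP : IsAffineOpen P :=
    .of_isIso (Scheme.Hom.isPullback_resLE H hVW hUW (UY := P) rfl).isoPullback.hom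
  have hpush := (isIso_pushoutSection_iff H hVW hUW (UY := P) rfl).mp
    (isIso_pushoutSection_of_isAffineOpen H hVW hUW rfl hW hV hU)
  have hzP : z.pt ∈ P := by
    rw [Pts.pt_map] at hxU hyV
    exact ⟨hxU, hyV⟩
  have hl : Tendsto (toFibreProd f g) (comap (toFibreProd f g) (𝓝 (toFibreProd f g z)))
      (𝓝 (toFibreProd f g z)) := tendsto_comap
  have hfst := ((continuous_fst.comp continuous_subtype_val).tendsto (toFibreProd f g z)).comp hl
  have hsnd := ((continuous_snd.comp continuous_subtype_val).tendsto (toFibreProd f g z)).comp hl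
  obtain ⟨hmemX, hX⟩ := (tendsto_nhds hU hxU).mp hfst
  obtain ⟨hmemY, hY⟩ := (tendsto_nhds hV hyV).mp hsnd
  refine tendsto_id'.mp ((tendsto_nhds_of_closure hP hzP _ (isPushout_closure_eq_top hpush)).mpr ⟨?_, ?_⟩)
  · filter_upwards [hmemX, hmemY] with w hwX hwY
    exact ⟨(congrArg (· ∈ U) (Pts.pt_map (pullback.fst f g) w)).mp hwX,
      (congrArg (· ∈ V) (Pts.pt_map (pullback.snd f g) w)).mp hwY⟩
  · rintro _ (⟨a, rfl⟩ | ⟨b, rfl⟩)
    · rw [ev_map_appLE (pullback.fst f g) z _ hzP hxU]
      refine (hX a).congr' ?_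
      filter_upwards [hmemX, hmemY] with w hwX hwY
      have hwP : w.pt ∈ P := ⟨(congrArg (· ∈ U) (Pts.pt_map (pullback.fst f g) w)).mp hwX,
        (congrArg (· ∈ V) (Pts.pt_map (pullback.snd f g) w)).mp hwY⟩
      exact (evF_of_mem a hwX).trans ((ev_map_appLE (pullback.fst f g) w _ hwP hwX a).symm.trans
        (evF_of_mem _ hwP).symm)
    · rw [ev_map_appLE (pullback.snd f g) z _ hzP hyV]
      refine (hY b).congr' ?_
      filter_upwards [hmemX, hmemY] with w hwX hwY
      have hwP : w.pt ∈ P := ⟨(congrArg (· ∈ U) (Pts.pt_map (pullback.fst f g) w)).mp hwX,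
        (congrArg (· ∈ V) (Pts.pt_map (pullback.snd f g) w)).mp hwY⟩
      exact (evF_of_mem b hwY).trans ((ev_map_appLE (pullback.snd f g) w _ hwP hwY b).symm.trans
        (evF_of_mem _ hwP).symm)

theorem isEmbedding_map_of_isImmersion [LocallyOfFiniteType (Y ↘ SC)] (f : X ⟶ Y) [f.IsOver SC]
    [IsImmersion f] : IsEmbedding (Pts.map f) := by
  let _ : f.coborderRange.toScheme.Over SC := ⟨f.coborderRange.ι ≫ (Y ↘ SC)⟩
  have : f.coborderRange.ι.IsOver SC := ⟨rfl⟩
  have : f.liftCoborder.IsOver SC := ⟨by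
    show f.liftCoborder ≫ f.coborderRange.ι ≫ (Y ↘ SC) = X ↘ SC
    rw [f.liftCoborder_ι_assoc, comp_over f]⟩
  have : LocallyOfFiniteType (f.coborderRange.toScheme ↘ SC) :=
    inferInstanceAs (LocallyOfFiniteType (f.coborderRange.ι ≫ (Y ↘ SC)))
  have e : Pts.map f = Pts.map f.coborderRange.ι ∘ Pts.map f.liftCoborder := by
    funext x
    exact Subtype.ext (by simp [Pts.map_val, f.liftCoborder_ι])
  rw [e]
  exact (isOpenEmbedding_map f.coborderRange.ι).isEmbedding.comp
    (isClosedEmbedding_map f.liftCoborder).isEmbedding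

section diag

variable [LocallyOfFiniteType (X ↘ SC)] [LocallyOfFiniteType (Y ↘ SC)] (f : X ⟶ Y) [f.IsOver SC]

theorem diagonal_isOver : (pullback.diagonal f).IsOver SC :=
  ⟨show pullback.diagonal f ≫ pullback.fst f f ≫ (X ↘ SC) = X ↘ SC by
    rw [pullback.diagonal_fst_assoc]⟩

theorem locallyOfFiniteType_of_isOver : LocallyOfFiniteType f := by
  have : LocallyOfFiniteType (f ≫ (Y ↘ SC)) := by rw [comp_over f]; infer_instance
  exact locallyOfFiniteType_of_comp f (Y ↘ SC)

theorem locallyOfFiniteType_pullbackOver :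
    LocallyOfFiniteType ((pullback f f) ↘ SC) := by
  have := locallyOfFiniteType_of_isOver f
  exact inferInstanceAs (LocallyOfFiniteType (pullback.fst f f ≫ (X ↘ SC)))

theorem preimage_range_diagonal :
    (Pts.pt ⁻¹' Set.range (pullback.diagonal f).base : Set (Pts (pullback f f))) =
      toFibreProd f f ⁻¹' Function.pullbackDiagonal (Pts.map f) := by
  have := diagonal_isOver f
  have := locallyOfFiniteType_pullbackOver f
  rw [preimage_range (pullback.diagonal f)]
  ext z
  constructor
  · rintro ⟨x, rfl⟩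
    show Pts.map (pullback.fst f f) _ = Pts.map (pullback.snd f f) _
    exact Subtype.ext (by simp [Pts.map_val])
  · intro h
    have h' : z.1 ≫ pullback.fst f f = z.1 ≫ pullback.snd f f := congrArg Subtype.val h
    refine ⟨Pts.map (pullback.fst f f) z, Subtype.ext (pullback.hom_ext ?_ ?_)⟩
    · simp [Pts.map_val]
    · simp [Pts.map_val, h']

theorem isSeparated_iff : IsSeparated f ↔ IsSeparatedMap (Pts.map f) := by
  have := diagonal_isOver f
  have := locallyOfFiniteType_pullbackOver f
  rw [isSeparatedMap_iff_isClosed_diagonal,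
    ← (toFibreProd_isHomeomorph f f).isQuotientMap.isClosed_preimage, ← preimage_range_diagonal]
  refine ⟨fun h => (pullback.diagonal f).isClosedEmbedding.isClosed_range.preimage
    Pts.continuous_pt, fun h => ⟨?_⟩⟩
  refine IsClosedImmersion.of_isPreimmersion _ (isClosed_of_pts ?_ h)
  intro x
  obtain ⟨U, Z, hU, hZ, hr⟩ := (IsImmersion.isLocallyClosed_range (f := pullback.diagonal f))
  rw [hr]
  exact (isLocallyConstructible_of_isOpen hU).inter (isLocallyConstructible_of_isClosed hZ) x

theorem injective_iff : Function.Injective f.base ↔ Function.Injective (Pts.map f) := by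
  refine ⟨fun h x y hxy => pt_injective (h ?_), fun h => ?_⟩
  · rw [← Pts.pt_map, ← Pts.pt_map, hxy]
  have := diagonal_isOver f
  have := locallyOfFiniteType_pullbackOver f
  suffices hs : Surjective (pullback.diagonal f) by
    have : UniversallyInjective f := (UniversallyInjective.iff_diagonal f).mpr hs
    exact f.injective
  refine ⟨Set.range_eq_univ.mp (Set.univ_subset_iff.mp (subset_of_pts IsLocallyConstructible.univ ?_ ?_))⟩
  · obtain ⟨U, Z, hU, hZ, hr⟩ := IsImmersion.isLocallyClosed_range (f := pullback.diagonal f)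
    rw [hr]
    exact (isLocallyConstructible_of_isOpen hU).inter (isLocallyConstructible_of_isClosed hZ)
  · intro z _
    rw [preimage_range_diagonal]
    exact h (toFibreProd f f z).2

end diag

theorem t2Space_iff [LocallyOfFiniteType (X ↘ SC)] : IsSeparated (X ↘ SC) ↔ T2Space (Pts X) := by
  let _ : SC.Over SC := ⟨𝟙 SC⟩
  have : (X ↘ SC).IsOver SC := ⟨Category.comp_id _⟩
  have : LocallyOfFiniteType (SC ↘ SC) := inferInstanceAs (LocallyOfFiniteType (𝟙 SC))
  rw [isSeparated_iff (X ↘ SC)]
  have hsub : ∀ a b : Pts SC, a = b := fun a b =>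
    Subtype.ext ((Category.comp_id _).symm.trans
      ((a.2.trans b.2.symm).trans (Category.comp_id _)))
  have e : Pts.map (X ↘ SC) = fun _ : Pts X => (⟨𝟙 SC, Category.comp_id _⟩ : Pts SC) :=
    funext fun x => hsub _ _
  rw [e]
  exact (t2space_iff_isSeparatedMap _).symm

end Groth.L02.An
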