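import Groth.Agent.L02.An.Connected
import Groth.Agent.L02.An.Pullback
import Groth.Prelude.Def_AnEps
import Mathlib.AlgebraicGeometry.Morphisms.Etale
import Mathlib.AlgebraicGeometry.Morphisms.FlatMono
import Mathlib.AlgebraicGeometry.Morphisms.IsIso
import Mathlib.Topology.SeparatedMap

/-!
Passage to complex points is fully faithful on étale schemes.
-/

noncomputable section

open AlgebraicGeometry CategoryTheory CategoryTheory.Limits TopologicalSpace Opposite Filter Topology

namespace Groth.L02.An

open _root_.An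

theorem eq_univ_of_forall_pt {Z : Scheme.{0}} [Z.Over SC] [LocallyOfFiniteType (Z ↘ SC)] {O : Set Z}
    (hO : IsOpen O) (h : ∀ z : Pts Z, z.pt ∈ O) : O = Set.univ :=
  Set.univ_subset_iff.mp (subset_of_pts IsLocallyConstructible.univ
    (isLocallyConstructible_of_isOpen hO) fun z _ => h z)

variable {X Y : Scheme.{0}} [X.Over SC] [Y.Over SC]

/-- An étale morphism bijective on complex points is an isomorphism. -/
theorem isIso_of_bijective_map [LocallyOfFiniteType (Y ↘ SC)] (f : X ⟶ Y) [f.IsOver SC] [Etale f]
    (h : Function.Bijective (Pts.map f)) : IsIso f := by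
  have : LocallyOfFiniteType (X ↘ SC) := by rw [← comp_over f (S := SC)]; infer_instance
  have := diagonal_isOver f
  have := locallyOfFiniteType_pullbackOver f
  have hd : Surjective (pullback.diagonal f) := by
    refine ⟨Set.range_eq_univ.mp (eq_univ_of_forall_pt (pullback.diagonal f).isOpenEmbedding.isOpen_range
      fun z => ?_)⟩
    show z ∈ Pts.pt ⁻¹' Set.range (pullback.diagonal f).base
    rw [preimage_range_diagonal]
    exact h.1 (toFibreProd f f z).2
  have : IsIso (pullback.diagonal f) := (isIso_iff_isOpenImmersion_and_surjective _).mpr ⟨inferInstance, hd⟩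
  have : Mono f := (pullback.isIso_diagonal_iff f).mp this
  have : IsOpenImmersion f := IsOpenImmersion.of_flat_of_mono f
  refine (isIso_iff_isOpenImmersion_and_surjective f).mpr ⟨this, ⟨Set.range_eq_univ.mp
    (eq_univ_of_forall_pt f.isOpenEmbedding.isOpen_range fun z => ?_)⟩⟩
  obtain ⟨x, rfl⟩ := h.2 z
  exact ⟨x.pt, (Pts.pt_map f x).symm⟩

/-- Two maps into an étale scheme equalised on complex points are equal. -/
theorem eq_of_map_eq {S : Scheme.{0}} [S.Over SC] (g : Y ⟶ S) [g.IsOver SC] [Etale g] (a b : X ⟶ Y)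
    [a.IsOver SC] [b.IsOver SC] [LocallyOfFiniteType (X ↘ SC)] (hab : a ≫ g = b ≫ g)
    (h : ∀ z : Pts X, Pts.map a z = Pts.map b z) : a = b := by
  let l : X ⟶ pullback g g := pullback.lift a b hab
  have hr : l.base ⁻¹' Set.range (pullback.diagonal g).base = Set.univ := by
    refine eq_univ_of_forall_pt
      ((pullback.diagonal g).isOpenEmbedding.isOpen_range.preimage l.continuous) fun z => ?_
    refine ⟨(a z.pt : Y), ?_⟩
    have h1 : z.1 ≫ l = (z.1 ≫ a) ≫ pullback.diagonal g := by
      apply pullback.hom_ext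
      · simp only [l, Category.assoc, pullback.lift_fst, pullback.diagonal_fst, Category.comp_id]
      · simp only [l, Category.assoc, pullback.lift_snd, pullback.diagonal_snd, Category.comp_id]
        exact (congrArg Subtype.val (h z)).symm
    exact (congrArg (fun k : SC ⟶ pullback g g => k cpt) h1).symm
  have hsub : Set.range l.base ⊆ Set.range (pullback.diagonal g).base := by
    rintro _ ⟨p, rfl⟩
    exact hr.ge (Set.mem_univ p)
  have h2 := IsOpenImmersion.lift_fac (pullback.diagonal g) l hsub
  have ha := congrArg (fun k => k ≫ pullback.fst g g) h2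
  have hb := congrArg (fun k => k ≫ pullback.snd g g) h2
  simp only [l, Category.assoc, pullback.lift_fst, pullback.lift_snd, pullback.diagonal_fst,
    pullback.diagonal_snd, Category.comp_id] at ha hb
  exact ha.symm.trans hb

/-- A clopen set of complex points comes from a clopen set. -/
theorem exists_isClopen_preimage [LocallyOfFiniteType (X ↘ SC)] {G : Set (Pts X)} (hG : IsClopen G) :
    ∃ O : Set X, IsClopen O ∧ Pts.pt ⁻¹' O = G := by
  have := isLocallyNoetherian (X := X)
  have hcomp : ∀ {p q : X}, p ⤳ q → connectedComponent p = connectedComponent q := fun {p q} h =>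
    connectedComponent_eq ((isClosed_connectedComponent.closure_subset_iff.mpr
      (Set.singleton_subset_iff.mpr mem_connectedComponent)) h.mem_closure)
  let O : Set X := {p | ∃ z ∈ G, connectedComponent z.pt = connectedComponent p}
  have hs : StableUnderSpecialization O := fun p q hpq ⟨z, hz, he⟩ => ⟨z, hz, he.trans (hcomp hpq)⟩
  have hg : StableUnderGeneralization O := fun q p hpq ⟨z, hz, he⟩ => ⟨z, hz, he.trans (hcomp hpq).symm⟩
  refine ⟨O, ⟨isOpen_compl_iff.mp (isOpen_of_stable hg.compl hs.compl), isOpen_of_stable hs hg⟩,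
    Set.ext fun x => ⟨?_, fun hx => ⟨x, hx, rfl⟩⟩⟩
  rintro ⟨z, hz, he⟩
  have h1 := connectedComponent_eq_of_pt he
  exact hG.connectedComponent_subset hz (h1 ▸ mem_connectedComponent)

set_option maxHeartbeats 800000 in
/-- A continuous map over the base between complex points of étale schemes is algebraic. -/
theorem exists_map_eq {U V : Scheme.{0}} [U.Over SC] [V.Over SC] [LocallyOfFiniteType (X ↘ SC)]
    (u : U ⟶ X) (v : V ⟶ X) [u.IsOver SC] [v.IsOver SC] [Etale u] [Etale v] [IsSeparated v]
    (hlh : IsLocalHomeomorph (Pts.map v))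
    (k : Pts U → Pts V) (hk : Continuous k) (hkp : ∀ a, Pts.map v (k a) = Pts.map u a) :
    ∃ m : U ⟶ V, m ≫ v = u ∧ ∀ (a : Pts U), a.1 ≫ m = (k a).1 := by
  have : LocallyOfFiniteType (U ↘ SC) := by rw [← comp_over u (S := SC)]; infer_instance
  have : LocallyOfFiniteType (V ↘ SC) := by rw [← comp_over v (S := SC)]; infer_instance
  have : LocallyOfFiniteType ((pullback u v) ↘ SC) :=
    inferInstanceAs (LocallyOfFiniteType (pullback.fst u v ≫ (U ↘ SC)))
  let G : Set (Pts (pullback u v)) :=
    {z | k (Pts.map (pullback.fst u v) z) = Pts.map (pullback.snd u v) z}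
  have he : Pts.map v ∘ (k ∘ Pts.map (pullback.fst u v)) = Pts.map v ∘ Pts.map (pullback.snd u v) :=
    funext fun z => (hkp _).trans (Pts.map_pullback_condition u v z)
  have hG : IsClopen G :=
    ⟨((isSeparated_iff v).mp inferInstance).isClosed_eqLocus
        (hk.comp (Pts.continuous_map _)) (Pts.continuous_map _) he,
      hlh.isLocallyInjective.isOpen_eqLocus
        (hk.comp (Pts.continuous_map _)) (Pts.continuous_map _) he⟩
  obtain ⟨O, hO, hOG⟩ := exists_isClopen_preimage hG
  let W : (pullback u v).Opens := ⟨O, hO.isOpen⟩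
  let _ : W.toScheme.Over SC := ⟨W.ι ≫ (pullback u v ↘ SC)⟩
  have : W.ι.IsOver SC := ⟨rfl⟩
  let g : W.toScheme ⟶ U := W.ι ≫ pullback.fst u v
  have : g.IsOver SC := ⟨by
    show (W.ι ≫ pullback.fst u v) ≫ (U ↘ SC) = W.ι ≫ (pullback.fst u v ≫ (U ↘ SC))
    rw [Category.assoc]⟩
  have : Etale g := inferInstanceAs (Etale (W.ι ≫ pullback.fst u v))
  have hmem : ∀ z : Pts W.toScheme, Pts.map W.ι z ∈ G := fun z => by
    rw [← hOG, Set.mem_preimage, Pts.pt_map]
    exact z.pt.2
  have hbij : Function.Bijective (Pts.map g) := by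
    constructor
    · intro z z' hzz
      apply map_injective_of_mono W.ι
      apply (toFibreProd_bijective u v).1
      have h1 : Pts.map (pullback.fst u v) (Pts.map W.ι z) = Pts.map (pullback.fst u v) (Pts.map W.ι z') := by
        rw [← Pts.map_comp, ← Pts.map_comp]; exact hzz
      exact Subtype.ext (Prod.ext h1 ((hmem z).symm.trans ((congrArg k h1).trans (hmem z'))))
    · intro a
      obtain ⟨z, hz⟩ := (toFibreProd_bijective u v).2 ⟨(a, k a), (hkp a).symm⟩
      have h1 : Pts.map (pullback.fst u v) z = a := congrArg (fun q => q.1.1) hz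
      have h2 : Pts.map (pullback.snd u v) z = k a := congrArg (fun q => q.1.2) hz
      have hzG : z ∈ G := by show k _ = _; rw [h1, h2]
      rw [← hOG] at hzG
      obtain ⟨w, rfl⟩ := (range_map_of_isOpenImmersion W.ι).ge
        (show z ∈ Pts.pt ⁻¹' Set.range W.ι.base by rw [Set.mem_preimage, W.range_ι]; exact hzG)
      exact ⟨w, (Pts.map_comp _ _ _).trans h1⟩
  have : IsIso g := isIso_of_bijective_map g hbij
  refine ⟨inv g ≫ W.ι ≫ pullback.snd u v, ?_, fun a => ?_⟩
  · rw [Category.assoc, Category.assoc, ← pullback.condition, ← Category.assoc W.ι]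
    exact IsIso.inv_hom_id_assoc g u
  · obtain ⟨z, rfl⟩ := hbij.2 a
    have h1 : (k (Pts.map g z)).1 = (z.1 ≫ W.ι) ≫ pullback.snd u v := by
      have h3 := hmem z
      change k _ = _ at h3
      rw [← Pts.map_comp] at h3
      exact congrArg Subtype.val h3
    rw [h1, Pts.map_val, Category.assoc, IsIso.hom_inv_id_assoc, Category.assoc]

end Groth.L02.An
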