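import Groth.Agent.L02.An.Near
import Mathlib.Algebra.Polynomial.Taylor
import Mathlib.Algebra.Ring.GeomSum

/-!
Simple roots of a continuous family of monic polynomials vary continuously.
-/

noncomputable section

open Filter Topology Polynomial

namespace Groth.L02.An

variable {T : Type*} [TopologicalSpace T] (c : T → ℂ[X]) (D : ℕ)

theorem continuous_eval_family (hdeg : ∀ t, (c t).natDegree = D)
    (hc : ∀ i, Continuous fun t => (c t).coeff i) :
    Continuous fun p : T × ℂ => (c p.1).eval p.2 := by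
  simp only [Polynomial.eval_eq_sum_range, hdeg]
  exact continuous_finsetSum _ fun i _ => ((hc i).comp continuous_fst).mul (continuous_snd.pow i)

theorem eventually_exists_root (hm : ∀ t, (c t).Monic) (hdeg : ∀ t, (c t).natDegree = D) (hD : D ≠ 0)
    (hc : ∀ i, Continuous fun t => (c t).coeff i) {t₀ : T} {r₀ : ℂ} (h : (c t₀).eval r₀ = 0)
    {ε : ℝ} (hε : 0 < ε) : ∀ᶠ t in 𝓝 t₀, ∃ z, (c t).eval z = 0 ∧ dist z r₀ < ε := by
  have h1 : Tendsto (fun t => (c t).eval r₀) (𝓝 t₀) (𝓝 0) :=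
    h ▸ ((continuous_eval_family c D hdeg hc).comp (continuous_id.prodMk continuous_const)).tendsto t₀
  filter_upwards [h1.norm.eventually (gt_mem_nhds (show ‖(0 : ℂ)‖ < ε ^ D by simp; positivity))] with t ht
  have hmon : ((c t).comp (X + C r₀)).Monic := (hm t).comp_X_add_C r₀
  have hd : ((c t).comp (X + C r₀)).natDegree = D := by
    rw [natDegree_comp, natDegree_X_add_C, mul_one, hdeg]
  obtain ⟨z, hz, hzε⟩ := exists_root_norm_lt hmon (by rwa [hd]) hε
    (by rw [hd, coeff_zero_eq_eval_zero, eval_comp]; simpa using ht)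
  exact ⟨z + r₀, by simpa [eval_comp] using hz, by simpa [dist_eq_norm] using hzε⟩

theorem eventually_root_unique (hdeg : ∀ t, (c t).natDegree = D)
    (hc : ∀ i, Continuous fun t => (c t).coeff i) {t₀ : T} {r₀ : ℂ}
    (h : (c t₀).derivative.eval r₀ ≠ 0) :
    ∃ ε > (0 : ℝ), ∀ᶠ t in 𝓝 t₀, ∀ u v, dist u r₀ < ε → dist v r₀ < ε →
      (c t).eval u = 0 → (c t).eval v = 0 → u = v := by
  let F : T × ℂ × ℂ → ℂ := fun p => ∑ i ∈ Finset.range (D + 1), (c p.1).coeff i *
    ∑ j ∈ Finset.range i, p.2.1 ^ j * p.2.2 ^ (i - 1 - j)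
  have hF : Continuous F := continuous_finsetSum _ fun i _ => ((hc i).comp continuous_fst).mul
    (continuous_finsetSum _ fun j _ => ((continuous_fst.comp continuous_snd).pow j).mul
      ((continuous_snd.comp continuous_snd).pow (i - 1 - j)))
  have hF0 : F (t₀, r₀, r₀) = (c t₀).derivative.eval r₀ := by
    simp only [F, geom_sum₂_self]
    rw [derivative_eval, sum_over_range _ (fun n => by simp), hdeg]
    exact Finset.sum_congr rfl fun i _ => by ring
  have hne : ∀ᶠ p in 𝓝 (t₀, r₀, r₀), F p ≠ 0 :=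
    hF.continuousAt.eventually_ne (by rwa [hF0])
  rw [nhds_prod_eq, nhds_prod_eq, eventually_prod_iff] at hne
  obtain ⟨pa, hpa, pb, hpb, hp⟩ := hne
  rw [eventually_prod_iff] at hpb
  obtain ⟨q1, hq1, q2, hq2, hq⟩ := hpb
  obtain ⟨ε, hε, hεq⟩ := Metric.eventually_nhds_iff.mp (hq1.and hq2)
  refine ⟨ε, hε, hpa.mono fun t ht u v hu hv hu0 hv0 => ?_⟩
  have h1 := hp ht (hq (hεq hu).1 (hεq hv).2)
  have h2 : F (t, u, v) * (u - v) = 0 := by
    simp only [F]
    rw [Finset.sum_mul]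
    rw [Finset.sum_congr rfl fun i _ =>
      (by rw [mul_assoc, geom_sum₂_mul, mul_sub] :
        (c t).coeff i * (∑ j ∈ Finset.range i, u ^ j * v ^ (i - 1 - j)) * (u - v) =
          (c t).coeff i * u ^ i - (c t).coeff i * v ^ i), Finset.sum_sub_distrib]
    rw [← hdeg t, ← eval_eq_sum_range, ← eval_eq_sum_range, hu0, hv0, sub_zero]
  exact sub_eq_zero.mp ((mul_eq_zero.mp h2).resolve_left h1)

/-- Near a simple root there is exactly one root, depending continuously on the parameter. -/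
theorem exists_root_nbhd (hm : ∀ t, (c t).Monic) (hdeg : ∀ t, (c t).natDegree = D) (hD : D ≠ 0)
    (hc : ∀ i, Continuous fun t => (c t).coeff i) {t₀ : T} {r₀ : ℂ} (h : (c t₀).eval r₀ = 0)
    (h' : (c t₀).derivative.eval r₀ ≠ 0) :
    ∃ (ε : ℝ) (N : Set T) (φ : T → ℂ), 0 < ε ∧ IsOpen N ∧ t₀ ∈ N ∧ ContinuousOn φ N ∧
      ∀ t ∈ N, dist (φ t) r₀ < ε ∧ (c t).eval (φ t) = 0 ∧
        ∀ z, dist z r₀ < ε → (c t).eval z = 0 → z = φ t := by
  classical
  obtain ⟨ε, hε, huniq⟩ := eventually_root_unique c D hdeg hc h'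
  have hex := eventually_exists_root c D hm hdeg hD hc h hε
  obtain ⟨N₀, hN₀, hN₀o, ht₀⟩ := eventually_nhds_iff.mp (huniq.and hex)
  let φ : T → ℂ := fun t => if ht : ∃ z, (c t).eval z = 0 ∧ dist z r₀ < ε then ht.choose else r₀
  have hφ : ∀ t ∈ N₀, dist (φ t) r₀ < ε ∧ (c t).eval (φ t) = 0 := fun t ht => by
    simp only [φ, dif_pos (hN₀ t ht).2]
    exact ⟨(hN₀ t ht).2.choose_spec.2, (hN₀ t ht).2.choose_spec.1⟩
  have huφ : ∀ t ∈ N₀, ∀ z, dist z r₀ < ε → (c t).eval z = 0 → z = φ t := fun t ht z hz hz0 =>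
    (hN₀ t ht).1 z (φ t) hz (hφ t ht).1 hz0 (hφ t ht).2
  refine ⟨ε, N₀, φ, hε, hN₀o, ht₀, ?_, fun t ht => ⟨(hφ t ht).1, (hφ t ht).2, huφ t ht⟩⟩
  intro t ht
  refine ContinuousAt.continuousWithinAt ?_
  rw [ContinuousAt, Metric.tendsto_nhds]
  intro δ hδ
  have hgap : 0 < ε - dist (φ t) r₀ := by linarith [(hφ t ht).1]
  filter_upwards [eventually_exists_root c D hm hdeg hD hc (hφ t ht).2 (lt_min hδ hgap),
    hN₀o.mem_nhds ht] with s ⟨z, hz0, hz⟩ hs
  have hzr : dist z r₀ < ε := by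
    linarith [dist_triangle z (φ t) r₀, hz.trans_le (min_le_right δ _)]
  rw [← huφ s hs z hzr hz0]
  exact hz.trans_le (min_le_left _ _)

end Groth.L02.An
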