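import Groth.Agent.L02.An.Affine
import Groth.Agent.L02.An.Roots
import Groth.Prelude.Def_AnEps
import Mathlib.AlgebraicGeometry.Morphisms.Etale
import Mathlib.RingTheory.Unramified.LocalStructure

/-!
Etale morphisms are local homeomorphisms on complex points.
-/

set_option linter.unusedSectionVars false

noncomputable section

open AlgebraicGeometry CategoryTheory TopologicalSpace Opposite Filter Topology

namespace Groth.L02.An

open _root_.An

variable {X Y : Scheme.{0}} [X.Over SC] [Y.Over SC] (g : X ⟶ Y) [g.IsOver SC]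

theorem appLE_comp_str {U : X.Opens} {V : Y.Opens} (e : U ≤ g ⁻¹ᵁ V) :
    (g.appLE V U e).hom.comp (str Y V) = str X U := by
  refine RingHom.ext fun c => ?_
  rw [str_eq_appLE, str_eq_appLE]
  show ((Y ↘ SC).appLE ⊤ V _ ≫ g.appLE V U e) _ = _
  erw [Scheme.Hom.appLE_comp_appLE]
  simp only [comp_over g]
  rfl

theorem exists_standardEtale [Etale g] (x : X) :
    ∃ (V : Y.Opens) (U : X.Opens) (e : U ≤ g ⁻¹ᵁ V), IsAffineOpen V ∧ IsAffineOpen U ∧ x ∈ U ∧
      @Algebra.IsStandardEtale Γ(Y, V) Γ(X, U) _ _ (g.appLE V U e).hom.toAlgebra := by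
  obtain ⟨_, ⟨V₀, hV₀, rfl⟩, hxV, -⟩ :=
    Y.isBasis_affineOpens.exists_subset_of_mem_open (Set.mem_univ (g x)) isOpen_univ
  obtain ⟨_, ⟨U₀, hU₀, rfl⟩, hxU, hUV₀⟩ :=
    X.isBasis_affineOpens.exists_subset_of_mem_open (show x ∈ (g ⁻¹ᵁ V₀ : Set X) from hxV) (g ⁻¹ᵁ V₀).2
  obtain ⟨V, rfl⟩ : ∃ V : Y.Opens, V = V₀ := ⟨V₀, rfl⟩
  obtain ⟨U, rfl⟩ : ∃ U : X.Opens, U = U₀ := ⟨U₀, rfl⟩
  have hV : IsAffineOpen V := hV₀
  have hU : IsAffineOpen U := hU₀
  have hUV : U ≤ g ⁻¹ᵁ V := hUV₀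
  let _ := (g.appLE V U hUV).hom.toAlgebra
  have : Algebra.Etale Γ(Y, V) Γ(X, U) := g.etale_appLE hV hU hUV
  let Q := hU.primeIdealOf ⟨x, hxU⟩
  have : Algebra.IsEtaleAt Γ(Y, V) Q.asIdeal :=
    Algebra.FormallyEtale.comp Γ(Y, V) Γ(X, U) (Localization.AtPrime Q.asIdeal)
  obtain ⟨f, hf, hst⟩ := Algebra.IsEtaleAt.exists_isStandardEtale (R := Γ(Y, V)) Q.asIdeal
  refine ⟨V, X.basicOpen f, (X.basicOpen_le f).trans hUV, hV, hU.basicOpen f, ?_, ?_⟩
  · have h1 : Q ∈ hU.fromSpec ⁻¹ᵁ X.basicOpen f := by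
      rw [hU.fromSpec_preimage_basicOpen]; exact hf
    exact (congrArg (· ∈ X.basicOpen f) (hU.fromSpec_primeIdealOf ⟨x, hxU⟩)).mp h1
  · let _ := (g.appLE V (X.basicOpen f) ((X.basicOpen_le f).trans hUV)).hom.toAlgebra
    have : IsScalarTower Γ(Y, V) Γ(X, U) Γ(X, X.basicOpen f) := .of_algebraMap_eq' <| by
      show (g.appLE V _ _).hom = (X.presheaf.map _).hom.comp (g.appLE V U hUV).hom
      rw [← CommRingCat.hom_comp, Scheme.Hom.appLE_map]
    have := hU.isLocalization_basicOpen f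
    exact Algebra.IsStandardEtale.of_equiv
      ((IsLocalization.algEquiv (Submonoid.powers f) (Localization.Away f)
        Γ(X, X.basicOpen f)).restrictScalars Γ(Y, V))

set_option maxHeartbeats 1000000 in
theorem isLocalHomeomorph_map [Etale g] : IsLocalHomeomorph (Pts.map g) := by
  rw [isLocalHomeomorph_iff_isOpenEmbedding_restrict]
  intro x
  obtain ⟨V, U, e, hV, hU, hxU, hst⟩ := exists_standardEtale g x.pt
  let alg := (g.appLE V U e).hom.toAlgebra
  let _ := alg
  obtain ⟨P⟩ := hst.nonempty_standardEtalePresentation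
  have hxV : (Pts.map g x).pt ∈ V := map_pt_mem g x e hxU
  let T := {v : Pts Y // v.pt ∈ V}
  let vl : T → (Γ(Y, V) →+* ℂ) := fun v => val v.1 V v.2
  let c : T → Polynomial ℂ := fun v => P.f.map (vl v)
  let gv : T → Polynomial ℂ := fun v => P.g.map (vl v)
  have halg : ∀ (w : Pts X) (hw : w.pt ∈ U) (hv : (Pts.map g w).pt ∈ V) (p : Polynomial Γ(Y, V)),
      val w U hw (Polynomial.aeval P.x p) = (p.map (val (Pts.map g w) V hv)).eval (val w U hw P.x) := by
    intro w hw hv p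
    rw [Polynomial.aeval_def, Polynomial.hom_eval₂, Polynomial.eval_map]
    congr 1
    exact RingHom.ext fun b => ev_map_appLE g w e hw hv b
  have hcc : ∀ i, Continuous fun v : T => (c v).coeff i := fun i => by
    simp only [c, Polynomial.coeff_map]
    exact continuous_iff_continuousAt.mpr fun v => ((tendsto_evF (P.f.coeff i) v.2).comp
      (continuous_subtype_val.tendsto v)).congr fun v' => evF_of_mem _ v'.2
  have hgc : ∀ i, Continuous fun v : T => (gv v).coeff i := fun i => by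
    simp only [gv, Polynomial.coeff_map]
    exact continuous_iff_continuousAt.mpr fun v => ((tendsto_evF (P.g.coeff i) v.2).comp
      (continuous_subtype_val.tendsto v)).congr fun v' => evF_of_mem _ v'.2
  let v₀ : T := ⟨Pts.map g x, hxV⟩
  let r₀ : ℂ := val x U hxU P.x
  have hr₀ : (c v₀).eval r₀ = 0 := by
    show (P.f.map (val (Pts.map g x) V hxV)).eval (val x U hxU P.x) = 0
    rw [← halg x hxU hxV, P.hasMap.1, map_zero]
  have hr₀' : (c v₀).derivative.eval r₀ ≠ 0 := by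
    show (P.f.map (val (Pts.map g x) V hxV)).derivative.eval (val x U hxU P.x) ≠ 0
    rw [Polynomial.derivative_map, ← halg x hxU hxV]
    exact (P.hasMap.isUnit_derivative_f.map _).ne_zero
  have hdeg : ∀ v, (c v).natDegree = P.f.natDegree := fun v => P.monic_f.natDegree_map _
  have hD : P.f.natDegree ≠ 0 := by
    intro h0
    refine hr₀' ?_
    rw [Polynomial.eq_C_of_natDegree_eq_zero ((hdeg v₀).trans h0)]
    simp
  obtain ⟨ε, N, φ, hε, hNo, hx₀N, hφc, hφ⟩ :=
    exists_root_nbhd c P.f.natDegree (fun v => P.monic_f.map _) hdeg hD hcc hr₀ hr₀'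
  let U' : Set (Pts X) := Pts.pt ⁻¹' (U : Set X)
  let M : Set (Pts X) := {w | ∃ hw : w.pt ∈ U,
    (⟨Pts.map g w, map_pt_mem g w e hw⟩ : T) ∈ N ∧ dist (val w U hw P.x) r₀ < ε}
  have hMo : IsOpen M := by
    have hT : IsOpen (Subtype.val '' N : Set (Pts Y)) :=
      (Pts.isOpen_preimage_pt V).isOpenEmbedding_subtypeVal.isOpenMap _ hNo
    have hMeq : M = Pts.map g ⁻¹' (Subtype.val '' N) ∩
        (Pts.pt ⁻¹' (U : Set X) ∩ evF U P.x ⁻¹' Metric.ball r₀ ε) := by
      ext w
      constructor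
      · rintro ⟨hw, hN, hd⟩
        exact ⟨⟨_, hN, rfl⟩, hw, by rw [Set.mem_preimage, evF_of_mem _ hw]; exact hd⟩
      · rintro ⟨⟨v, hv, hvw⟩, hw, hd⟩
        rw [Set.mem_preimage, evF_of_mem _ hw] at hd
        refine ⟨hw, ?_, hd⟩
        convert hv using 1
        exact Subtype.ext hvw.symm
    rw [hMeq]
    exact (hT.preimage (Pts.continuous_map g)).inter
      ((continuousOn_evF U P.x).isOpen_inter_preimage (Pts.isOpen_preimage_pt U) Metric.isOpen_ball)
  have hroot : ∀ w : M, ∃ hv : (Pts.map g w.1).pt ∈ V, val w.1 U w.2.1 P.x = φ ⟨_, hv⟩ := by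
    rintro ⟨w, hw, hN, hd⟩
    refine ⟨map_pt_mem g w e hw, (hφ _ hN).2.2 _ hd ?_⟩
    show (P.f.map (val (Pts.map g w) V _)).eval (val w U hw P.x) = 0
    rw [← halg w hw _, P.hasMap.1, map_zero]
  refine ⟨M, hMo.mem_nhds ⟨hxU, hx₀N, by simpa [r₀] using hε⟩, ⟨⟨?_, ?_⟩, ?_⟩⟩
  · rw [isInducing_iff_nhds]
    intro w
    refine le_antisymm
      (tendsto_iff_comap.mp (((Pts.continuous_map g).comp continuous_subtype_val).tendsto w)) ?_
    rw [show 𝓝 w = comap Subtype.val (𝓝 w.1) from nhds_induced _ _]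
    refine tendsto_iff_comap.mp ((tendsto_nhds hU w.2.1).mpr ⟨Eventually.of_forall fun a => a.2.1, ?_⟩)
    intro b
    obtain ⟨p, n, hpn⟩ := P.exists_mul_aeval_x_g_pow_eq_aeval_x b
    have hval : ∀ a : M, ∀ hv : (Pts.map g a.1).pt ∈ V, val a.1 U a.2.1 P.x = φ ⟨_, hv⟩ →
        (gv ⟨_, hv⟩).eval (φ ⟨_, hv⟩) ≠ 0 ∧ evF U b a.1 =
          (p.map (vl ⟨_, hv⟩)).eval (φ ⟨_, hv⟩) / ((gv ⟨_, hv⟩).eval (φ ⟨_, hv⟩)) ^ n := by
      intro a hv hr
      have hu := (P.hasMap.2.map (val a.1 U a.2.1)).ne_zero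
      rw [halg a.1 a.2.1 hv, hr] at hu
      refine ⟨hu, (eq_div_iff (pow_ne_zero _ hu)).mpr ?_⟩
      have h1 := congrArg (val a.1 U a.2.1) hpn
      rw [map_mul, map_pow, halg a.1 a.2.1 hv, halg a.1 a.2.1 hv, hr] at h1
      rw [evF_of_mem b a.2.1]
      exact h1
    obtain ⟨hwv, hwr⟩ := hroot w
    obtain ⟨hw0, hwb⟩ := hval w hwv hwr
    rw [← evF_of_mem b w.2.1, hwb]
    let k : M → T := fun a => ⟨Pts.map g a.1, map_pt_mem g a.1 e a.2.1⟩
    have hk : Tendsto k (comap (M.domRestrict (Pts.map g)) (𝓝 (M.domRestrict (Pts.map g) w))) (𝓝 (k w)) := by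
      rw [show 𝓝 (k w) = comap Subtype.val (𝓝 (k w).1) from nhds_induced _ _, tendsto_comap_iff]
      exact tendsto_comap
    have hkN : k w ∈ N := w.2.2.1
    have hphi := (hφc.continuousAt (hNo.mem_nhds hkN)).tendsto.comp hk
    have hev : ∀ q : Polynomial Γ(Y, V), Tendsto (fun a : M => (q.map (vl (k a))).eval (φ (k a)))
        (comap (M.domRestrict (Pts.map g)) (𝓝 (M.domRestrict (Pts.map g) w)))
        (𝓝 ((q.map (vl (k w))).eval (φ (k w)))) := by
      intro q
      have hco : ∀ i, Continuous fun v : T => vl v (q.coeff i) := fun i =>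
        continuous_iff_continuousAt.mpr fun v => ((tendsto_evF (q.coeff i) v.2).comp
          (continuous_subtype_val.tendsto v)).congr fun v' => evF_of_mem _ v'.2
      simp only [Polynomial.eval_map, Polynomial.eval₂_eq_sum_range]
      exact tendsto_finsetSum _ fun i _ => (((hco i).tendsto _).comp hk).mul (hphi.pow i)
    refine Tendsto.congr' ?_ ((hev p).div ((hev P.g).pow n) (pow_ne_zero _ hw0))
    refine Eventually.of_forall fun a => ?_
    obtain ⟨hv, hr⟩ := hroot a
    exact (hval a hv hr).2.symm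
  · rintro ⟨a, ha⟩ ⟨b, hb⟩ hab
    replace hab : Pts.map g a = Pts.map g b := hab
    obtain ⟨hva, hra⟩ := hroot ⟨a, ha⟩
    obtain ⟨hvb, hrb⟩ := hroot ⟨b, hb⟩
    let _ := (val (Pts.map g a) V hva).toAlgebra
    let fa : Γ(X, U) →ₐ[Γ(Y, V)] ℂ :=
      { val a U ha.1 with commutes' := fun q => ev_map_appLE g a e ha.1 hva q }
    let fb : Γ(X, U) →ₐ[Γ(Y, V)] ℂ :=
      { val b U hb.1 with
        commutes' := fun q => (ev_map_appLE g b e hb.1 hvb q).trans (by
          show _ = (Pts.map g a).ev V hva q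
          congr 1
          exact hab.symm) }
    refine Subtype.ext (ext_of_val hU ha.1 hb.1 fun q => ?_)
    refine congr($(P.hom_ext (f₁ := fa) (f₂ := fb) ?_) q)
    show val a U ha.1 P.x = val b U hb.1 P.x
    rw [hra, hrb]
    congr 1
    exact Subtype.ext hab
  · have hr : Set.range (M.domRestrict (Pts.map g)) =
        Subtype.val '' (N ∩ {v | (gv v).eval (φ v) ≠ 0}) := by
      ext y
      constructor
      · rintro ⟨a, rfl⟩
        obtain ⟨hv, hr⟩ := hroot a
        refine ⟨⟨_, hv⟩, ⟨a.2.2.1, ?_⟩, rfl⟩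
        have hu := (P.hasMap.2.map (val a.1 U a.2.1)).ne_zero
        rw [halg a.1 a.2.1 hv, hr] at hu
        exact hu
      · rintro ⟨⟨v, hv⟩, ⟨hvN, hvg⟩, rfl⟩
        let _ := (val v V hv).toAlgebra
        have hmap : P.P.HasMap (φ ⟨v, hv⟩) := by
          refine ⟨?_, ?_⟩
          · rw [Polynomial.aeval_def, ← Polynomial.eval_map]; exact (hφ _ hvN).2.1
          · rw [Polynomial.aeval_def, ← Polynomial.eval_map, isUnit_iff_ne_zero]; exact hvg
        let ψ : Γ(X, U) →ₐ[Γ(Y, V)] ℂ := (P.P.lift _ hmap).comp P.equivRing.toAlgHom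
        have hψ : ∀ q, ψ ((g.appLE V U e) q) = val v V hv q := ψ.commutes
        have hψs : (ψ : Γ(X, U) →+* ℂ).comp (str X U) = RingHom.id ℂ := by
          rw [← appLE_comp_str g e]
          exact RingHom.ext fun q => (hψ _).trans (val_str v V hv q)
        let w := mkPt hU (ψ : Γ(X, U) →+* ℂ) hψs
        have hwU := pt_mkPt_mem hU (ψ : Γ(X, U) →+* ℂ) hψs
        have hwval : val w U hwU = ψ := val_mkPt hU _ hψs
        have hgw : Pts.map g w = v := by
          refine ext_of_val hV (map_pt_mem g w e hwU) hv fun q => ?_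
          rw [← ev_map_appLE g w e hwU (map_pt_mem g w e hwU), ← val_apply, hwval]
          exact hψ q
        have hwx : val w U hwU P.x = φ ⟨v, hv⟩ := by
          rw [hwval]
          show P.P.lift _ hmap (P.equivRing P.x) = _
          rw [P.equivRing_x, StandardEtalePair.lift_X]
        refine ⟨⟨w, hwU, ?_, ?_⟩, hgw⟩
        · convert hvN using 1
          exact Subtype.ext hgw
        · rw [hwx]; exact (hφ _ hvN).1
    rw [hr]
    refine (Pts.isOpen_preimage_pt V).isOpenEmbedding_subtypeVal.isOpenMap _ ?_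
    have hc' : ContinuousOn (fun v => (gv v).eval (φ v)) N := by
      simp only [gv, Polynomial.eval_map, Polynomial.eval₂_eq_sum_range]
      refine continuousOn_finsetSum _ fun i _ => ContinuousOn.mul ?_ (hφc.pow i)
      exact (continuous_iff_continuousAt.mpr fun v => ((tendsto_evF (P.g.coeff i) v.2).comp
        (continuous_subtype_val.tendsto v)).congr fun v' => evF_of_mem _ v'.2).continuousOn
    exact hc'.isOpen_inter_preimage hNo isOpen_compl_singleton

theorem etaleLH : EtaleLH := fun X Y _ _ _ g _ _ => isLocalHomeomorph_map g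

end Groth.L02.An
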