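import Groth.Prelude.Def_AnFib
import Mathlib.AlgebraicGeometry.PullbackCarrier
import Mathlib.AlgebraicGeometry.Morphisms.Etale
import Mathlib.AlgebraicGeometry.Morphisms.Finite
import Mathlib.AlgebraicGeometry.Morphisms.Smooth
import Mathlib.FieldTheory.IsAlgClosed.AlgebraicClosure
import Mathlib.AlgebraicGeometry.ResidueField

/-!
Elementary fibrations are stable under base change.
-/

noncomputable section

open AlgebraicGeometry CategoryTheory CategoryTheory.Limits

namespace Groth.L02.An

universe u

theorem irreducibleSpace_of_homeomorph {A B : Type*} [TopologicalSpace A] [TopologicalSpace B]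
    [IrreducibleSpace A] (e : A ≃ₜ B) : IrreducibleSpace B := by
  rw [irreducibleSpace_def]
  have h := (IrreducibleSpace.isIrreducible_univ A).image e e.continuous.continuousOn
  rwa [Set.image_univ, e.surjective.range_eq] at h

theorem range_of_isPullback {P X Y S : Scheme.{u}} {fst : P ⟶ X} {snd : P ⟶ Y} {f : X ⟶ S} {g : Y ⟶ S}
    (h : IsPullback fst snd f g) : Set.range fst = f ⁻¹' Set.range g := by
  rw [← h.isoPullback_hom_fst, Scheme.Hom.comp_base, TopCat.coe_comp, Set.range_comp,
    Set.range_eq_univ.mpr (Surjective.surj : Function.Surjective h.isoPullback.hom), Set.image_univ,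
    Scheme.Pullback.range_fst]

theorem isPullback_projSpaceOver {S S' : Scheme.{u}} (v : S' ⟶ S) (n : ℕ) :
    ∃ m : CohB1.ProjSpaceOver n S' ⟶ CohB1.ProjSpaceOver n S,
      IsPullback m (CohB1.ProjSpaceOver.toBase n S') (CohB1.ProjSpaceOver.toBase n S) v := by
  let m : CohB1.ProjSpaceOver n S' ⟶ CohB1.ProjSpaceOver n S :=
    pullback.lift (pullback.fst _ _) (pullback.snd _ _ ≫ v)
      (specULiftZIsTerminal.hom_ext _ _)
  have h1 : m ≫ pullback.fst _ _ = pullback.fst _ _ := pullback.lift_fst _ _ _
  refine ⟨m, IsPullback.of_right ?_ (pullback.lift_snd _ _ _) (IsPullback.of_hasPullback _ _)⟩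
  rw [h1, show v ≫ specULiftZIsTerminal.from S = specULiftZIsTerminal.from S' from
    specULiftZIsTerminal.hom_ext _ _]
  exact IsPullback.of_hasPullback _ _

theorem isStronglyProjective_baseChange {Xb S S' : Scheme.{u}} {fb : Xb ⟶ S} (v : S' ⟶ S)
    (h : An.IsStronglyProjective fb) : An.IsStronglyProjective (pullback.snd fb v) := by
  obtain ⟨n, c, hc, hcb⟩ := h
  obtain ⟨m, hm⟩ := isPullback_projSpaceOver v n
  let c' : pullback fb v ⟶ CohB1.ProjSpaceOver n S' :=
    hm.lift (pullback.fst fb v ≫ c) (pullback.snd fb v) (by rw [Category.assoc, hcb, pullback.condition])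
  have h2 : c' ≫ CohB1.ProjSpaceOver.toBase n S' = pullback.snd fb v := hm.lift_snd _ _ _
  have h1 : c' ≫ m = pullback.fst fb v ≫ c := hm.lift_fst _ _ _
  have hp : IsPullback (pullback.fst fb v) c' c m :=
    IsPullback.of_bot (by rw [h2, hcb]; exact IsPullback.of_hasPullback _ _) h1.symm hm
  exact ⟨n, c', MorphismProperty.of_isPullback (P := @IsClosedImmersion) hp hc, h2⟩

theorem isPullback_pullbackMap {T X Xb S : Scheme.{u}} (v : T ⟶ S) (f : X ⟶ S) (fb : Xb ⟶ S)
    (j : X ⟶ Xb) (hj : j ≫ fb = f) :
    IsPullback (pullback.fst f v) (pullback.lift (pullback.fst f v ≫ j) (pullback.snd f v)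
      (by rw [Category.assoc, hj, pullback.condition]) : pullback f v ⟶ pullback fb v) j
      (pullback.fst fb v) := by
  refine IsPullback.of_bot ?_ (pullback.lift_fst _ _ _).symm (IsPullback.of_hasPullback fb v)
  rw [pullback.lift_snd, hj]
  exact IsPullback.of_hasPullback _ _

theorem isElementaryFibration_baseChange {X S S' : Scheme.{u}} {f : X ⟶ S} (v : S' ⟶ S)
    (hf : An.IsElementaryFibration f) : An.IsElementaryFibration (pullback.snd f v) := by
  obtain ⟨Xb, Y, j, fb, i, hjf, hj, hi, hrange, hdense, hsm, hproj, hgeo, hfin, het, hsurj⟩ := hf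
  let j' : pullback f v ⟶ pullback fb v := pullback.lift (pullback.fst f v ≫ j) (pullback.snd f v)
    (by rw [Category.assoc, hjf, pullback.condition])
  let i' : pullback (i ≫ fb) v ⟶ pullback fb v :=
    pullback.lift (pullback.fst (i ≫ fb) v ≫ i) (pullback.snd (i ≫ fb) v)
      (by rw [Category.assoc, pullback.condition])
  have hjp := isPullback_pullbackMap v f fb j hjf
  have hip := isPullback_pullbackMap v (i ≫ fb) fb i rfl
  have hrj := range_of_isPullback hjp.flip
  have hri := range_of_isPullback hip.flip
  have hie : i' ≫ pullback.snd fb v = pullback.snd (i ≫ fb) v := pullback.lift_snd _ _ _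
  refine ⟨pullback fb v, pullback (i ≫ fb) v, j', pullback.snd fb v, i', pullback.lift_snd _ _ _,
    MorphismProperty.of_isPullback (P := @IsOpenImmersion) hjp hj,
    MorphismProperty.of_isPullback (P := @IsClosedImmersion) hip hi, ?_, ?_, inferInstance,
    isStronglyProjective_baseChange v hproj, ?_, ?_, ?_, ?_⟩
  · show Set.range j' = (Set.range i')ᶜ
    rw [hrj, hri, hrange, Set.preimage_compl]
  · intro s
    have hirr : IsIrreducible (pullback.snd fb v ⁻¹' {s}) := by
      let σ : Spec (CommRingCat.of (AlgebraicClosure (S'.residueField s))) ⟶ S' :=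
        Spec.map (CommRingCat.ofHom (algebraMap (S'.residueField s) _)) ≫ S'.fromSpecResidueField s
      have hσ : Set.range σ = {s} := by
        rw [Scheme.Hom.comp_base, TopCat.coe_comp, Set.range_comp,
          Set.range_eq_univ.mpr (Surjective.surj : Function.Surjective
            (Spec.map (CommRingCat.ofHom (algebraMap (S'.residueField s) (AlgebraicClosure (S'.residueField s)))))),
          Set.image_univ, Scheme.range_fromSpecResidueField]
      have := (hgeo _ (σ ≫ v)).1
      have hsp : IrreducibleSpace ↥(pullback (pullback.snd fb v) σ) :=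
        irreducibleSpace_of_homeomorph (pullbackLeftPullbackSndIso fb v σ).inv.homeomorph
      rw [← hσ, ← Scheme.Pullback.range_fst]
      have := (IrreducibleSpace.isIrreducible_univ _).image (pullback.fst (pullback.snd fb v) σ)
        (Scheme.Hom.continuous _).continuousOn
      rwa [Set.image_univ] at this
    refine subset_closure_inter_of_isPreirreducible_of_isOpen hirr.isPreirreducible
      ?_ ?_ |>.trans (closure_mono (Set.inter_comm _ _).le)
    · exact (MorphismProperty.of_isPullback (P := @IsOpenImmersion) hjp hj :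
        IsOpenImmersion j').base_open.isOpen_range
    · obtain ⟨z, hz⟩ := hirr.nonempty
      have hz' : pullback.fst fb v z ∈ fb ⁻¹' {v s} := by
        show fb (pullback.fst fb v z) = v s
        rw [← Scheme.Hom.comp_apply, pullback.condition, Scheme.Hom.comp_apply]
        exact congrArg v hz
      have hne : (Set.range j ∩ fb ⁻¹' {v s}).Nonempty :=
        closure_nonempty_iff.mp ⟨_, hdense (v s) hz'⟩
      obtain ⟨x, hx, hxs⟩ := hne
      obtain ⟨w, hw1, hw2⟩ := Scheme.Pullback.exists_preimage_pullback x s (f := fb) (g := v) hxs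
      refine ⟨w, hw2, ?_⟩
      show w ∈ Set.range j'
      rw [hrj]
      show pullback.fst fb v w ∈ Set.range j
      rwa [hw1]
  · intro Ω _ _ σ
    obtain ⟨h1, h2⟩ := hgeo Ω (σ ≫ v)
    refine ⟨irreducibleSpace_of_homeomorph (pullbackLeftPullbackSndIso fb v σ).inv.homeomorph, ?_⟩
    rw [← h2]
    exact IsHomeomorph.topologicalKrullDim_eq _ (pullbackLeftPullbackSndIso fb v σ).hom.homeomorph.isHomeomorph
  · rw [hie]; exact MorphismProperty.of_isPullback (P := @IsFinite) (IsPullback.of_hasPullback (i ≫ fb) v) hfin
  · rw [hie]; exact MorphismProperty.of_isPullback (P := @Etale) (IsPullback.of_hasPullback (i ≫ fb) v) het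
  · rw [hie]
    have : Surjective (i ≫ fb) := ⟨hsurj⟩
    exact Surjective.surj

end Groth.L02.An
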