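import Groth.Agent.L02.An.Affine
import Groth.Prelude.Def_AnHol
import Mathlib.AlgebraicGeometry.AffineSpace
import Mathlib.Analysis.Calculus.FDeriv.Mul
import Mathlib.Analysis.Calculus.FDeriv.Pow

/-!
Holomorphic functions on affine space.
-/

noncomputable section

open AlgebraicGeometry CategoryTheory TopologicalSpace Opposite Filter Topology

namespace Groth.L02.An

open _root_.An

theorem differentiable_eval {ι : Type*} [Fintype ι] (p : MvPolynomial ι ℂ) :
    Differentiable ℂ fun z : ι → ℂ => MvPolynomial.eval z p := by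
  induction p using MvPolynomial.induction_on with
  | C a => simp
  | add p q hp hq => simp only [map_add]; exact hp.add hq
  | mul_X p i hp =>
    simp only [map_mul, MvPolynomial.eval_X]
    exact hp.mul (differentiable_apply (𝕜 := ℂ) i)

variable {X : Scheme.{0}} [X.Over SC]

/-- Near a point of an affine open, a section over any open is a quotient of sections over the affine. -/
theorem exists_ev_eq_div {U : X.Opens} (hU : IsAffineOpen U) {W : X.Opens} (s : Γ(X, W)) (x : Pts X)
    (hxU : x.pt ∈ U) (hxW : x.pt ∈ W) :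
    ∃ (a h : Γ(X, U)) (k : ℕ), x.ev U hxU h ≠ 0 ∧
      ∀ (y : Pts X) (hy : y.pt ∈ U), y.ev U hy h ≠ 0 → ∃ hyW : y.pt ∈ W,
        y.ev W hyW s = y.ev U hy a / (y.ev U hy h) ^ k := by
  obtain ⟨h, hhW, hxh⟩ := hU.exists_basicOpen_le (V := W) ⟨x.pt, hxW⟩ hxU
  let D := X.basicOpen h
  let _ := hU.isLocalization_basicOpen h
  obtain ⟨a, ⟨_, k, rfl⟩, ha⟩ := IsLocalization.exists_mk'_eq (Submonoid.powers h)
    (X.presheaf.map (homOfLE hhW).op s : Γ(X, D))
  refine ⟨a, h, k, (mem_basicOpen_iff x hxU h).mp hxh, fun y hyU hy0 => ?_⟩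
  have hy : y.pt ∈ D := (mem_basicOpen_iff y hyU h).mpr hy0
  refine ⟨hhW hy, ?_⟩
  have h1 := congrArg (val y D hy) ((IsLocalization.mk'_spec (Γ(X, D)) a (⟨h ^ k, ⟨k, rfl⟩⟩ : Submonoid.powers h)))
  rw [ha, map_mul] at h1
  have h2 : ∀ b : Γ(X, U), val y D hy (algebraMap Γ(X, U) Γ(X, D) b) =
      y.ev U (X.basicOpen_le h hy) b := fun b => ev_res y (X.basicOpen_le h) hy b
  have h3 : val y D hy (X.presheaf.map (homOfLE hhW).op s) = y.ev W (hhW hy) s := ev_res y hhW hy s
  simp only [h2, h3] at h1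
  rw [show y.ev U (X.basicOpen_le h hy) (h ^ k) = (y.ev U (X.basicOpen_le h hy) h) ^ k from
    map_pow (val y U (X.basicOpen_le h hy)) h k] at h1
  rw [eq_div_iff (pow_ne_zero _ hy0)]
  exact h1

variable {n : ℕ}

theorem surjective_eval₂Hom_coord :
    Function.Surjective (MvPolynomial.eval₂Hom (strHom (𝔸(Fin n; SC))) (AffineSpace.coord SC)) := by
  have h1 : (MvPolynomial.eval₂Hom (strHom (𝔸(Fin n; SC))) (AffineSpace.coord SC)).comp
      (MvPolynomial.map (Scheme.ΓSpecIso (CommRingCat.of ℂ)).hom.hom) =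
      MvPolynomial.eval₂Hom ((𝔸(Fin n; SC) ↘ SC).appTop).hom (AffineSpace.coord SC) := by
    refine MvPolynomial.ringHom_ext (fun c => ?_) (fun i => by simp)
    simp only [RingHom.comp_apply, MvPolynomial.map_C, MvPolynomial.eval₂Hom_C]
    show ((𝔸(Fin n; SC) ↘ SC).appTop).hom _ = _
    exact congrArg _ (Iso.hom_inv_id_apply (Scheme.ΓSpecIso (CommRingCat.of ℂ)) c)
  have : IsIso (AffineSpace.isoOfIsAffine (Fin n) SC).hom.appTop :=
    inferInstanceAs (IsIso (Scheme.Γ.map (AffineSpace.isoOfIsAffine (Fin n) SC).hom.op))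
  have h2 := (ConcreteCategory.bijective_of_isIso
    ((AffineSpace.isoOfIsAffine (Fin n) SC).hom.appTop)).surjective
  rw [AffineSpace.isoOfIsAffine_hom_appTop] at h2
  intro y
  obtain ⟨w, hw⟩ := h2 y
  exact ⟨_, (congr($h1 ((Scheme.ΓSpecIso _).hom w))).trans hw⟩

/-- The complex points of affine space are ℂⁿ. -/
theorem isHomeomorph_coord :
    IsHomeomorph fun (x : Pts (𝔸(Fin n; SC))) (i : Fin n) => x.evTop (AffineSpace.coord SC i) := by
  have h1 := isClosedEmbedding_evTop (X := 𝔸(Fin n; SC)) (AffineSpace.coord SC) surjective_eval₂Hom_coord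
  refine isHomeomorph_iff_isEmbedding_surjective.mpr ⟨h1.isEmbedding, fun z => ?_⟩
  let m := AffineSpace.homOfVector (𝟙 SC) fun i => (Scheme.ΓSpecIso (CommRingCat.of ℂ)).inv (z i)
  refine ⟨⟨m, AffineSpace.homOfVector_over _ _⟩, funext fun i => ?_⟩
  show (Scheme.ΓSpecIso (CommRingCat.of ℂ)).hom (m.appLE ⊤ ⊤ _ (AffineSpace.coord SC i)) = z i
  rw [show m.appLE ⊤ ⊤ _ = m.appTop from Scheme.Hom.appLE_eq_app _,
    AffineSpace.homOfVector_appTop_coord]
  exact Iso.inv_hom_id_apply (Scheme.ΓSpecIso (CommRingCat.of ℂ)) (z i)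

/-- The inverse of the coordinates of affine space. -/
def pointOf (z : Fin n → ℂ) : Pts (𝔸(Fin n; SC)) := isHomeomorph_coord.homeomorph.symm z

theorem evTop_pointOf (z : Fin n → ℂ) (i : Fin n) :
    (pointOf z).evTop (AffineSpace.coord SC i) = z i :=
  congrFun (isHomeomorph_coord.homeomorph.apply_symm_apply z) i

theorem pointOf_coord (x : Pts (𝔸(Fin n; SC))) :
    pointOf (fun i => x.evTop (AffineSpace.coord SC i)) = x :=
  isHomeomorph_coord.homeomorph.symm_apply_apply x

theorem evTop_eq_eval (a : Γ(𝔸(Fin n; SC), ⊤)) :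
    ∃ p : MvPolynomial (Fin n) ℂ, ∀ x : Pts (𝔸(Fin n; SC)),
      x.evTop a = MvPolynomial.eval (fun i => x.evTop (AffineSpace.coord SC i)) p := by
  obtain ⟨p, rfl⟩ := surjective_eval₂Hom_coord a
  refine ⟨p, fun x => ?_⟩
  rw [strHom_eq_str]
  exact val_eval₂Hom x ⊤ trivial _ p

theorem differentiableAt_ev {W : (𝔸(Fin n; SC)).Opens} (s : Γ(𝔸(Fin n; SC), W)) (z : Fin n → ℂ)
    (hz : (pointOf z).pt ∈ W) : DifferentiableAt ℂ (fun w => evF W s (pointOf w)) z := by
  obtain ⟨a, h, k, h0, key⟩ := exists_ev_eq_div (isAffineOpen_top _) s (pointOf z) trivial hz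
  obtain ⟨p, hp⟩ := evTop_eq_eval a
  obtain ⟨q, hq⟩ := evTop_eq_eval h
  have hp' : ∀ w, (pointOf w).evTop a = MvPolynomial.eval w p := fun w => by
    rw [hp, funext (evTop_pointOf w)]
  have hq' : ∀ w, (pointOf w).evTop h = MvPolynomial.eval w q := fun w => by
    rw [hq, funext (evTop_pointOf w)]
  have h0' : MvPolynomial.eval z q ≠ 0 := by rw [← hq']; exact h0
  refine ((differentiable_eval p z).fun_mul (((differentiable_eval q z).fun_pow k).fun_inv
    (pow_ne_zero k h0' : MvPolynomial.eval z q ^ k ≠ 0))).congr_of_eventuallyEq ?_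
  filter_upwards [(MvPolynomial.continuous_eval q).continuousAt.eventually_ne h0'] with w hw
  obtain ⟨hwW, he⟩ := key (pointOf w) trivial (by rw [← hq'] at hw; exact hw)
  rw [evF_of_mem s hwW, he]
  show (pointOf w).evTop a / (pointOf w).evTop h ^ k = _
  rw [hp', hq', div_eq_mul_inv]

open Classical in
/-- A function on an open set of complex points of affine space, in coordinates. -/
def inCoords (U : Opens (Pts (𝔸(Fin n; SC)))) (g : U → ℂ) (z : Fin n → ℂ) : ℂ :=
  if h : pointOf z ∈ U then g ⟨_, h⟩ else 0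

theorem inCoords_of_mem (U : Opens (Pts (𝔸(Fin n; SC)))) (g : U → ℂ) {z : Fin n → ℂ}
    (h : pointOf z ∈ U) : inCoords U g z = g ⟨_, h⟩ := dif_pos h

theorem continuous_pointOf : Continuous (pointOf (n := n)) :=
  isHomeomorph_coord.homeomorph.symm.continuous

theorem differentiableAt_chartAlg {U : Opens (Pts (𝔸(Fin n; SC)))} {g : U → ℂ} (hg : g ∈ chartAlg U)
    {z : Fin n → ℂ} (hz : pointOf z ∈ U) : DifferentiableAt ℂ (inCoords U g) z := by
  have hev : ∀ᶠ w in 𝓝 z, pointOf w ∈ U :=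
    (continuous_pointOf.tendsto z).eventually (U.2.mem_nhds hz)
  induction hg using Algebra.adjoin_induction with
  | algebraMap c =>
    refine (differentiableAt_const c).congr_of_eventuallyEq ?_
    filter_upwards [hev] with w hw using inCoords_of_mem U _ hw
  | add a b _ _ ha hb =>
    refine (ha.fun_add hb).congr_of_eventuallyEq ?_
    filter_upwards [hev] with w hw
    simp only [inCoords_of_mem U _ hw]
    rfl
  | mul a b _ _ ha hb =>
    refine (ha.fun_mul hb).congr_of_eventuallyEq ?_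
    filter_upwards [hev] with w hw
    simp only [inCoords_of_mem U _ hw]
    rfl
  | mem g hg =>
    obtain ⟨W, hW, m, s, V, G, hV, hG, h⟩ := hg
    obtain ⟨hzV, -⟩ := h ⟨_, hz⟩
    have hzW := hW ⟨_, hz⟩
    have hv : (fun i => evF W (s i) (pointOf z)) ∈ V := by
      simpa only [evF_of_mem _ hzW] using hzV
    refine (((hG.differentiableAt (hV.mem_nhds hv))).comp z
      (differentiableAt_pi.mpr fun i => differentiableAt_ev (s i) z hzW)).congr_of_eventuallyEq ?_
    filter_upwards [hev] with w hw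
    exact (inCoords_of_mem U _ hw).trans ((h ⟨_, hw⟩).2.trans
      (congrArg G (funext fun i => (evF_of_mem (s i) (hW ⟨_, hw⟩)).symm)))

end Groth.L02.An
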