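import Mathlib.CategoryTheory.Functor.Flat
import Mathlib.CategoryTheory.Sites.Pullback
import Mathlib.Algebra.Category.Grp.FilteredColimits
import Mathlib.Algebra.Category.Grp.Limits
import Mathlib.Algebra.Category.Grp.Colimits
import Mathlib.CategoryTheory.Limits.FilteredColimitCommutesFiniteLimit

/-!
Left Kan extension along a flat functor of essentially small sites preserves finite limits
(AddCommGrpCat valued).
-/

universe v v₁ u₁ v₂ u₂

noncomputable section

open CategoryTheory Limits Opposite

namespace Groth.L02.An

variable {C : Type u₁} [Category.{v₁} C] {D : Type u₂} [Category.{v₂} D]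

set_option backward.defeqAttrib.useBackward true in
set_option backward.isDefEq.respectTransparency false in
def lanEvalIsoColim (F : C ⥤ D) (E : Type*) [Category E]
    [∀ X : D, HasColimitsOfShape (CostructuredArrow F X) E] (X : D) :
    F.lan ⋙ (evaluation D E).obj X ≅
      (Functor.whiskeringLeft _ _ E).obj (CostructuredArrow.proj F X) ⋙ colim :=
  NatIso.ofComponents (fun G =>
    IsColimit.coconePointUniqueUpToIso
    (Functor.isPointwiseLeftKanExtensionLeftKanExtensionUnit F G X)
    (colimit.isColimit _)) (fun {G₁ G₂} φ => by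
      apply (Functor.isPointwiseLeftKanExtensionLeftKanExtensionUnit F G₁ X).hom_ext
      intro T
      have h₁ := fun (G : C ⥤ E) => IsColimit.comp_coconePointUniqueUpToIso_hom
        (Functor.isPointwiseLeftKanExtensionLeftKanExtensionUnit F G X) (colimit.isColimit _) T
      have h₂ := congr_app (F.lanUnit.naturality φ) T.left
      dsimp at h₁ h₂ ⊢
      simp only [Category.assoc] at h₁ ⊢
      simp only [Functor.lan, Functor.lanUnit] at h₂ ⊢
      rw [reassoc_of% h₁, NatTrans.naturality_assoc, ← reassoc_of% h₂, h₁,
        ι_colimMap, Functor.whiskerLeft_app]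
      rfl)

theorem lan_preservesFiniteLimits (F : C ⥤ D) [RepresentablyFlat F] [Small.{v} C] [LocallySmall.{v} C] [LocallySmall.{v} D]
    [∀ (G : Cᵒᵖ ⥤ AddCommGrpCat.{v}), F.op.HasLeftKanExtension G] :
    PreservesFiniteLimits (F.op.lan : (Cᵒᵖ ⥤ AddCommGrpCat.{v}) ⥤ Dᵒᵖ ⥤ AddCommGrpCat.{v}) := by
  have : Small.{v} Cᵒᵖ := small_map Opposite.equivToOpposite.symm
  have hsm : ∀ K : Dᵒᵖ, Small.{v} (CostructuredArrow F.op K) := fun K => by
    let e : CostructuredArrow F.op K ≃ Σ X : Cᵒᵖ, (F.op.obj X ⟶ K) :=
      { toFun := fun f => ⟨f.left, f.hom⟩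
        invFun := fun p => CostructuredArrow.mk p.2
        left_inv := fun f => rfl
        right_inv := fun p => rfl }
    have : ∀ X : Cᵒᵖ, Small.{v} (F.op.obj X ⟶ K) := fun X => small_map (opEquiv _ _)
    exact small_map e
  apply preservesFiniteLimits_of_preservesFiniteLimitsOfSize.{0}
  intro J _ _
  have : ∀ K : Dᵒᵖ, HasColimitsOfShape (CostructuredArrow F.op K) AddCommGrpCat.{v} := fun K => by
    have : IsFiltered (CostructuredArrow F.op K) :=
      IsFiltered.of_equivalence (structuredArrowOpEquivalence F (unop K))
    infer_instance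
  apply preservesLimitsOfShape_of_evaluation _ J
  intro K
  have : IsFiltered (CostructuredArrow F.op K) :=
    IsFiltered.of_equivalence (structuredArrowOpEquivalence F (unop K))
  have : LocallySmall.{v} (CostructuredArrow F.op K) := ⟨fun a b => small_of_injective
    (f := fun φ : a ⟶ b => φ.left.unop) fun φ ψ h => CostructuredArrow.hom_ext _ _ (Quiver.Hom.unop_inj h)⟩
  have : EssentiallySmall.{v} (CostructuredArrow F.op K) := essentiallySmall_of_small_of_locallySmall _
  have : IsFiltered (SmallModel.{v} (CostructuredArrow F.op K)) :=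
    IsFiltered.of_equivalence (equivSmallModel _)
  have : PreservesColimitsOfShape (CostructuredArrow F.op K) (forget AddCommGrpCat.{v}) :=
    preservesColimitsOfShape_of_equiv (equivSmallModel _).symm _
  have : PreservesFiniteLimits (colim : (CostructuredArrow F.op K ⥤ AddCommGrpCat.{v}) ⥤ _) :=
    inferInstance
  exact preservesLimitsOfShape_of_natIso (lanEvalIsoColim _ _ _).symm

end Groth.L02.An
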