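import Mathlib.Analysis.Complex.RemovableSingularity
import Mathlib.Analysis.Complex.Liouville
import Mathlib.LinearAlgebra.Lagrange
import Mathlib.Algebra.MvPolynomial.Funext
import Mathlib.Topology.Algebra.MvPolynomial

/-!
Functions off a hypersurface of ℂᵈ which are holomorphic on lines and of polynomial growth are polynomials.
-/

noncomputable section

open Filter Topology Polynomial

namespace Groth.L02.An

/-- An entire function of polynomial growth is a polynomial. -/
theorem exists_polynomial_of_growth : ∀ (N : ℕ) {f : ℂ → ℂ}, Differentiable ℂ f →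
    ∀ {B : ℝ}, (∀ z, ‖f z‖ ≤ B * (1 + ‖z‖) ^ N) →
      ∃ p : ℂ[X], p.natDegree ≤ N ∧ ∀ z, f z = p.eval z
  | 0, f, hf, B, hb => by
    obtain ⟨c, hc⟩ := hf.exists_const_forall_eq_of_bounded
      ((Metric.isBounded_closedBall (x := (0 : ℂ)) (r := B)).subset (by
        rintro _ ⟨z, rfl⟩
        simpa using hb z))
    exact ⟨C c, by simp, fun z => by simpa using hc z⟩
  | N + 1, f, hf, B, hb => by
    have hg : Differentiable ℂ (dslope f 0) := by
      rw [← differentiableOn_univ, Complex.differentiableOn_dslope univ_mem, differentiableOn_univ]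
      exact hf
    obtain ⟨M, hM⟩ := (isCompact_closedBall (0 : ℂ) 1).exists_bound_of_continuousOn hg.continuous.continuousOn
    have hB0 : 0 ≤ B := by
      have := (norm_nonneg _).trans (hb 0); simpa using this
    set B' := max M (2 * (B + ‖f 0‖))
    have hgb : ∀ z, ‖dslope f 0 z‖ ≤ B' * (1 + ‖z‖) ^ N := by
      intro z
      have hB' : 0 ≤ B' := le_trans (by positivity) (le_max_right _ _)
      by_cases hz : ‖z‖ ≤ 1
      · exact ((hM z (by simpa using hz)).trans (le_max_left _ _)).trans
          (le_mul_of_one_le_right hB' (one_le_pow₀ (by simp)))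
      · push Not at hz
        have hz0 : z ≠ 0 := fun h => by simp [h] at hz; linarith
        rw [dslope_of_ne _ hz0, slope_def_field, sub_zero, norm_div, div_le_iff₀ (norm_pos_iff.mpr hz0)]
        have h1 : (1 : ℝ) ≤ (1 + ‖z‖) ^ (N + 1) := one_le_pow₀ (by simp)
        calc ‖f z - f 0‖ ≤ B * (1 + ‖z‖) ^ (N + 1) + ‖f 0‖ :=
              (norm_sub_le _ _).trans (by linarith [hb z])
          _ ≤ (B + ‖f 0‖) * (1 + ‖z‖) ^ (N + 1) := by nlinarith [norm_nonneg (f 0)]
          _ = (B + ‖f 0‖) * (1 + ‖z‖) ^ N * (1 + ‖z‖) := by rw [pow_succ]; ring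
          _ ≤ (B + ‖f 0‖) * (1 + ‖z‖) ^ N * (2 * ‖z‖) :=
              mul_le_mul_of_nonneg_left (by linarith) (by positivity)
          _ = 2 * (B + ‖f 0‖) * (1 + ‖z‖) ^ N * ‖z‖ := by ring
          _ ≤ B' * (1 + ‖z‖) ^ N * ‖z‖ := by
              gcongr; exact le_max_right _ _
    obtain ⟨p, hp, hpe⟩ := exists_polynomial_of_growth N hg hgb
    refine ⟨C (f 0) + X * p, ?_, fun z => ?_⟩
    · refine (natDegree_add_le _ _).trans (max_le (by simp) ?_)
      exact natDegree_mul_le.trans (by simpa using by omega)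
    · have := sub_smul_dslope f 0 z
      rw [sub_zero, smul_eq_mul, hpe] at this
      simp only [eval_add, eval_C, eval_mul, eval_X]
      linear_combination -this

/-- A function of polynomial growth holomorphic off a finite set is a polynomial there. -/
theorem exists_polynomial_of_growth_punctured (F : Set ℂ) (hF : F.Finite) (N : ℕ) (B : ℝ) :
    ∀ f : ℂ → ℂ, DifferentiableOn ℂ f Fᶜ → (∀ z ∉ F, ‖f z‖ ≤ B * (1 + ‖z‖) ^ N) →
      ∃ p : ℂ[X], p.natDegree ≤ N ∧ ∀ z ∉ F, f z = p.eval z := by
  classical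
  induction F, hF using Set.Finite.induction_on with
  | empty =>
    intro f hd hb
    obtain ⟨p, hp, hpe⟩ := exists_polynomial_of_growth N
      (differentiableOn_univ.mp (by simpa using hd)) (fun z => hb z (by simp))
    exact ⟨p, hp, fun z _ => hpe z⟩
  | @insert c G hc hG ih =>
    intro f hd hb
    have hGo : IsOpen Gᶜ := hG.isClosed.isOpen_compl
    let f' := Function.update f c (limUnder (𝓝[≠] c) f)
    obtain ⟨r, hr, hrG⟩ := Metric.nhds_basis_closedBall.mem_iff.mp (hGo.mem_nhds (show c ∈ Gᶜ from hc))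
    have hbd : ∀ z ∈ Metric.ball c r \ {c}, ‖f z‖ ≤ |B| * (1 + (‖c‖ + r)) ^ N := by
      rintro z ⟨hz, hzc⟩
      have hzF : z ∉ insert c G := by
        rintro (rfl | h)
        · exact hzc rfl
        · exact hrG (Metric.ball_subset_closedBall hz) h
      refine (hb z hzF).trans ((mul_le_mul_of_nonneg_right (le_abs_self B) (by positivity)).trans ?_)
      gcongr
      have := norm_add_le c (z - c)
      rw [add_sub_cancel, ← dist_eq_norm] at this
      linarith [Metric.mem_ball.mp hz]
    have hsub : Metric.ball c r \ {c} ⊆ (insert c G)ᶜ := by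
      rintro z ⟨hz, hzc⟩ (h | h)
      · exact hzc h
      · exact hrG (Metric.ball_subset_closedBall hz) h
    have hd1 := Complex.differentiableOn_update_limUnder_of_bddAbove (Metric.ball_mem_nhds c hr)
      (hd.mono hsub) ⟨|B| * (1 + (‖c‖ + r)) ^ N, by
        rintro _ ⟨z, hz, rfl⟩; exact hbd z hz⟩
    have hd' : DifferentiableOn ℂ f' Gᶜ := by
      intro z hz
      by_cases hzc : z = c
      · subst hzc
        exact (hd1.differentiableAt (Metric.ball_mem_nhds z hr)).differentiableWithinAt
      · have hmem : (insert c G)ᶜ ∈ 𝓝 z :=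
          (hG.insert c).isClosed.isOpen_compl.mem_nhds (by simp [hzc]; exact hz)
        have he : f' =ᶠ[𝓝 z] f := Filter.eventuallyEq_of_mem hmem fun w hw =>
          Function.update_of_ne (fun h => hw (Or.inl h)) _ _
        exact (he.differentiableAt_iff.mpr (hd.differentiableAt hmem)).differentiableWithinAt
    have hb' : ∀ z ∉ G, ‖f' z‖ ≤ B * (1 + ‖z‖) ^ N := by
      intro z hz
      by_cases hzc : z = c
      · subst hzc
        have hcont : ContinuousAt f' z := (hd'.differentiableAt (hGo.mem_nhds hz)).continuousAt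
        refine le_of_tendsto_of_tendsto (hcont.norm.tendsto.mono_left nhdsWithin_le_nhds)
          ((show Continuous fun w : ℂ => B * (1 + ‖w‖) ^ N by fun_prop).tendsto z |>.mono_left
            nhdsWithin_le_nhds) ?_ (b := 𝓝[≠] z)
        filter_upwards [self_mem_nhdsWithin, nhdsWithin_le_nhds (hGo.mem_nhds hz)] with w hw hw'
        show ‖Function.update f z _ w‖ ≤ _
        rw [Function.update_of_ne hw]
        exact hb w (by simp only [Set.mem_insert_iff, not_or]; exact ⟨hw, hw'⟩)
      · show ‖Function.update f c _ z‖ ≤ _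
        rw [Function.update_of_ne hzc]
        exact hb z (by simp [hzc, hz])
    obtain ⟨p, hp, hpe⟩ := ih f' hd' hb'
    refine ⟨p, hp, fun z hz => ?_⟩
    simp only [Set.mem_insert_iff, not_or] at hz
    rw [← hpe z hz.2]
    exact (Function.update_of_ne hz.1 _ _).symm

/-- Restriction of a polynomial to a line. -/
def lineRestrict {n : Type*} (h : MvPolynomial n ℂ) (x v : n → ℂ) : ℂ[X] :=
  MvPolynomial.aeval (fun i => Polynomial.C (x i) + Polynomial.X * Polynomial.C (v i)) h

theorem eval_lineRestrict {n : Type*} (h : MvPolynomial n ℂ) (x v : n → ℂ) (s : ℂ) :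
    (lineRestrict h x v).eval s = MvPolynomial.eval (x + s • v) h := by
  show (Polynomial.aeval s).comp (MvPolynomial.aeval _) h = _
  rw [MvPolynomial.comp_aeval]
  refine (congrArg (fun w => MvPolynomial.aeval w h) (funext fun i => ?_)).trans rfl
  simp
  ring

theorem lineRestrict_ne_zero {n : Type*} {h : MvPolynomial n ℂ} {x v : n → ℂ} {s : ℂ}
    (hs : MvPolynomial.eval (x + s • v) h ≠ 0) : lineRestrict h x v ≠ 0 := fun h0 => hs (by
  rw [← eval_lineRestrict, h0, Polynomial.eval_zero])

/-- A function holomorphic and of polynomial growth on a line off a hypersurface is a polynomial on it. -/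
theorem exists_polynomial_on_line {n : Type*} [Fintype n] (h : MvPolynomial n ℂ) (q : (n → ℂ) → ℂ)
    (hd : ∀ x v : n → ℂ, DifferentiableOn ℂ (fun s : ℂ => q (x + s • v))
      {s : ℂ | MvPolynomial.eval (x + s • v) h ≠ 0})
    (N : ℕ) (B : ℝ) (hb : ∀ x, MvPolynomial.eval x h ≠ 0 → ‖q x‖ ≤ B * (1 + ‖x‖) ^ N)
    {x v : n → ℂ} {s₀ : ℂ} (hs₀ : MvPolynomial.eval (x + s₀ • v) h ≠ 0) :
    ∃ p : ℂ[X], p.natDegree ≤ N ∧ ∀ s, MvPolynomial.eval (x + s • v) h ≠ 0 →
      q (x + s • v) = p.eval s := by
  have hl := lineRestrict_ne_zero hs₀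
  set F : Set ℂ := {s | (lineRestrict h x v).IsRoot s}
  have hF : F.Finite := finite_setOfPred_isRoot hl
  have hmem : ∀ s, s ∉ F ↔ MvPolynomial.eval (x + s • v) h ≠ 0 := fun s => by
    simp [F, Polynomial.IsRoot, eval_lineRestrict]
  obtain ⟨p, hp, hpe⟩ := exists_polynomial_of_growth_punctured F hF N
    (|B| * (1 + ‖x‖ + ‖v‖) ^ N) (fun s => q (x + s • v))
    ((hd x v).mono fun s hs => (hmem s).mp hs) (fun s hs => by
      refine (hb _ ((hmem s).mp hs)).trans ?_
      rw [mul_assoc, ← mul_pow]
      refine (mul_le_mul_of_nonneg_right (le_abs_self B) (by positivity)).trans ?_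
      gcongr
      calc 1 + ‖x + s • v‖ ≤ 1 + (‖x‖ + ‖s‖ * ‖v‖) := by
            gcongr; exact (norm_add_le _ _).trans (by rw [norm_smul])
        _ ≤ (1 + ‖x‖ + ‖v‖) * (1 + ‖s‖) := by
            nlinarith [norm_nonneg x, norm_nonneg v, norm_nonneg s])
  exact ⟨p, hp, fun s hs => hpe s ((hmem s).mpr hs)⟩

set_option maxHeartbeats 1000000 in
/-- A function off a hypersurface, holomorphic on lines and of polynomial growth, is a polynomial. -/
theorem exists_mvPolynomial_eq : ∀ (d : ℕ) (h : MvPolynomial (Fin d) ℂ), h ≠ 0 →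
    ∀ (q : (Fin d → ℂ) → ℂ),
    (∀ x v : Fin d → ℂ, DifferentiableOn ℂ (fun s : ℂ => q (x + s • v))
      {s : ℂ | MvPolynomial.eval (x + s • v) h ≠ 0}) →
    ∀ (N : ℕ) (B : ℝ), (∀ x, MvPolynomial.eval x h ≠ 0 → ‖q x‖ ≤ B * (1 + ‖x‖) ^ N) →
      ∃ Q : MvPolynomial (Fin d) ℂ, ∀ x, MvPolynomial.eval x h ≠ 0 → q x = MvPolynomial.eval x Q
  | 0, h, _, q, _, N, B, _ =>
    ⟨MvPolynomial.C (q default), fun x _ => by rw [MvPolynomial.eval_C, Subsingleton.elim x default]⟩
  | d + 1, h, hh, q, hd, N, B, hb => by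
    classical
    obtain ⟨x₀, hx₀⟩ : ∃ x, MvPolynomial.eval x h ≠ 0 := by
      by_contra hc
      push Not at hc
      exact hh (MvPolynomial.funext fun x => by simpa using hc x)
    let hz : ℂ → MvPolynomial (Fin d) ℂ := fun z =>
      MvPolynomial.aeval (Fin.cons (MvPolynomial.C z) MvPolynomial.X) h
    have hhz : ∀ z t, MvPolynomial.eval t (hz z) = MvPolynomial.eval (Fin.cons z t) h := fun z t => by
      show (MvPolynomial.aeval t).comp (MvPolynomial.aeval _) h = _
      rw [MvPolynomial.comp_aeval]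
      refine (congrArg (fun w => MvPolynomial.aeval w h) (funext fun i => ?_)).trans rfl
      refine Fin.cases ?_ (fun j => ?_) i <;> simp
    let e₀ : Fin (d + 1) → ℂ := Fin.cons 1 0
    have hcons : ∀ (z : ℂ) (t : Fin d → ℂ), Fin.cons 0 t + z • e₀ = (Fin.cons z t : Fin (d + 1) → ℂ) := by
      intro z t
      funext i
      refine Fin.cases ?_ (fun j => ?_) i <;> simp [e₀]
    have hbad : {z | hz z = 0}.Finite := by
      refine (finite_setOfPred_isRoot (lineRestrict_ne_zero (h := h) (x := Fin.cons 0 (Fin.tail x₀))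
        (v := e₀) (s := x₀ 0) ?_)).subset ?_
      · rwa [hcons, Fin.cons_self_tail]
      · intro z (hz0 : hz z = 0)
        show (lineRestrict h _ e₀).eval z = 0
        rw [eval_lineRestrict, hcons, ← hhz, hz0, map_zero]
    obtain ⟨s, hs, hcard⟩ := hbad.infinite_compl.exists_subset_card_eq (N + 1)
    have hih : ∀ z ∈ s, ∃ Q : MvPolynomial (Fin d) ℂ, ∀ t, MvPolynomial.eval t (hz z) ≠ 0 →
        q (Fin.cons z t) = MvPolynomial.eval t Q := by
      intro z hzs
      have hline : ∀ (t v : Fin d → ℂ) (u : ℂ),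
          (Fin.cons z (t + u • v) : Fin (d + 1) → ℂ) = Fin.cons z t + u • Fin.cons 0 v := by
        intro t v u
        funext i
        refine Fin.cases ?_ (fun j => ?_) i <;> simp
      refine exists_mvPolynomial_eq d (hz z) (hs hzs) (fun t => q (Fin.cons z t)) (fun t v => ?_) N
        (|B| * (1 + ‖z‖) ^ N) (fun t ht => ?_)
      · refine ((hd (Fin.cons z t) (Fin.cons 0 v)).congr fun u _ => ?_).mono fun u hu => ?_
        · show q _ = q _
          rw [hline]
        · show MvPolynomial.eval _ h ≠ 0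
          rw [← hline, ← hhz]
          exact hu
      · refine (hb _ (by rwa [← hhz])).trans ?_
        rw [mul_assoc, ← mul_pow]
        refine (mul_le_mul_of_nonneg_right (le_abs_self B) (by positivity)).trans ?_
        gcongr
        have : ‖(Fin.cons z t : Fin (d + 1) → ℂ)‖ ≤ ‖z‖ + ‖t‖ := by
          refine (pi_norm_le_iff_of_nonneg (by positivity)).mpr fun i => Fin.cases ?_ (fun j => ?_) i
          · simp
          · simpa using (norm_le_pi_norm t j).trans (le_add_of_nonneg_left (norm_nonneg z))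
        nlinarith [norm_nonneg z, norm_nonneg t]
    choose! Qz hQz using hih
    let Q : MvPolynomial (Fin (d + 1)) ℂ := ∑ z ∈ s, MvPolynomial.rename Fin.succ (Qz z) *
      Polynomial.aeval (MvPolynomial.X 0) (Lagrange.basis s id z)
    have hQeval : ∀ z t, MvPolynomial.eval (Fin.cons z t) Q =
        ∑ w ∈ s, MvPolynomial.eval t (Qz w) * (Lagrange.basis s id w).eval z := by
      intro z t
      simp only [Q, map_sum, map_mul, MvPolynomial.eval_rename]
      refine Finset.sum_congr rfl fun w _ => ?_
      congr 1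
      show (MvPolynomial.aeval (Fin.cons z t : Fin (d + 1) → ℂ)) (Polynomial.aeval _ _) = _
      rw [← Polynomial.aeval_algHom_apply]
      simp
    let h' : MvPolynomial (Fin d) ℂ := ∏ z ∈ s, hz z
    have hh' : h' ≠ 0 := Finset.prod_ne_zero_iff.mpr fun z hzs => hs hzs
    have hgood : ∀ z t, MvPolynomial.eval t h' ≠ 0 → MvPolynomial.eval (Fin.cons z t) h ≠ 0 →
        q (Fin.cons z t) = MvPolynomial.eval (Fin.cons z t) Q := by
      intro z t ht' ht
      have hts : ∀ w ∈ s, MvPolynomial.eval (Fin.cons w t) h ≠ 0 := fun w hw => by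
        rw [← hhz]
        rw [map_prod, Finset.prod_ne_zero_iff] at ht'
        exact ht' w hw
      obtain ⟨p, hp, hpe⟩ := exists_polynomial_on_line h q hd N B hb (x := Fin.cons 0 t) (v := e₀)
        (s₀ := z) (by rwa [hcons])
      have hpz : q (Fin.cons z t) = p.eval z := by rw [← hcons, hpe z (by rwa [hcons])]
      rw [hpz, hQeval]
      have hint : p = Lagrange.interpolate s id fun w => q (Fin.cons w t) := by
        refine Lagrange.eq_interpolate_of_eval_eq _ (Set.injOn_id _) ?_ fun w hw => ?_
        · refine lt_of_le_of_lt degree_le_natDegree ?_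
          rw [hcard]
          exact_mod_cast Nat.lt_succ_of_le hp
        · rw [id, ← hpe w (by rw [hcons]; exact hts w hw), hcons]
      rw [hint, Lagrange.interpolate_apply, Polynomial.eval_finset_sum]
      refine Finset.sum_congr rfl fun w hw => ?_
      rw [Polynomial.eval_mul, Polynomial.eval_C, hQz w hw t (by rw [hhz]; exact hts w hw)]
    refine ⟨Q, fun x hx => ?_⟩
    obtain ⟨t₁, ht₁⟩ : ∃ t, MvPolynomial.eval t h' ≠ 0 := by
      by_contra hc
      push Not at hc
      exact hh' (MvPolynomial.funext fun t => by simpa using hc t)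
    let v : Fin (d + 1) → ℂ := Fin.cons (x 0) t₁ - x
    obtain ⟨p, -, hpe⟩ := exists_polynomial_on_line h q hd N B hb (x := x) (v := v) (s₀ := 0)
      (by simpa using hx)
    have hl1 : lineRestrict h x v ≠ 0 := lineRestrict_ne_zero (s := 0) (by simpa using hx)
    have hl2 : lineRestrict h' (Fin.tail x) (t₁ - Fin.tail x) ≠ 0 := lineRestrict_ne_zero (s := 1)
      (by simpa using ht₁)
    have hpQ : p = lineRestrict Q x v := by
      refine Polynomial.eq_of_infinite_eval_eq _ _ (Set.Infinite.mono ?_
        (Set.Finite.infinite_compl ((finite_setOfPred_isRoot hl1).union (finite_setOfPred_isRoot hl2))))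
      intro u hu
      simp only [Set.mem_compl_iff, Set.mem_union, Set.mem_ofPred_eq, Polynomial.IsRoot,
        eval_lineRestrict, not_or] at hu
      show p.eval u = _
      rw [← hpe u hu.1, eval_lineRestrict, ← Fin.cons_self_tail (x + u • v)]
      refine hgood _ _ ?_ (by rw [Fin.cons_self_tail]; exact hu.1)
      convert hu.2 using 3
      funext i
      simp [Fin.tail, v]
    have h0 := hpe 0 (by simpa using hx)
    rw [zero_smul, add_zero] at h0
    rw [h0, hpQ, eval_lineRestrict, zero_smul, add_zero]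

end Groth.L02.An
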