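import Groth.Agent.L02.An.Primitive
import Groth.Agent.L02.An.Roots
import Groth.Agent.L02.An.PolyGrowth
import Mathlib.Analysis.Calculus.Deriv.Slope

/-!
The complex points of an affine irreducible variety are connected.
-/

noncomputable section

open Filter Topology Polynomial

namespace Groth.L02.An

section calculus

/-- A continuous simple root of a family with differentiable coefficients is differentiable. -/
theorem differentiableAt_root (c : ℂ → ℂ[X]) (D : ℕ) (hdeg : ∀ s, (c s).natDegree = D)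
    (hc : ∀ i, Differentiable ℂ fun s => (c s).coeff i) {φ : ℂ → ℂ} {s₀ : ℂ}
    (hcont : ContinuousAt φ s₀) (hroot : ∀ᶠ s in 𝓝 s₀, (c s).eval (φ s) = 0)
    (h' : (c s₀).derivative.eval (φ s₀) ≠ 0) : DifferentiableAt ℂ φ s₀ := by
  set r := φ s₀
  let g : ℂ → ℂ := fun s => (c s).eval r
  have hg : DifferentiableAt ℂ g s₀ := by
    have e : g = fun s => ∑ i ∈ Finset.range (D + 1), (c s).coeff i * r ^ i :=
      funext fun s => by rw [← hdeg s, ← eval_eq_sum_range]
    rw [e]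
    exact DifferentiableAt.fun_sum fun i _ => ((hc i) s₀).mul_const _
  let F : ℂ → ℂ := fun s => ∑ i ∈ Finset.range (D + 1), (c s).coeff i *
    ∑ j ∈ Finset.range i, φ s ^ j * r ^ (i - 1 - j)
  have hF : ContinuousAt F s₀ := tendsto_finsetSum _ fun i _ =>
    ((hc i).continuous.tendsto s₀).mul (tendsto_finsetSum _ fun j _ => (hcont.pow j).mul tendsto_const_nhds)
  have hF0 : F s₀ = (c s₀).derivative.eval r := by
    simp only [F]
    rw [derivative_eval, sum_over_range _ (fun n => by simp), hdeg]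
    refine Finset.sum_congr rfl fun i _ => ?_
    rw [show φ s₀ = r from rfl, geom_sum₂_self]
    ring
  have hkey : ∀ᶠ s in 𝓝 s₀, F s * (φ s - r) = -(g s) := by
    filter_upwards [hroot] with s hs
    simp only [F]
    rw [Finset.sum_mul]
    rw [Finset.sum_congr rfl fun i _ =>
      (by rw [mul_assoc, geom_sum₂_mul, mul_sub] :
        (c s).coeff i * (∑ j ∈ Finset.range i, φ s ^ j * r ^ (i - 1 - j)) * (φ s - r) =
          (c s).coeff i * φ s ^ i - (c s).coeff i * r ^ i), Finset.sum_sub_distrib]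
    rw [← hdeg s, ← eval_eq_sum_range, ← eval_eq_sum_range, hs, zero_sub]
  have hg0 : g s₀ = 0 := hroot.self_of_nhds
  refine (hasDerivAt_iff_tendsto_slope.mpr (Tendsto.congr' ?_
    ((hasDerivAt_iff_tendsto_slope.mp hg.hasDerivAt).neg.div (hF.tendsto.mono_left nhdsWithin_le_nhds)
      (by rwa [hF0])))).differentiableAt
  filter_upwards [nhdsWithin_le_nhds hkey,
    nhdsWithin_le_nhds (hF.eventually_ne (by rwa [hF0]))] with s hs hsF
  simp only [Pi.div_apply, slope_def_field, hg0, sub_zero]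
  rw [div_eq_iff hsF, div_mul_eq_mul_div, mul_comm (φ s - φ s₀), hs, neg_div]

theorem differentiableAt_coeff_prod {ι : Type*} (s : Finset ι) (f : ι → ℂ → ℂ) {s₀ : ℂ}
    (hf : ∀ k ∈ s, DifferentiableAt ℂ (f k) s₀) :
    ∀ i, DifferentiableAt ℂ (fun u => (∏ k ∈ s, (X - C (f k u))).coeff i) s₀ := by
  classical
  induction s using Finset.induction_on with
  | empty => intro i; simp
  | insert a s ha ih =>
    intro i
    have ih' := ih fun k hk => hf k (Finset.mem_insert_of_mem hk)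
    have hfa := hf a (Finset.mem_insert_self a s)
    simp only [Finset.prod_insert ha, sub_mul, coeff_sub, coeff_C_mul]
    refine DifferentiableAt.fun_sub ?_ (hfa.fun_mul (ih' i))
    cases i with
    | zero => simp
    | succ n => simpa only [coeff_X_mul] using ih' n

theorem norm_coeff_prod_le {ι : Type*} (s : Finset ι) (f : ι → ℂ) {M : ℝ} (hM : 0 ≤ M)
    (hf : ∀ k ∈ s, ‖f k‖ ≤ M) : ∀ i, ‖(∏ k ∈ s, (X - C (f k))).coeff i‖ ≤ (1 + M) ^ s.card := by
  classical
  induction s using Finset.induction_on with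
  | empty => intro i; rcases i with _ | i <;> simp [coeff_one]
  | insert a s ha ih =>
    intro i
    have ih' := ih fun k hk => hf k (Finset.mem_insert_of_mem hk)
    have hfa := hf a (Finset.mem_insert_self a s)
    rw [Finset.card_insert_of_notMem ha, Finset.prod_insert ha, sub_mul, coeff_sub, coeff_C_mul, pow_succ]
    refine (norm_sub_le _ _).trans ?_
    rw [norm_mul]
    have h1 : ‖(X * ∏ k ∈ s, (X - C (f k))).coeff i‖ ≤ (1 + M) ^ s.card := by
      rcases i with _ | n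
      · simp; positivity
      · rw [coeff_X_mul]; exact ih' n
    nlinarith [ih' i, norm_nonneg (f a), norm_nonneg ((∏ k ∈ s, (X - C (f k))).coeff i)]

theorem exists_growth {n : Type*} [Fintype n] (p : MvPolynomial n ℂ) :
    ∃ (N : ℕ) (B : ℝ), 0 ≤ B ∧ ∀ x, ‖MvPolynomial.eval x p‖ ≤ B * (1 + ‖x‖) ^ N := by
  refine ⟨p.totalDegree, ∑ m ∈ p.support, ‖p.coeff m‖, Finset.sum_nonneg fun _ _ => norm_nonneg _,
    fun x => ?_⟩
  rw [MvPolynomial.eval_eq', Finset.sum_mul]
  refine (norm_sum_le _ _).trans (Finset.sum_le_sum fun m hm => ?_)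
  rw [norm_mul, norm_prod]
  refine mul_le_mul_of_nonneg_left ?_ (norm_nonneg _)
  calc ∏ i, ‖x i ^ m i‖ ≤ ∏ i, (1 + ‖x‖) ^ m i := Finset.prod_le_prod (fun i _ => norm_nonneg _)
        fun i _ => by
          rw [norm_pow]
          exact pow_le_pow_left₀ (norm_nonneg _) ((norm_le_pi_norm x i).trans (by simp)) _
    _ = (1 + ‖x‖) ^ ∑ i, m i := Finset.prod_pow_eq_pow_sum _ _ _
    _ ≤ (1 + ‖x‖) ^ p.totalDegree := by
        refine pow_le_pow_right₀ (by simp) ?_
        refine le_trans (le_of_eq ?_) (MvPolynomial.le_totalDegree hm)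
        rw [Finsupp.sum_fintype]
        simp

end calculus

variable {d : ℕ} {A : Type} [CommRing A] [Algebra ℂ A] [Algebra (MvPolynomial (Fin d) ℂ) A]
  [IsScalarTower ℂ (MvPolynomial (Fin d) ℂ) A]

/-- The topology of pointwise convergence on complex points. -/
abbrev ptTop (A : Type) [CommRing A] [Algebra ℂ A] : TopologicalSpace (A →ₐ[ℂ] ℂ) :=
  TopologicalSpace.induced (fun ψ => (⇑ψ : A → ℂ)) inferInstance

attribute [local instance] ptTop

theorem continuous_ptApply (b : A) : Continuous fun ψ : A →ₐ[ℂ] ℂ => ψ b :=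
  (continuous_apply b).comp continuous_induced_dom

/-- The fibre polynomial of a branched cover. -/
def fibrePoly (a : A) (t : Fin d → ℂ) : ℂ[X] :=
  (minpoly (MvPolynomial (Fin d) ℂ) a).map (MvPolynomial.eval t)

variable [IsDomain A] [FaithfulSMul (MvPolynomial (Fin d) ℂ) A]
  [Module.Finite (MvPolynomial (Fin d) ℂ) A]

theorem monic_fibrePoly (a : A) (t : Fin d → ℂ) : (fibrePoly a t).Monic :=
  (minpoly.monic (Algebra.IsIntegral.isIntegral a)).map _

theorem natDegree_fibrePoly (a : A) (t : Fin d → ℂ) :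
    (fibrePoly a t).natDegree = (minpoly (MvPolynomial (Fin d) ℂ) a).natDegree :=
  (minpoly.monic (Algebra.IsIntegral.isIntegral a)).natDegree_map _

theorem continuous_coeff_fibrePoly (a : A) (i : ℕ) :
    Continuous fun t : Fin d → ℂ => (fibrePoly a t).coeff i := by
  simp only [fibrePoly, coeff_map]
  exact MvPolynomial.continuous_eval _

theorem eval_fibrePoly_apply (a : A) (ψ : A →ₐ[ℂ] ℂ) :
    (fibrePoly a (base ψ : Fin d → ℂ)).eval (ψ a) = 0 := by
  rw [fibrePoly, ← apply_aeval, minpoly.aeval, map_zero]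

theorem exists_point (a : A) (t : Fin d → ℂ) (z : ℂ) (hz : (fibrePoly a t).eval z = 0) :
    ∃ ψ : A →ₐ[ℂ] ℂ, base ψ = t ∧ ψ a = z := by
  have : Algebra.FiniteType ℂ A :=
    Algebra.FiniteType.trans (R := ℂ) (S := MvPolynomial (Fin d) ℂ) inferInstance inferInstance
  obtain ⟨ψ, h1, h2⟩ := exists_algHom_eq_root (MvPolynomial.aeval t) a z hz
  exact ⟨ψ, funext fun i => (h1 _).trans (MvPolynomial.aeval_X t i), h2⟩

/-- The data of a branched cover. -/
structure Cover (d : ℕ) (A : Type) [CommRing A] [Algebra ℂ A] [Algebra (MvPolynomial (Fin d) ℂ) A] where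
  a : A
  h : MvPolynomial (Fin d) ℂ
  h_ne : h ≠ 0
  gen : ∀ b : A, ∃ (n : ℕ) (q : (MvPolynomial (Fin d) ℂ)[X]),
    algebraMap (MvPolynomial (Fin d) ℂ) A (h ^ n) * b = aeval a q
  simple : ∀ ψ : A →ₐ[ℂ] ℂ, MvPolynomial.eval (base ψ) h ≠ 0 →
    ((minpoly (MvPolynomial (Fin d) ℂ) a).derivative.map (MvPolynomial.eval (base ψ))).eval (ψ a) ≠ 0

namespace Cover

variable (c : Cover d A)

theorem eq_of_apply {ψ ψ' : A →ₐ[ℂ] ℂ} (hψ : MvPolynomial.eval (base ψ : Fin d → ℂ) c.h ≠ 0)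
    (hb : (base ψ : Fin d → ℂ) = base ψ') (ha : ψ c.a = ψ' c.a) : ψ = ψ' := by
  refine AlgHom.ext fun b => ?_
  obtain ⟨n, q, hq⟩ := c.gen b
  have h1 := congrArg ψ hq
  have h2 := congrArg ψ' hq
  rw [map_mul, apply_algebraMap, apply_aeval, map_pow] at h1 h2
  rw [← hb, ← ha, ← h1] at h2
  exact (mul_left_cancel₀ (pow_ne_zero _ hψ) h2).symm

theorem derivative_ne_zero {t : Fin d → ℂ} (ht : MvPolynomial.eval t c.h ≠ 0) {z : ℂ}
    (hz : (fibrePoly c.a t).eval z = 0) : (fibrePoly c.a t).derivative.eval z ≠ 0 := by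
  obtain ⟨ψ, rfl, rfl⟩ := exists_point c.a t z hz
  rw [fibrePoly, derivative_map]
  exact c.simple ψ ht

theorem nodup_roots {t : Fin d → ℂ} (ht : MvPolynomial.eval t c.h ≠ 0) :
    (fibrePoly c.a t).roots.Nodup := by
  classical
  rw [Multiset.nodup_iff_count_le_one]
  intro z
  rw [count_roots]
  by_contra hc
  push Not at hc
  obtain ⟨h1, h2⟩ := (one_lt_rootMultiplicity_iff_isRoot (monic_fibrePoly c.a t).ne_zero).mp hc
  exact c.derivative_ne_zero ht h1 h2

/-- The part of a fibre in a given set. -/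
def part (S : Set (A →ₐ[ℂ] ℂ)) (t : Fin d → ℂ) : Finset ℂ :=
  open Classical in
  (fibrePoly c.a t).roots.toFinset.filter fun z => ∃ ψ ∈ S, base ψ = t ∧ ψ c.a = z

theorem mem_part {S : Set (A →ₐ[ℂ] ℂ)} {t : Fin d → ℂ} {z : ℂ} :
    z ∈ c.part S t ↔ ∃ ψ ∈ S, base ψ = t ∧ ψ c.a = z := by
  classical
  simp only [part, Finset.mem_filter, Multiset.mem_toFinset, mem_roots', and_iff_right_iff_imp]
  rintro ⟨ψ, -, rfl, rfl⟩
  exact ⟨(monic_fibrePoly _ _).ne_zero, eval_fibrePoly_apply _ _⟩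

/-- The polynomial of the part of a fibre in a given set. -/
def partPoly (S : Set (A →ₐ[ℂ] ℂ)) (t : Fin d → ℂ) : ℂ[X] := ∏ z ∈ c.part S t, (X - C z)

theorem continuousOn_point {N : Set (Fin d → ℂ)} (hN : ∀ t ∈ N, MvPolynomial.eval t c.h ≠ 0)
    (φ : (Fin d → ℂ) → ℂ) (hφ : ContinuousOn φ N) (Ψ : (Fin d → ℂ) → (A →ₐ[ℂ] ℂ))
    (hΨ : ∀ t ∈ N, base (Ψ t) = t ∧ Ψ t c.a = φ t) : ContinuousOn Ψ N := by
  rw [continuousOn_iff_continuous_restrict]
  refine continuous_induced_rng.mpr (continuous_pi fun b => ?_)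
  obtain ⟨n, q, hq⟩ := c.gen b
  have e : ∀ t : N, Ψ t.1 b =
      (∑ i ∈ Finset.range (q.natDegree + 1), MvPolynomial.eval t.1 (q.coeff i) * φ t.1 ^ i) /
        MvPolynomial.eval t.1 c.h ^ n := fun t => by
    rw [eq_div_iff (pow_ne_zero _ (hN t.1 t.2))]
    have h1 := congrArg (Ψ t.1) hq
    rw [map_mul, apply_algebraMap, apply_aeval, (hΨ t.1 t.2).1, (hΨ t.1 t.2).2, map_pow] at h1
    rw [mul_comm, h1, eval_map, eval₂_eq_sum_range]
  simp only [Function.comp_apply, Set.restrict_apply, e]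
  refine Continuous.div (continuous_finsetSum _ fun i _ => ?_) ?_ fun t => pow_ne_zero _ (hN t.1 t.2)
  · exact ((MvPolynomial.continuous_eval _).comp continuous_subtype_val).mul
      ((continuousOn_iff_continuous_restrict.mp hφ).pow i)
  · exact ((MvPolynomial.continuous_eval _).comp continuous_subtype_val).pow n

/-- A set of points relatively clopen off the branch locus. -/
def IsClopenOff (S : Set (A →ₐ[ℂ] ℂ)) : Prop :=
  IsClopen (Subtype.val ⁻¹' S : Set {ψ : A →ₐ[ℂ] ℂ // MvPolynomial.eval (base ψ) c.h ≠ 0})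

theorem exists_local_part {S : Set (A →ₐ[ℂ] ℂ)} (hS : c.IsClopenOff S) {t₀ : Fin d → ℂ}
    (ht₀ : MvPolynomial.eval t₀ c.h ≠ 0) :
    ∃ (N : Set (Fin d → ℂ)) (φ : ℂ → (Fin d → ℂ) → ℂ), IsOpen N ∧ t₀ ∈ N ∧
      (∀ r ∈ c.part S t₀, ContinuousOn (φ r) N ∧ φ r t₀ = r ∧
        ∀ t ∈ N, (fibrePoly c.a t).eval (φ r t) = 0) ∧
      ∀ t ∈ N, MvPolynomial.eval t c.h ≠ 0 ∧ Set.InjOn (fun r => φ r t) (c.part S t₀) ∧
        c.part S t = (c.part S t₀).image fun r => φ r t := by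
  classical
  set R₀ := (fibrePoly c.a t₀).roots.toFinset
  have hR₀ : ∀ r ∈ R₀, (fibrePoly c.a t₀).eval r = 0 := fun r hr =>
    (mem_roots'.mp (Multiset.mem_toFinset.mp hr)).2
  have hD : (minpoly (MvPolynomial (Fin d) ℂ) c.a).natDegree ≠ 0 :=
    (minpoly.natDegree_pos (Algebra.IsIntegral.isIntegral c.a)).ne'
  choose! ε N₀ φ hε hNo htN hφc hφ using fun r (hr : r ∈ R₀) =>
    exists_root_nbhd (fibrePoly c.a) _ (monic_fibrePoly c.a) (natDegree_fibrePoly c.a) hD
      (continuous_coeff_fibrePoly c.a) (hR₀ r hr) (c.derivative_ne_zero ht₀ (hR₀ r hr))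
  have hφ₀ : ∀ r ∈ R₀, φ r t₀ = r := fun r hr =>
    ((hφ r hr t₀ (htN r hr)).2.2 r (by simpa using hε r hr) (hR₀ r hr)).symm
  have hev1 : ∀ᶠ t in 𝓝 t₀, MvPolynomial.eval t c.h ≠ 0 ∧ ∀ r ∈ R₀, t ∈ N₀ r := by
    refine ((MvPolynomial.continuous_eval c.h).continuousAt.eventually_ne ht₀).and ?_
    exact (Finset.eventually_all R₀).mpr fun r hr => (hNo r hr).mem_nhds (htN r hr)
  have hev2 : ∀ᶠ t in 𝓝 t₀, ∀ r ∈ R₀, ∀ r' ∈ R₀, r ≠ r' → φ r t ≠ φ r' t := by
    refine (Finset.eventually_all R₀).mpr fun r hr => (Finset.eventually_all R₀).mpr fun r' hr' => ?_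
    by_cases hne : r = r'
    · exact Eventually.of_forall fun t h => absurd hne h
    · have h1 := ((hφc r hr).continuousAt ((hNo r hr).mem_nhds (htN r hr))).sub
        ((hφc r' hr').continuousAt ((hNo r' hr').mem_nhds (htN r' hr')))
      exact (h1.eventually_ne (by rw [Pi.sub_apply, hφ₀ r hr, hφ₀ r' hr']; exact sub_ne_zero.mpr hne)).mono
        fun t ht _ => sub_ne_zero.mp ht
  obtain ⟨N₁, hN₁, hN₁o, ht₁⟩ := eventually_nhds_iff.mp (hev1.and hev2)
  have : Nonempty (A →ₐ[ℂ] ℂ) := by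
    obtain ⟨z, hz⟩ := IsAlgClosed.exists_root (fibrePoly c.a t₀) fun h0 => hD (by
      rw [← natDegree_fibrePoly c.a t₀]
      exact natDegree_eq_of_degree_eq_some h0)
    obtain ⟨ψ, -⟩ := exists_point c.a t₀ z hz
    exact ⟨ψ⟩
  choose! Ψ hΨb hΨa using fun (r : ℂ) (hr : r ∈ R₀) (t : Fin d → ℂ) (ht : t ∈ N₁) =>
    exists_point c.a t (φ r t) (hφ r hr t ((hN₁ t ht).1.2 r hr)).2.1
  have hev3 : ∀ᶠ t in 𝓝 t₀, ∀ r ∈ R₀, (Ψ r t ∈ S ↔ Ψ r t₀ ∈ S) := by
    refine (Finset.eventually_all R₀).mpr fun r hr => ?_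
    have hN : ∀ t ∈ N₁, MvPolynomial.eval t c.h ≠ 0 := fun t ht => (hN₁ t ht).1.1
    have hc := c.continuousOn_point hN (φ r)
      ((hφc r hr).mono fun t ht => (hN₁ t ht).1.2 r hr) (Ψ r) fun t ht => ⟨hΨb r hr t ht, hΨa r hr t ht⟩
    let G : N₁ → {ψ : A →ₐ[ℂ] ℂ // MvPolynomial.eval (base ψ) c.h ≠ 0} :=
      fun t => ⟨Ψ r t.1, by rw [hΨb r hr t.1 t.2]; exact hN t.1 t.2⟩
    have hG : Continuous G := (continuousOn_iff_continuous_restrict.mp hc).subtype_mk _
    have hcl := hS.preimage hG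
    rw [← hN₁o.nhdsWithin_eq ht₁, nhdsWithin_eq_map_subtype_coe ht₁, eventually_map]
    by_cases h0 : Ψ r t₀ ∈ S
    · exact (hcl.2.eventually_mem (show (⟨t₀, ht₁⟩ : N₁) ∈ G ⁻¹' (Subtype.val ⁻¹' S) from h0)).mono
        fun t ht => ⟨fun _ => h0, fun _ => ht⟩
    · exact (hcl.1.isOpen_compl.eventually_mem
        (show (⟨t₀, ht₁⟩ : N₁) ∈ (G ⁻¹' (Subtype.val ⁻¹' S))ᶜ from h0)).mono
        fun t ht => ⟨fun h => absurd h ht, fun h => absurd h h0⟩
  obtain ⟨N, hN, hNo', htN'⟩ := eventually_nhds_iff.mp (hev3.and (hN₁o.eventually_mem ht₁))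
  have hsub : ∀ r ∈ c.part S t₀, r ∈ R₀ := fun r hr => (Finset.mem_filter.mp hr).1
  have hmem : ∀ t ∈ N₁, ∀ r ∈ R₀, (φ r t ∈ c.part S t ↔ Ψ r t ∈ S) := fun t ht r hr => by
    rw [mem_part]
    refine ⟨?_, fun h => ⟨_, h, hΨb r hr t ht, hΨa r hr t ht⟩⟩
    rintro ⟨ψ, hψ, hb, ha⟩
    rwa [← c.eq_of_apply (by rw [hb]; exact (hN₁ t ht).1.1) (hb.trans (hΨb r hr t ht).symm)
      (ha.trans (hΨa r hr t ht).symm)]
  refine ⟨N, φ, hNo', htN', fun r hr => ⟨?_, hφ₀ r (hsub r hr), fun t ht => ?_⟩, fun t ht => ?_⟩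
  · exact (hφc r (hsub r hr)).mono fun t ht => (hN₁ t (hN t ht).2).1.2 r (hsub r hr)
  · exact (hφ r (hsub r hr) t ((hN₁ t (hN t ht).2).1.2 r (hsub r hr))).2.1
  obtain ⟨hiff, ht1⟩ := hN t ht
  obtain ⟨⟨hht, hmemN⟩, hsep⟩ := hN₁ t ht1
  have hinj : Set.InjOn (fun r => φ r t) R₀ := fun r hr r' hr' e => by_contra fun hne =>
    hsep r hr r' hr' hne e
  refine ⟨hht, hinj.mono hsub, ?_⟩
  have hall : R₀.image (fun r => φ r t) = (fibrePoly c.a t).roots.toFinset := by
    refine Finset.eq_of_subset_of_card_le ?_ ?_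
    · intro z hz
      obtain ⟨r, hr, rfl⟩ := Finset.mem_image.mp hz
      exact Multiset.mem_toFinset.mpr (mem_roots'.mpr
        ⟨(monic_fibrePoly _ _).ne_zero, (hφ r hr t (hmemN r hr)).2.1⟩)
    · rw [Finset.card_image_of_injOn hinj, Multiset.toFinset_card_of_nodup (c.nodup_roots hht),
        Multiset.toFinset_card_of_nodup (c.nodup_roots ht₀),
        ← (IsAlgClosed.splits _).natDegree_eq_card_roots, ← (IsAlgClosed.splits _).natDegree_eq_card_roots,
        natDegree_fibrePoly, natDegree_fibrePoly]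
  ext z
  constructor
  · intro hz
    obtain ⟨r, hr, rfl⟩ := Finset.mem_image.mp (hall ▸ (Finset.mem_filter.mp hz).1 :
      z ∈ R₀.image fun r => φ r t)
    refine Finset.mem_image.mpr ⟨r, ?_, rfl⟩
    rw [← hφ₀ r hr, hmem t₀ ht₁ r hr, ← hiff r hr, ← hmem t ht1 r hr]
    exact hz
  · intro hz
    obtain ⟨r, hr, rfl⟩ := Finset.mem_image.mp hz
    rw [hmem t ht1 r (hsub r hr), hiff r (hsub r hr), ← hmem t₀ ht₁ r (hsub r hr), hφ₀ r (hsub r hr)]
    exact hr

theorem differentiableOn_coeff_partPoly {S : Set (A →ₐ[ℂ] ℂ)} (hS : c.IsClopenOff S) (i : ℕ)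
    (x v : Fin d → ℂ) :
    DifferentiableOn ℂ (fun s : ℂ => (c.partPoly S (x + s • v)).coeff i)
      {s : ℂ | MvPolynomial.eval (x + s • v) c.h ≠ 0} := by
  classical
  intro s₀ hs₀
  obtain ⟨N, φ, hNo, htN, hφ, hN⟩ := c.exists_local_part hS hs₀
  have hl : Continuous fun s : ℂ => x + s • v := by fun_prop
  have hNs : ∀ᶠ s in 𝓝 s₀, x + s • v ∈ N := (hl.tendsto s₀).eventually (hNo.mem_nhds htN)
  have hd : ∀ r ∈ c.part S (x + s₀ • v), DifferentiableAt ℂ (fun s : ℂ => φ r (x + s • v)) s₀ := by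
    intro r hr
    refine differentiableAt_root (fun s : ℂ => fibrePoly c.a (x + s • v)) _
      (fun s => natDegree_fibrePoly _ _) (fun j => ?_) ?_ (hNs.mono fun s hs => (hφ r hr).2.2 _ hs)
      (c.derivative_ne_zero hs₀ ((hφ r hr).2.2 _ htN))
    · have e : ∀ s : ℂ, (fibrePoly c.a (x + s • v)).coeff j =
          (lineRestrict ((minpoly (MvPolynomial (Fin d) ℂ) c.a).coeff j) x v).eval s := fun s => by
        rw [eval_lineRestrict, fibrePoly, coeff_map]
      simp only [e]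
      exact Polynomial.differentiable _
    · exact ContinuousAt.comp (((hφ r hr).1).continuousAt (hNo.mem_nhds htN)) hl.continuousAt
  refine DifferentiableAt.differentiableWithinAt ?_
  refine (differentiableAt_coeff_prod (c.part S (x + s₀ • v)) (fun r (s : ℂ) => φ r (x + s • v)) hd
    i).congr_of_eventuallyEq ?_
  filter_upwards [hNs] with s hs
  rw [partPoly, (hN _ hs).2.2, Finset.prod_image (hN _ hs).2.1]

theorem card_part_le (S : Set (A →ₐ[ℂ] ℂ)) (t : Fin d → ℂ) :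
    (c.part S t).card ≤ (minpoly (MvPolynomial (Fin d) ℂ) c.a).natDegree := by
  classical
  refine (Finset.card_filter_le _ _).trans ((Multiset.toFinset_card_le _).trans ?_)
  rw [← natDegree_fibrePoly c.a t]
  exact card_roots' _

theorem exists_growth_partPoly (S : Set (A →ₐ[ℂ] ℂ)) (i : ℕ) :
    ∃ (N : ℕ) (B : ℝ), ∀ t, ‖(c.partPoly S t).coeff i‖ ≤ B * (1 + ‖t‖) ^ N := by
  set D := (minpoly (MvPolynomial (Fin d) ℂ) c.a).natDegree
  choose N B hB0 hB using fun j => exists_growth ((minpoly (MvPolynomial (Fin d) ℂ) c.a).coeff j)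
  let N' := (Finset.range D).sup N
  refine ⟨N' * D, (2 + ∑ j ∈ Finset.range D, B j) ^ D, fun t => ?_⟩
  let M : ℝ := 1 + ∑ j ∈ Finset.range D, ‖(fibrePoly c.a t).coeff j‖
  have hM0 : 0 ≤ M := add_nonneg zero_le_one (Finset.sum_nonneg fun _ _ => norm_nonneg _)
  have h1 : ∀ z ∈ c.part S t, ‖z‖ ≤ M := fun z hz => by
    obtain ⟨ψ, -, rfl, rfl⟩ := c.mem_part.mp hz
    have := norm_le_of_root (monic_fibrePoly c.a (base ψ : Fin d → ℂ)) (eval_fibrePoly_apply c.a ψ)
    rwa [natDegree_fibrePoly] at this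
  refine (norm_coeff_prod_le _ (fun z => z) hM0 h1 i).trans ?_
  refine (pow_le_pow_right₀ (by linarith) (c.card_part_le S t)).trans ?_
  rw [pow_mul, ← mul_pow]
  refine pow_le_pow_left₀ (by linarith) ?_ D
  have hone : (1 : ℝ) ≤ (1 + ‖t‖) ^ N' := one_le_pow₀ (by simp)
  have hle : ∑ j ∈ Finset.range D, ‖(fibrePoly c.a t).coeff j‖ ≤
      (∑ j ∈ Finset.range D, B j) * (1 + ‖t‖) ^ N' := by
    rw [Finset.sum_mul]
    refine Finset.sum_le_sum fun j hj => ?_
    rw [fibrePoly, coeff_map]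
    exact (hB j t).trans (mul_le_mul_of_nonneg_left
      (pow_le_pow_right₀ (by simp) (Finset.le_sup hj)) (hB0 j))
  rw [add_mul]
  linarith

theorem exists_polynomial_partPoly {S : Set (A →ₐ[ℂ] ℂ)} (hS : c.IsClopenOff S) :
    ∃ Q : (MvPolynomial (Fin d) ℂ)[X], ∀ t, MvPolynomial.eval t c.h ≠ 0 →
      Q.map (MvPolynomial.eval t) = c.partPoly S t := by
  have hex : ∀ i, ∃ Qi : MvPolynomial (Fin d) ℂ, ∀ t, MvPolynomial.eval t c.h ≠ 0 →
      (c.partPoly S t).coeff i = MvPolynomial.eval t Qi := fun i => by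
    obtain ⟨N, B, hB⟩ := c.exists_growth_partPoly S i
    exact exists_mvPolynomial_eq d c.h c.h_ne (fun t => (c.partPoly S t).coeff i)
      (fun x v => c.differentiableOn_coeff_partPoly hS i x v) N B fun t _ => hB t
  choose Qc hQc using hex
  set D := (minpoly (MvPolynomial (Fin d) ℂ) c.a).natDegree
  refine ⟨∑ i ∈ Finset.range (D + 1), monomial i (Qc i), fun t ht => ?_⟩
  ext i
  simp only [coeff_map, finsetSum_coeff, coeff_monomial, Finset.sum_ite_eq', Finset.mem_range]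
  split_ifs with hi
  · exact (hQc i t ht).symm
  · rw [map_zero]
    refine (coeff_eq_zero_of_natDegree_lt ?_).symm
    rw [partPoly, natDegree_prod _ _ fun z _ => X_sub_C_ne_zero z]
    simp only [natDegree_X_sub_C, Finset.sum_const, smul_eq_mul, mul_one]
    have := c.card_part_le S t
    omega

theorem partPoly_mul_compl (S : Set (A →ₐ[ℂ] ℂ)) {t : Fin d → ℂ}
    (ht : MvPolynomial.eval t c.h ≠ 0) :
    c.partPoly S t * c.partPoly Sᶜ t = fibrePoly c.a t := by
  classical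
  have hd : Disjoint (c.part S t) (c.part Sᶜ t) := Finset.disjoint_left.mpr fun z hz hz' => by
    obtain ⟨ψ, hψ, hb, ha⟩ := c.mem_part.mp hz
    obtain ⟨ψ', hψ', hb', ha'⟩ := c.mem_part.mp hz'
    exact hψ' ((c.eq_of_apply (by rw [hb]; exact ht) (hb.trans hb'.symm) (ha.trans ha'.symm)) ▸ hψ)
  have hu : c.part S t ∪ c.part Sᶜ t = (fibrePoly c.a t).roots.toFinset := by
    ext z
    simp only [Finset.mem_union, part, Finset.mem_filter]
    refine ⟨fun h => h.elim And.left And.left, fun hz => ?_⟩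
    obtain ⟨ψ, hb, ha⟩ := exists_point c.a t z (mem_roots'.mp (Multiset.mem_toFinset.mp hz)).2
    by_cases hψ : ψ ∈ S
    · exact Or.inl ⟨hz, ψ, hψ, hb, ha⟩
    · exact Or.inr ⟨hz, ψ, hψ, hb, ha⟩
  rw [partPoly, partPoly, ← Finset.prod_union hd, hu, Finset.prod_eq_multiset_prod,
    Multiset.toFinset_val, (c.nodup_roots ht).dedup]
  exact ((IsAlgClosed.splits _).eq_prod_roots_of_monic (monic_fibrePoly _ _)).symm

theorem eq_empty_or_univ {S : Set (A →ₐ[ℂ] ℂ)} (hS : c.IsClopenOff S) :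
    (∀ ψ ∈ S, MvPolynomial.eval (base ψ) c.h = 0) ∨
      ∀ ψ ∉ S, MvPolynomial.eval (base ψ) c.h = 0 := by
  classical
  obtain ⟨Q, hQ⟩ := c.exists_polynomial_partPoly hS
  obtain ⟨Q', hQ'⟩ := c.exists_polynomial_partPoly (S := Sᶜ) (by
    unfold IsClopenOff; rw [Set.preimage_compl]; exact hS.compl)
  have hPQ : minpoly (MvPolynomial (Fin d) ℂ) c.a = Q * Q' := by
    ext i : 1
    have h0 : c.h * ((minpoly (MvPolynomial (Fin d) ℂ) c.a).coeff i - (Q * Q').coeff i) = 0 := by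
      refine MvPolynomial.funext fun t => ?_
      by_cases ht : MvPolynomial.eval t c.h = 0
      · simp [ht]
      · rw [map_mul, map_sub, ← coeff_map, ← coeff_map (MvPolynomial.eval t) (n := i),
          Polynomial.map_mul, hQ t ht, hQ' t ht, c.partPoly_mul_compl S ht, map_zero]
        simp [fibrePoly]
    exact sub_eq_zero.mp ((mul_eq_zero.mp h0).resolve_left c.h_ne)
  have key : ∀ (U : Set (A →ₐ[ℂ] ℂ)) (P : (MvPolynomial (Fin d) ℂ)[X]), IsUnit P →
      (∀ t, MvPolynomial.eval t c.h ≠ 0 → P.map (MvPolynomial.eval t) = c.partPoly U t) →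
      ∀ ψ ∈ U, MvPolynomial.eval (base ψ) c.h = 0 := by
    intro U P hP hPU ψ hψ
    by_contra ht
    have h1 := hP.map (Polynomial.mapRingHom (MvPolynomial.eval (base ψ)))
    rw [coe_mapRingHom, hPU _ ht] at h1
    have h2 := natDegree_eq_zero_of_isUnit h1
    rw [partPoly, natDegree_prod _ _ fun z _ => X_sub_C_ne_zero z] at h2
    simp only [natDegree_X_sub_C, Finset.sum_const, smul_eq_mul, mul_one, Finset.card_eq_zero] at h2
    exact Finset.notMem_empty (ψ c.a) (h2 ▸ c.mem_part.mpr ⟨ψ, hψ, rfl, rfl⟩)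
  rcases ((minpoly.irreducible (Algebra.IsIntegral.isIntegral c.a)).isUnit_or_isUnit hPQ) with h | h
  · exact Or.inl (key S Q h hQ)
  · exact Or.inr fun ψ hψ => key Sᶜ Q' h hQ' ψ hψ

end Cover

omit [IsScalarTower ℂ (MvPolynomial (Fin d) ℂ) A] in
theorem isPreconnected_range_algHom_of_finite [IsScalarTower ℂ (MvPolynomial (Fin d) ℂ) A] :
    IsPreconnected (Set.range fun ψ : A →ₐ[ℂ] ℂ => (⇑ψ : A → ℂ)) := by
  obtain ⟨a, h, hh, hgen, hsimple⟩ := exists_branched_cover (d := d) (A := A)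
  let c : Cover d A := ⟨a, h, hh, hgen, hsimple⟩
  have hpc : PreconnectedSpace {ψ : A →ₐ[ℂ] ℂ // MvPolynomial.eval (base ψ) c.h ≠ 0} := by
    refine preconnectedSpace_iff_clopen.mpr fun U hU => ?_
    have hU' : c.IsClopenOff (Subtype.val '' U) := by
      unfold Cover.IsClopenOff; rwa [Set.preimage_image_eq _ Subtype.val_injective]
    rcases c.eq_empty_or_univ hU' with h1 | h1
    · exact Or.inl (Set.eq_empty_of_forall_notMem fun e he => e.2 (h1 _ ⟨e, he, rfl⟩))
    · exact Or.inr (Set.eq_univ_of_forall fun e => by_contra fun he =>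
        e.2 (h1 e.1 fun ⟨e', he', hee⟩ => he (Subtype.ext hee ▸ he')))
  have hI : IsPreconnected ((fun ψ : A →ₐ[ℂ] ℂ => (⇑ψ : A → ℂ)) ''
      {ψ | MvPolynomial.eval (base ψ) h ≠ 0}) := by
    rw [← Subtype.range_coe_subtype, ← Set.range_comp]
    exact @isPreconnected_range _ _ _ _ hpc _ (continuous_induced_dom.comp continuous_subtype_val)
  refine hI.subset_closure (Set.image_subset_range _ _) ?_
  rintro _ ⟨χ, rfl⟩
  have := mem_closure_ne_zero_of_finite (d := d) A χ (algebraMap (MvPolynomial (Fin d) ℂ) A h)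
    (fun h0 => hh (FaithfulSMul.algebraMap_injective _ _ (by rw [h0, map_zero])))
  simpa only [apply_algebraMap] using this

end Groth.L02.An

namespace Groth.L02.An

/-- The complex points of an affine irreducible variety are connected. -/
theorem isPreconnected_range_algHom (A : Type) [CommRing A] [IsDomain A] [Algebra ℂ A]
    [Algebra.FiniteType ℂ A] : IsPreconnected (Set.range fun ψ : A →ₐ[ℂ] ℂ => (⇑ψ : A → ℂ)) := by
  obtain ⟨d, φ, hinj, hfin⟩ := exists_finite_inj_algHom_of_fg ℂ A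
  let _ := φ.toRingHom.toAlgebra
  have : IsScalarTower ℂ (MvPolynomial (Fin d) ℂ) A :=
    .of_algebraMap_eq fun c => (φ.commutes c).symm
  have : FaithfulSMul (MvPolynomial (Fin d) ℂ) A :=
    (faithfulSMul_iff_algebraMap_injective _ _).mpr hinj
  have : Module.Finite (MvPolynomial (Fin d) ℂ) A := hfin
  exact isPreconnected_range_algHom_of_finite (d := d)

end Groth.L02.An
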