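import Groth.Agent.L02.An.Connected
import Mathlib.RingTheory.AlgebraicIndependent.TranscendenceBasis
import Mathlib.FieldTheory.KummerPolynomial
import Mathlib.RingTheory.AdjoinRoot
import Mathlib.RingTheory.RootsOfUnity.Complex
import Mathlib.RingTheory.MvPolynomial.Localization

/-!
A regular function with continuous roots of every order is constant.
-/

noncomputable section

open Polynomial
open scoped nonZeroDivisors

namespace Groth.L02.An

/-- A variable is not a proper power in a purely transcendental extension. -/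
theorem pow_ne_X {ι : Type} (i : ι) {p : ℕ} (hp : 2 ≤ p) (f : FractionRing (MvPolynomial ι ℂ)) :
    f ^ p ≠ algebraMap (MvPolynomial ι ℂ) _ (MvPolynomial.X i) := by
  intro h
  obtain ⟨g, rfl⟩ := IsIntegrallyClosed.exists_algebraMap_eq_of_isIntegral_pow
    (R := MvPolynomial ι ℂ) (by omega : 0 < p) (h ▸ isIntegral_algebraMap)
  rw [← map_pow] at h
  classical
  have h1 := congrArg (MvPolynomial.aeval fun j => if j = i then (X : ℂ[X]) else 0)
    (IsFractionRing.injective _ _ h)
  rw [map_pow, MvPolynomial.aeval_X, if_pos rfl] at h1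
  have h2 := congrArg natDegree h1
  rw [natDegree_pow, natDegree_X] at h2
  have := Nat.eq_one_of_dvd_one ⟨_, h2.symm⟩
  omega

theorem exists_prime_pow_ne_of_fields (R A K L : Type) [CommRing R] [CommRing A] [IsDomain R]
    [IsDomain A] [Algebra ℂ R] [Algebra ℂ A] [Algebra R A] [IsScalarTower ℂ R A] [Algebra.FiniteType ℂ A]
    [Algebra.IsAlgebraic R A] [Field K] [Field L] [Algebra R K]
    [IsFractionRing R K] [Algebra A L] [IsFractionRing A L] [Algebra R L] [IsScalarTower R A L]
    [Algebra K L] [IsScalarTower R K L] (r : R) (hr : ∀ (p : ℕ), 2 ≤ p → ∀ f : K, f ^ p ≠ algebraMap R K r) :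
    ∃ p : ℕ, p.Prime ∧ ∀ b : L, b ^ p ≠ algebraMap A L (algebraMap R A r) := by
  obtain ⟨G, hG⟩ := Algebra.FiniteType.out (R := ℂ) (A := A)
  classical
  let E := IntermediateField.adjoin K ((algebraMap A L) '' (G : Set A))
  have hfin : FiniteDimensional K E := by
    have : Finite ((algebraMap A L) '' (G : Set A)) := Set.Finite.to_subtype (G.finite_toSet.image _)
    refine IntermediateField.finiteDimensional_adjoin fun x hx => ?_
    obtain ⟨a, -, rfl⟩ := hx
    have h1 : IsAlgebraic R (algebraMap A L a) :=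
      (Algebra.IsAlgebraic.isAlgebraic a).algebraMap
    exact (IsFractionRing.isAlgebraic_iff R K L).mp h1 |>.isIntegral
  have htop : E = ⊤ := by
    rw [eq_top_iff]
    rintro x -
    have hA : ∀ a : A, algebraMap A L a ∈ E := fun a => by
      have ha : a ∈ Algebra.adjoin ℂ (G : Set A) := hG ▸ Algebra.mem_top
      induction ha using Algebra.adjoin_induction with
      | mem x hx => exact IntermediateField.subset_adjoin K _ ⟨x, hx, rfl⟩
      | algebraMap c =>
        rw [IsScalarTower.algebraMap_apply ℂ R A, ← IsScalarTower.algebraMap_apply R A L,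
          IsScalarTower.algebraMap_apply R K L]
        exact E.algebraMap_mem _
      | add x y _ _ hx hy => rw [map_add]; exact add_mem hx hy
      | mul x y _ _ hx hy => rw [map_mul]; exact mul_mem hx hy
    obtain ⟨a, b, -, rfl⟩ := IsFractionRing.div_surjective A x
    exact div_mem (hA a) (hA b)
  have : FiniteDimensional K L := by
    have : FiniteDimensional K (⊤ : IntermediateField K L) := htop ▸ hfin
    exact IntermediateField.topEquiv.toLinearEquiv.finiteDimensional
  obtain ⟨p, hp, hpp⟩ := Nat.exists_infinite_primes (Module.finrank K L + 1)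
  refine ⟨p, hpp, fun b hb => ?_⟩
  rw [← IsScalarTower.algebraMap_apply R A L, IsScalarTower.algebraMap_apply R K L] at hb
  have hirr := X_pow_sub_C_irreducible_of_prime hpp (a := algebraMap R K r) (hr p hpp.two_le)
  have hmin := minpoly.eq_of_irreducible_of_monic hirr (x := b) (by simp [hb])
    (monic_X_pow_sub_C _ hpp.ne_zero)
  have := minpoly.natDegree_le (A := K) b
  rw [← hmin, natDegree_X_pow_sub_C] at this
  omega

/-- A transcendental element of an affine domain is not a p-th power in its fraction field for some p. -/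
theorem exists_prime_pow_ne (A : Type) [CommRing A] [IsDomain A] [Algebra ℂ A]
    [Algebra.FiniteType ℂ A] (u : A) (hu : Transcendental ℂ u) :
    ∃ p : ℕ, p.Prime ∧ ∀ b : FractionRing A, b ^ p ≠ algebraMap A _ u := by
  obtain ⟨G, hG⟩ := Algebra.FiniteType.out (R := ℂ) (A := A)
  have : FaithfulSMul ℂ A := (faithfulSMul_iff_algebraMap_injective _ _).mpr (RingHom.injective _)
  have htop : Algebra.adjoin ℂ (insert u (G : Set A)) = ⊤ :=
    top_le_iff.mp (hG ▸ Algebra.adjoin_mono (Set.subset_insert _ _))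
  have : Algebra.IsAlgebraic (Algebra.adjoin ℂ (insert u (G : Set A))) A := by
    refine ⟨fun a => ?_⟩
    have : a = algebraMap (Algebra.adjoin ℂ (insert u (G : Set A))) A ⟨a, htop ▸ Algebra.mem_top⟩ := rfl
    rw [this]
    exact isAlgebraic_algebraMap _
  have hs : AlgebraicIndepOn ℂ id ({u} : Set A) :=
    (algebraicIndependent_unique_type_iff).mpr hu
  obtain ⟨s, hus, -, hsb⟩ := exists_isTranscendenceBasis_between {u} (insert u (G : Set A))
    (by simp) hs
  let φ : MvPolynomial s ℂ →ₐ[ℂ] A := MvPolynomial.aeval ((↑) : s → A)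
  let _ := φ.toRingHom.toAlgebra
  have : IsScalarTower ℂ (MvPolynomial s ℂ) A := .of_algebraMap_eq fun c => (φ.commutes c).symm
  have : FaithfulSMul (MvPolynomial s ℂ) A :=
    (faithfulSMul_iff_algebraMap_injective _ _).mpr hsb.1
  have : Algebra.IsAlgebraic (MvPolynomial s ℂ) A := by
    refine ⟨fun a => ?_⟩
    have h1 := hsb.isAlgebraic.isAlgebraic a
    have h2 : IsAlgebraic φ.range a := by
      rw [show φ.range = Algebra.adjoin ℂ (Set.range ((↑) : s → A)) from
        (Algebra.adjoin_range_eq_range_aeval ℂ _).symm]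
      exact h1
    exact h2.of_ringHom_of_comp_eq φ.rangeRestrict.toRingHom (RingHom.id A) φ.rangeRestrict_surjective
      Function.injective_id rfl
  let _ : Algebra (FractionRing (MvPolynomial s ℂ)) (FractionRing A) :=
    FractionRing.liftAlgebra (MvPolynomial s ℂ) (FractionRing A)
  obtain ⟨p, hp, hpb⟩ := exists_prime_pow_ne_of_fields (MvPolynomial s ℂ) A
    (FractionRing (MvPolynomial s ℂ)) (FractionRing A) (MvPolynomial.X ⟨u, hus rfl⟩)
    fun p hp f => pow_ne_X _ hp f
  refine ⟨p, hp, fun b hb => hpb b ?_⟩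
  rw [hb]
  congr 1
  exact (MvPolynomial.aeval_X (R := ℂ) ((↑) : s → A) ⟨u, hus rfl⟩).symm

/-- Adjoining the root of a non-power gives a domain. -/
theorem isDomain_adjoinRoot (A : Type) [CommRing A] [IsDomain A] (u : A) {p : ℕ} (hp : p.Prime)
    (hb : ∀ b : FractionRing A, b ^ p ≠ algebraMap A _ u) :
    IsDomain (AdjoinRoot (X ^ p - C u : A[X])) := by
  have hinj := IsFractionRing.injective A (FractionRing A)
  have hm : (X ^ p - C u : A[X]).Monic := monic_X_pow_sub_C _ hp.ne_zero
  have hirr := X_pow_sub_C_irreducible_of_prime hp (a := algebraMap A (FractionRing A) u) hb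
  have hmap : (X ^ p - C u : A[X]).map (algebraMap A (FractionRing A)) =
      X ^ p - C (algebraMap A (FractionRing A) u) := by simp
  refine AdjoinRoot.isDomain_of_prime ⟨hm.ne_zero, ?_, fun g h hgh => ?_⟩
  · intro hu
    have := hu.map (Polynomial.mapRingHom (algebraMap A (FractionRing A)))
    rw [coe_mapRingHom, hmap] at this
    exact hirr.not_isUnit this
  · have h1 := Polynomial.map_dvd (algebraMap A (FractionRing A)) hgh
    rw [Polynomial.map_mul, hmap] at h1
    rcases hirr.prime.dvd_or_dvd h1 with h2 | h2 <;> rw [← hmap] at h2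
    · exact Or.inl ((Polynomial.map_dvd_map _ hinj hm).mp h2)
    · exact Or.inr ((Polynomial.map_dvd_map _ hinj hm).mp h2)

/-- A function with a continuous logarithm is constant on the points of an affine irreducible variety. -/
theorem apply_eq_of_log (A : Type) [CommRing A] [IsDomain A] [Algebra ℂ A] [Algebra.FiniteType ℂ A]
    (u : A) (L : (Set.range fun ψ : A →ₐ[ℂ] ℂ => (⇑ψ : A → ℂ)) → ℂ) (hL : Continuous L)
    (hLu : ∀ f, Complex.exp (L f) = f.1 u) (χ χ' : A →ₐ[ℂ] ℂ) : χ u = χ' u := by
  by_cases hu : Transcendental ℂ u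
  · exfalso
    obtain ⟨p, hp, hpb⟩ := exists_prime_pow_ne A u hu
    have := isDomain_adjoinRoot A u hp hpb
    have : Algebra.FiniteType ℂ (AdjoinRoot (X ^ p - C u : A[X])) := by
      have : Algebra.FiniteType A (AdjoinRoot (X ^ p - C u : A[X])) :=
        Algebra.FiniteType.of_surjective (AdjoinRoot.mkₐ _) AdjoinRoot.mk_surjective
      exact Algebra.FiniteType.trans (R := ℂ) (S := A) inferInstance inferInstance
    have hconn := isPreconnected_range_algHom (AdjoinRoot (X ^ p - C u : A[X]))
    set T' := Set.range fun ψ : AdjoinRoot (X ^ p - C u : A[X]) →ₐ[ℂ] ℂ => ⇑ψ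
    let π : T' → (Set.range fun ψ : A →ₐ[ℂ] ℂ => (⇑ψ : A → ℂ)) := fun f =>
      ⟨fun a => f.1 (algebraMap A _ a), by
        obtain ⟨ψ, hψ⟩ := f.2
        exact ⟨ψ.comp (IsScalarTower.toAlgHom ℂ A _), funext fun a => congrFun hψ _⟩⟩
    have hπ : Continuous π := continuous_induced_rng.mpr (continuous_pi fun a =>
      (continuous_apply (algebraMap A (AdjoinRoot (X ^ p - C u : A[X])) a)).comp continuous_subtype_val)
    let w : T' → ℂ := fun f =>
      f.1 (AdjoinRoot.root _) / Complex.exp (L (π f) / p)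
    have hw : Continuous w := ((continuous_apply _).comp continuous_subtype_val).div
      (Complex.continuous_exp.comp ((hL.comp hπ).div_const _)) fun f => Complex.exp_ne_zero _
    have hpow : ∀ g : (Set.range fun ψ : A →ₐ[ℂ] ℂ => (⇑ψ : A → ℂ)),
        Complex.exp (L g / p) ^ p = g.1 u := fun g => by
      rw [← Complex.exp_nat_mul, mul_div_cancel₀ _ (by exact_mod_cast hp.ne_zero), hLu]
    have hmaps : Set.MapsTo w Set.univ {z : ℂ | z ^ p = 1} := by
      rintro ⟨_, ψ, rfl⟩ -
      show (ψ (AdjoinRoot.root _) / _) ^ p = 1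
      rw [div_pow, hpow, div_eq_one_iff_eq (by rw [← hpow]; exact pow_ne_zero _ (Complex.exp_ne_zero _))]
      have h0 := congrArg ψ (AdjoinRoot.eval₂_root (X ^ p - C u : A[X]))
      rw [eval₂_sub, eval₂_X_pow, eval₂_C, map_sub, map_pow, map_zero, sub_eq_zero] at h0
      exact h0
    have hfin : {z : ℂ | z ^ p = 1}.Finite := by
      refine (finite_setOfPred_isRoot (X_pow_sub_C_ne_zero hp.pos (1 : ℂ))).subset fun z hz => ?_
      show IsRoot _ z
      rw [IsRoot, eval_sub, eval_pow, eval_X, eval_C, (hz : z ^ p = 1), sub_self]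
    have : PreconnectedSpace T' := Subtype.preconnectedSpace hconn
    have := hfin.to_subtype
    have hdisc : DiscreteTopology {z : ℂ | z ^ p = 1} := inferInstance
    have hconst : ∀ f g, w f = w g := fun f g =>
      isPreconnected_univ.constant_of_mapsTo (isDiscrete_iff_discreteTopology.mpr hdisc) hw.continuousOn hmaps (Set.mem_univ f) (Set.mem_univ g)
    let z : ℂ := Complex.exp (L ⟨⇑χ, χ, rfl⟩ / p)
    have hζ : Complex.exp (2 * Real.pi * Complex.I / p) ^ p = 1 :=
      (Complex.isPrimitiveRoot_exp p hp.ne_zero).pow_eq_one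
    have hroot : ∀ ζ : ℂ, ζ ^ p = 1 → eval₂ (χ : A →+* ℂ) (ζ * z) (X ^ p - C u) = 0 := fun ζ hζ => by
      rw [eval₂_sub, eval₂_X_pow, eval₂_C, mul_pow, hζ, one_mul, hpow]
      exact sub_self _
    have hkey : ∀ ζ : ℂ, ζ ^ p = 1 → ∃ f : T', w f = ζ := fun ζ hζ => by
      let ψ := AdjoinRoot.liftAlgHom (X ^ p - C u : A[X]) χ (ζ * z) (hroot ζ hζ)
      refine ⟨⟨⇑ψ, ψ, rfl⟩, ?_⟩
      show ψ _ / Complex.exp (L (π _) / p) = ζ
      have : π ⟨⇑ψ, ψ, rfl⟩ = ⟨⇑χ, χ, rfl⟩ := Subtype.ext (funext fun a => by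
        exact AdjoinRoot.liftAlgHom_of _ _ _ _ _)
      rw [this, AdjoinRoot.liftAlgHom_root]
      exact mul_div_cancel_right₀ _ (Complex.exp_ne_zero _)
    obtain ⟨f, hf⟩ := hkey 1 (one_pow _)
    obtain ⟨g, hg⟩ := hkey _ hζ
    exact (Complex.isPrimitiveRoot_exp p hp.ne_zero).ne_one hp.one_lt (by rw [← hg, ← hconst f g, hf])
  · have hi : IsIntegral ℂ u := isAlgebraic_iff_isIntegral.mp (not_not.mp hu)
    obtain ⟨c, rfl⟩ := minpoly.mem_range_of_degree_eq_one ℂ u
      (IsAlgClosed.degree_eq_one_of_irreducible ℂ (minpoly.irreducible hi))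
    simp

end Groth.L02.An
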