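import Groth.Agent.L02.An.NotPower
import Mathlib.Analysis.Complex.CoveringMap
import Mathlib.Topology.Homotopy.Lifting

/-!
A null-homotopic invertible regular function on a connected complex variety is constant.
-/

noncomputable section

open AlgebraicGeometry CategoryTheory TopologicalSpace Opposite Filter Topology
open scoped unitInterval

namespace Groth.L02.An

open _root_.An

variable {X : Scheme.{0}} [X.Over SC] [LocallyOfFiniteType (X ↘ SC)]

/-- A null-homotopic map to the punctured plane has a continuous logarithm. -/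
theorem exists_log {T : Type*} [TopologicalSpace T] (φ : C(T, {z : ℂ // z ≠ 0})) (z₀ : {z : ℂ // z ≠ 0})
    (h : φ.Homotopic (ContinuousMap.const T z₀)) :
    ∃ L : C(T, ℂ), ∀ t, Complex.exp (L t) = (φ t).1 := by
  let H := h.some.symm
  have H0 : ∀ t, H.toContinuousMap (0, t) =
      (fun z : ℂ => (⟨_, z.exp_ne_zero⟩ : {z : ℂ // z ≠ 0})) (ContinuousMap.const T (Complex.log z₀.1) t) :=
    fun t => (H.apply_zero t).trans (Subtype.ext (Complex.exp_log z₀.2).symm)
  let G := Complex.isCoveringMap_exp.liftHomotopy H.toContinuousMap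
    (ContinuousMap.const T (Complex.log z₀.1)) H0
  refine ⟨G.comp ((ContinuousMap.const T (1 : I)).prodMk (ContinuousMap.id T)), fun t => ?_⟩
  have h1 : (⟨_, (G (1, t)).exp_ne_zero⟩ : {z : ℂ // z ≠ 0}) = φ t :=
    (congrFun (Complex.isCoveringMap_exp.liftHomotopy_lifts H.toContinuousMap
      (ContinuousMap.const T (Complex.log z₀.1)) H0) (1, t)).trans (H.apply_one t)
  exact congrArg Subtype.val h1

/-- A global function with a continuous logarithm is constant on an irreducible affine piece. -/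
theorem evTop_eq_on_affine (u : Γ(X, ⊤)) (L : C(Pts X, ℂ)) (hL : ∀ x, Complex.exp (L x) = x.evTop u)
    {U : X.Opens} (hU : IsAffineOpen U) {η : X} (hη : η ∈ U) {x y : Pts X}
    (hx : x.pt ∈ U ∧ η ⤳ x.pt) (hy : y.pt ∈ U ∧ η ⤳ y.pt) : x.evTop u = y.evTop u := by
  let _ := algU U
  have : Algebra.FiniteType ℂ Γ(X, U) := finiteType_str hU
  obtain ⟨G, hG, hr, hv⟩ := exists_param hU hη
  have hmem : ∀ f, (G f).pt ∈ U := fun f => (hr.le ⟨f, rfl⟩).1
  let u' : Γ(X, U) ⧸ (hU.primeIdealOf ⟨η, hη⟩).asIdeal := Ideal.Quotient.mk _ (X.presheaf.map (homOfLE (le_top : U ≤ ⊤)).op u)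
  have hu' : ∀ f, (G f).evTop u = f.1 u' := fun f => by
    rw [← hv f (hmem f)]
    exact (ev_res (G f) le_top (hmem f) u).symm
  obtain ⟨f, rfl⟩ := hr.ge hx
  obtain ⟨g, rfl⟩ := hr.ge hy
  obtain ⟨χ, hχ⟩ := f.2
  obtain ⟨χ', hχ'⟩ := g.2
  rw [hu', hu', ← hχ, ← hχ']
  exact apply_eq_of_log _ u' (L ∘ G) (L.continuous.comp hG) (fun k => (hL _).trans (hu' k)) χ χ'

/-- A global function with a continuous logarithm is constant on an irreducible subvariety. -/
theorem evTop_eq_on_irreducible (u : Γ(X, ⊤)) (L : C(Pts X, ℂ)) (hL : ∀ x, Complex.exp (L x) = x.evTop u)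
    {η : X} {x y : Pts X} (hx : η ⤳ x.pt) (hy : η ⤳ y.pt) : x.evTop u = y.evTop u := by
  have : JacobsonSpace ↥X := LocallyOfFiniteType.jacobsonSpace (X ↘ SC)
  obtain ⟨U, hU, hxU⟩ := exists_affine_mem x
  obtain ⟨V, hV, hyV⟩ := exists_affine_mem y
  have hηU := hx.mem_open U.2 hxU
  have hηV := hy.mem_open V.2 hyV
  obtain ⟨p, ⟨⟨hpU, hpV⟩, hp⟩, hpc⟩ := nonempty_inter_closedPoints
    (Z := ((U : Set X) ∩ V) ∩ closure {η}) ⟨η, ⟨hηU, hηV⟩, subset_closure rfl⟩
    ((U.2.inter V.2).isLocallyClosed.inter isClosed_closure.isLocallyClosed)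
  obtain ⟨z, rfl⟩ := exists_pt_eq hpc
  exact (evTop_eq_on_affine u L hL hU hηU ⟨hxU, hx⟩ ⟨hpU, specializes_iff_mem_closure.mpr hp⟩).trans
    (evTop_eq_on_affine u L hL hV hηV ⟨hpV, specializes_iff_mem_closure.mpr hp⟩ ⟨hyV, hy⟩)

/-- A global function with a continuous logarithm on a connected variety is constant. -/
theorem evTop_eq [ConnectedSpace X] (u : Γ(X, ⊤)) (L : C(Pts X, ℂ))
    (hL : ∀ x, Complex.exp (L x) = x.evTop u) (x y : Pts X) : x.evTop u = y.evTop u := by
  have := isLocallyNoetherian (X := X)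
  let W : Set X := {p | ∀ z : Pts X, p ⤳ z.pt → z.evTop u = x.evTop u}
  have hs : StableUnderSpecialization W := fun p q hpq hp z hz => hp z (hpq.trans hz)
  have hg : StableUnderGeneralization W := fun q p hpq hq z hz => by
    obtain ⟨z', hz'⟩ := exists_pt_specializes q
    exact (evTop_eq_on_irreducible u L hL hz (hpq.trans hz')).trans (hq z' hz')
  have hW : IsClopen W :=
    ⟨isOpen_compl_iff.mp (isOpen_of_stable hg.compl hs.compl), isOpen_of_stable hs hg⟩
  have hx : x.pt ∈ W := fun z hz => evTop_eq_on_irreducible u L hL hz le_rfl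
  have huniv := hW.eq_univ ⟨_, hx⟩
  exact ((huniv.ge (Set.mem_univ y.pt)) y le_rfl).symm

end Groth.L02.An
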