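import Groth.Agent.L02.An.Near
import Mathlib.FieldTheory.PrimitiveElement
import Mathlib.RingTheory.Localization.Integral
import Mathlib.FieldTheory.Perfect
import Mathlib.RingTheory.IntegralClosure.IntegralRestrict

/-!
Affine complex varieties as branched covers of affine space: a primitive element and a bad hypersurface.
-/

noncomputable section

open Polynomial
open scoped nonZeroDivisors

namespace Groth.L02.An

theorem exists_primitive_of_fields (R A K L : Type) [CommRing R] [CommRing A] [IsDomain R] [IsDomain A]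
    [Algebra R A] [Module.Finite R A] [FaithfulSMul R A] [Field K] [Field L] [CharZero K] [Algebra R K]
    [IsFractionRing R K] [Algebra A L] [IsFractionRing A L] [Algebra R L] [IsScalarTower R A L]
    [Algebra K L] [IsScalarTower R K L] :
    ∃ a : A, ∀ b : A, ∃ (s : R) (q : R[X]), s ≠ 0 ∧ algebraMap R A s * b = aeval a q := by
  have : Algebra.IsAlgebraic R A := Algebra.IsIntegral.isAlgebraic
  have : FiniteDimensional K L := .of_isLocalization R A R⁰
  obtain ⟨x, hx⟩ := Field.exists_primitive_element K L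
  obtain ⟨⟨a, ⟨_, r, hr, rfl⟩⟩, har⟩ := IsLocalization.surj (Algebra.algebraMapSubmonoid A R⁰) x
  simp only at har
  rw [← IsScalarTower.algebraMap_apply R A L, IsScalarTower.algebraMap_apply R K L] at har
  have hr0 : algebraMap R K r ≠ 0 :=
    IsFractionRing.to_map_ne_zero_of_mem_nonZeroDivisors hr
  have hxa : x = (algebraMap R K r)⁻¹ • algebraMap A L a := by
    rw [eq_inv_smul_iff₀ hr0, ← har, Algebra.smul_def, mul_comm]
  have hmem : x ∈ Algebra.adjoin K {algebraMap A L a} :=
    by rw [hxa]; exact Subalgebra.smul_mem _ (Algebra.subset_adjoin (Set.mem_singleton _)) _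
  have hxtop : Algebra.adjoin K {x} = ⊤ := by
    rw [← IntermediateField.adjoin_simple_toSubalgebra_of_isAlgebraic
      (Algebra.IsAlgebraic.isAlgebraic x), hx]
    rfl
  have htop : Algebra.adjoin K {algebraMap A L a} = ⊤ :=
    by
    rw [← top_le_iff, ← hxtop]
    exact Algebra.adjoin_le (Set.singleton_subset_iff.mpr hmem)
  refine ⟨a, fun b => ?_⟩
  have hb : algebraMap A L b ∈ (aeval (R := K) (algebraMap A L a)).range := by
    rw [← Algebra.adjoin_singleton_eq_range_aeval, htop]
    exact Algebra.mem_top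
  obtain ⟨p, hp⟩ := hb
  obtain ⟨s, hs, hq⟩ := IsLocalization.integerNormalization_spec R⁰ p
  refine ⟨s, IsLocalization.integerNormalization R⁰ p, nonZeroDivisors.ne_zero hs,
    IsFractionRing.injective A L ?_⟩
  rw [← Polynomial.aeval_algebraMap_apply, ← Polynomial.aeval_map_algebraMap K, hq,
    map_mul, AlgHom.map_smul_of_tower, ← IsScalarTower.algebraMap_apply R A L, Algebra.smul_def]
  exact congrArg _ hp.symm

/-- An element generating the fraction field, up to denominators. -/
theorem exists_primitive (R A : Type) [CommRing R] [CommRing A] [IsDomain R] [IsDomain A]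
    [Algebra R A] [Module.Finite R A] [FaithfulSMul R A] [CharZero R] :
    ∃ a : A, ∀ b : A, ∃ (s : R) (q : R[X]), s ≠ 0 ∧ algebraMap R A s * b = aeval a q := by
  let _ : Algebra (FractionRing R) (FractionRing A) := FractionRing.liftAlgebra R (FractionRing A)
  have : CharZero (FractionRing R) :=
    charZero_of_injective_algebraMap (IsFractionRing.injective R (FractionRing R))
  exact exists_primitive_of_fields R A (FractionRing R) (FractionRing A)

/-- A nonzero integral element of a domain has nonzero constant coefficient. -/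
theorem minpoly_coeff_zero_ne_zero {R A : Type} [CommRing R] [CommRing A] [IsDomain R]
    [IsIntegrallyClosed R] [IsDomain A] [Algebra R A] [FaithfulSMul R A] {g : A} (hi : IsIntegral R g)
    (hg : g ≠ 0) : (minpoly R g).coeff 0 ≠ 0 := by
  intro h0
  obtain ⟨q, hq⟩ : X ∣ minpoly R g := Polynomial.X_dvd_iff.mpr h0
  have haev := minpoly.aeval R g
  rw [hq, map_mul, aeval_X, mul_eq_zero] at haev
  have hq0 : q ≠ 0 := fun h0 => minpoly.ne_zero hi (by rw [hq, h0, mul_zero])
  have := minpoly.IsIntegrallyClosed.degree_le_of_ne_zero hq0 (haev.resolve_left hg)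
  rw [hq, degree_mul, degree_X, degree_eq_natDegree hq0] at this
  exact absurd this (by exact_mod_cast (by omega : ¬ (1 + q.natDegree ≤ q.natDegree)))

variable {d : ℕ} {A : Type} [CommRing A] [Algebra ℂ A] [Algebra (MvPolynomial (Fin d) ℂ) A]
  [IsScalarTower ℂ (MvPolynomial (Fin d) ℂ) A]

/-- The coordinates in affine space of a complex point of a branched cover. -/
def base (ψ : A →ₐ[ℂ] ℂ) : Fin d → ℂ :=
  fun i => ψ (algebraMap (MvPolynomial (Fin d) ℂ) A (MvPolynomial.X i))

theorem comp_algebraMap (ψ : A →ₐ[ℂ] ℂ) :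
    ψ.comp (IsScalarTower.toAlgHom ℂ (MvPolynomial (Fin d) ℂ) A) = MvPolynomial.aeval (base ψ) :=
  MvPolynomial.algHom_ext fun i => by simp [base]

theorem apply_algebraMap (ψ : A →ₐ[ℂ] ℂ) (r : MvPolynomial (Fin d) ℂ) :
    ψ (algebraMap (MvPolynomial (Fin d) ℂ) A r) = MvPolynomial.eval (base ψ) r :=
  AlgHom.congr_fun (comp_algebraMap ψ) r

theorem apply_aeval (ψ : A →ₐ[ℂ] ℂ) (a : A) (q : (MvPolynomial (Fin d) ℂ)[X]) :
    ψ (aeval a q) = (q.map (MvPolynomial.eval (base ψ))).eval (ψ a) := by
  rw [Polynomial.eval_map, Polynomial.aeval_def,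
    show ψ (eval₂ (algebraMap (MvPolynomial (Fin d) ℂ) A) a q) =
      eval₂ ((ψ : A →+* ℂ).comp (algebraMap (MvPolynomial (Fin d) ℂ) A)) (ψ a) q from
      Polynomial.hom_eval₂ _ _ (ψ : A →+* ℂ) _]
  congr 1
  exact RingHom.ext (apply_algebraMap ψ)

variable [IsDomain A] [FaithfulSMul (MvPolynomial (Fin d) ℂ) A]
  [Module.Finite (MvPolynomial (Fin d) ℂ) A]

/-- A branched cover is, off a hypersurface, given by the simple roots of one polynomial. -/
theorem exists_branched_cover :
    ∃ (a : A) (h : MvPolynomial (Fin d) ℂ), h ≠ 0 ∧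
      (∀ b : A, ∃ (n : ℕ) (q : (MvPolynomial (Fin d) ℂ)[X]),
        algebraMap (MvPolynomial (Fin d) ℂ) A (h ^ n) * b = aeval a q) ∧
      ∀ ψ : A →ₐ[ℂ] ℂ, MvPolynomial.eval (base ψ) h ≠ 0 →
        ((minpoly (MvPolynomial (Fin d) ℂ) a).derivative.map (MvPolynomial.eval (base ψ))).eval (ψ a) ≠ 0 := by
  classical
  obtain ⟨a, ha⟩ := exists_primitive (MvPolynomial (Fin d) ℂ) A
  have : Algebra.FiniteType ℂ A :=
    Algebra.FiniteType.trans (R := ℂ) (S := MvPolynomial (Fin d) ℂ) inferInstance inferInstance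
  obtain ⟨G, hG⟩ := Algebra.FiniteType.out (R := ℂ) (A := A)
  choose s q hs hq using ha
  have hint : ∀ b : A, IsIntegral (MvPolynomial (Fin d) ℂ) b := Algebra.IsIntegral.isIntegral
  let g : A := aeval a (minpoly (MvPolynomial (Fin d) ℂ) a).derivative
  have hg : g ≠ 0 := by
    intro h0
    have hD : 0 < (minpoly (MvPolynomial (Fin d) ℂ) a).natDegree := minpoly.natDegree_pos (hint a)
    have hd0 : (minpoly (MvPolynomial (Fin d) ℂ) a).derivative ≠ 0 := fun h1 =>
      hD.ne' (Polynomial.derivative_eq_zero.mp h1)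
    exact (minpoly.IsIntegrallyClosed.degree_le_of_ne_zero hd0 h0).not_gt
      (degree_derivative_lt (minpoly.ne_zero (hint a)))
  let h₁ : MvPolynomial (Fin d) ℂ := (minpoly (MvPolynomial (Fin d) ℂ) g).coeff 0
  have hh₁ : h₁ ≠ 0 := minpoly_coeff_zero_ne_zero (hint g) hg
  refine ⟨a, h₁ * ∏ b ∈ G, s b, mul_ne_zero hh₁ (Finset.prod_ne_zero_iff.mpr fun b _ => hs b), ?_, ?_⟩
  · let S : Subalgebra ℂ A :=
      { carrier := {b | ∃ (n : ℕ) (q : (MvPolynomial (Fin d) ℂ)[X]),
          algebraMap (MvPolynomial (Fin d) ℂ) A ((h₁ * ∏ b ∈ G, s b) ^ n) * b = aeval a q}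
        mul_mem' := by
          rintro x y ⟨n, p, hp⟩ ⟨m, r, hr⟩
          refine ⟨n + m, p * r, ?_⟩
          rw [map_mul, ← hp, ← hr, pow_add, map_mul]
          ring
        add_mem' := by
          rintro x y ⟨n, p, hp⟩ ⟨m, r, hr⟩
          refine ⟨n + m, C ((h₁ * ∏ b ∈ G, s b) ^ m) * p + C ((h₁ * ∏ b ∈ G, s b) ^ n) * r, ?_⟩
          rw [map_add, map_mul, map_mul, aeval_C, aeval_C, ← hp, ← hr, pow_add, map_mul]
          ring
        algebraMap_mem' := fun c => ⟨0, C (MvPolynomial.C c), by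
          rw [pow_zero, map_one, one_mul, aeval_C, IsScalarTower.algebraMap_apply ℂ (MvPolynomial (Fin d) ℂ) A]
          rfl⟩ }
    intro b
    have hGS : Algebra.adjoin ℂ (G : Set A) ≤ S := Algebra.adjoin_le fun x hx => by
      refine ⟨1, C (h₁ * ∏ b ∈ G.erase x, s b) * q x, ?_⟩
      rw [map_mul, aeval_C, ← hq x, pow_one, ← Finset.mul_prod_erase G s hx, map_mul, map_mul, map_mul]
      ring
    rw [hG] at hGS
    exact hGS (Set.mem_univ b)
  · intro ψ hψ h0
    rw [map_mul, mul_ne_zero_iff] at hψ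
    have h0' : ψ g = 0 := by rw [apply_aeval]; exact h0
    have e := congrArg ψ (minpoly.aeval (MvPolynomial (Fin d) ℂ) g)
    rw [Polynomial.aeval_eq_sum_range, map_sum, map_zero, Finset.sum_range_succ'] at e
    rw [Algebra.smul_def, pow_zero, mul_one, apply_algebraMap] at e
    exact hψ.1 (by simpa [Algebra.smul_def, h0'] using e)

end Groth.L02.An
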