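import Groth.Agent.L02.An.Pullback
import Groth.Agent.L18.UnivClosedAffineSpace
import Mathlib.Order.Filter.FilterProduct
import Mathlib.Topology.Maps.Proper.Basic
import Mathlib.AlgebraicGeometry.ZariskisMainTheorem

/-!
Proper morphisms and proper maps of complex points, via valuation rings of bounded germs along
ultrafilters.
-/

set_option linter.unusedSectionVars false

noncomputable section

open AlgebraicGeometry CategoryTheory CategoryTheory.Limits TopologicalSpace Opposite Filter Topology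

namespace Groth.L02.An

open _root_.An

section bounded

variable {α : Type} (F : Ultrafilter α)

/-- The germs of bounded functions along an ultrafilter form a valuation ring. -/
def boundedGerms : ValuationSubring (Germ (F : Filter α) ℂ) where
  carrier := {g | ∃ C : ℝ, g.LiftPred fun z => ‖z‖ ≤ C}
  zero_mem' := ⟨0, Eventually.of_forall fun _ => by simp⟩
  one_mem' := ⟨1, Eventually.of_forall fun _ => by simp⟩
  add_mem' {a b} := by
    induction a using Germ.inductionOn with | _ f =>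
    induction b using Germ.inductionOn with | _ g =>
    rintro ⟨C, hC⟩ ⟨D, hD⟩
    exact ⟨C + D, (Eventually.and hC hD).mono fun x hx => (norm_add_le _ _).trans (add_le_add hx.1 hx.2)⟩
  mul_mem' {a b} := by
    induction a using Germ.inductionOn with | _ f =>
    induction b using Germ.inductionOn with | _ g =>
    rintro ⟨C, hC⟩ ⟨D, hD⟩
    exact ⟨C * D, (Eventually.and hC hD).mono fun x hx => (norm_mul_le _ _).trans
      (mul_le_mul hx.1 hx.2 (norm_nonneg _) ((norm_nonneg _).trans hx.1))⟩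
  neg_mem' {a} := by
    induction a using Germ.inductionOn with | _ f =>
    rintro ⟨C, hC⟩
    exact ⟨C, Eventually.mono hC fun x hx => by simpa using hx⟩
  mem_or_inv_mem' a := by
    induction a using Germ.inductionOn with | _ f =>
    rcases F.em fun x => ‖f x‖ ≤ 1 with h | h
    · exact Or.inl ⟨1, h⟩
    · refine Or.inr ⟨1, (Eventually.mono h fun x hx => ?_ : ∀ᶠ x in (F : Filter α), ‖(f x)⁻¹‖ ≤ 1)⟩
      rw [norm_inv]
      exact inv_le_one_of_one_le₀ (not_le.mp hx).le

theorem coe_mem_boundedGerms {f : α → ℂ} {c : ℂ} (h : Tendsto f F (𝓝 c)) :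
    (f : Germ (F : Filter α) ℂ) ∈ boundedGerms F :=
  ⟨‖c‖ + 1, (h.norm.eventually (gt_mem_nhds (lt_add_one _))).mono fun _ hx => hx.le⟩

theorem exists_tendsto (a : boundedGerms F) :
    ∃ c : ℂ, (a : Germ (F : Filter α) ℂ).Tendsto (𝓝 c) := by
  obtain ⟨a, ha⟩ := a
  induction a using Germ.inductionOn with | _ f =>
  obtain ⟨C, hC⟩ := ha
  obtain ⟨c, -, hc⟩ := (isCompact_closedBall (0 : ℂ) C).ultrafilter_le_nhds (F.map f)
    (le_principal_iff.mpr ((hC : ∀ᶠ x in (F : Filter α), ‖f x‖ ≤ C).mono fun x hx => by simpa using hx))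
  exact ⟨c, hc⟩

/-- The standard part of a bounded germ. -/
def stdPart : boundedGerms F →+* ℂ :=
  have key : ∀ (a : boundedGerms F) {c : ℂ}, (a : Germ (F : Filter α) ℂ).Tendsto (𝓝 c) →
      (exists_tendsto F a).choose = c := fun a c hc => by
    have hch := (exists_tendsto F a).choose_spec
    obtain ⟨a, ha⟩ := a
    induction a using Germ.inductionOn with | _ f =>
    exact tendsto_nhds_unique hch hc
  { toFun := fun a => (exists_tendsto F a).choose
    map_one' := key 1 (show Tendsto (fun _ : α => (1 : ℂ)) F (𝓝 1) from tendsto_const_nhds)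
    map_zero' := key 0 (show Tendsto (fun _ : α => (0 : ℂ)) F (𝓝 0) from tendsto_const_nhds)
    map_mul' := fun a b => key (a * b) (by
      have ha := (exists_tendsto F a).choose_spec
      have hb := (exists_tendsto F b).choose_spec
      obtain ⟨a, ha'⟩ := a
      obtain ⟨b, hb'⟩ := b
      induction a using Germ.inductionOn with | _ f =>
      induction b using Germ.inductionOn with | _ g =>
      exact Tendsto.mul ha hb)
    map_add' := fun a b => key (a + b) (by
      have ha := (exists_tendsto F a).choose_spec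
      have hb := (exists_tendsto F b).choose_spec
      obtain ⟨a, ha'⟩ := a
      obtain ⟨b, hb'⟩ := b
      induction a using Germ.inductionOn with | _ f =>
      induction b using Germ.inductionOn with | _ g =>
      exact Tendsto.add ha hb) }

theorem tendsto_stdPart {f : α → ℂ} (h : (f : Germ (F : Filter α) ℂ) ∈ boundedGerms F) :
    Tendsto f F (𝓝 (stdPart F ⟨f, h⟩)) :=
  (exists_tendsto F ⟨f, h⟩).choose_spec

theorem stdPart_coe {f : α → ℂ} {c : ℂ} (h : Tendsto f F (𝓝 c)) :
    stdPart F ⟨f, coe_mem_boundedGerms F h⟩ = c :=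
  tendsto_nhds_unique (tendsto_stdPart F _) h

end bounded

variable {X Y : Scheme.{0}} [X.Over SC] [Y.Over SC]

section germHom

variable {α : Type} (F : Ultrafilter α) (g : α → Pts X)

/-- The values along an ultrafilter of the sections over an open containing almost all points. -/
def germHom (U : X.Opens) (hU : ∀ᶠ a in (F : Filter α), (g a).pt ∈ U) :
    Γ(X, U) →+* Germ (F : Filter α) ℂ where
  toFun b := ((fun a => evF U b (g a) : α → ℂ) : Germ (F : Filter α) ℂ)
  map_one' := Germ.coe_eq.mpr (hU.mono fun a ha => by simp [evF_of_mem _ ha, ev_one])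
  map_zero' := Germ.coe_eq.mpr (hU.mono fun a ha => by simp [evF_of_mem _ ha, ev_zero])
  map_mul' b c := Germ.coe_eq.mpr (hU.mono fun a ha => by simp [evF_of_mem _ ha, ev_mul])
  map_add' b c := Germ.coe_eq.mpr (hU.mono fun a ha => by simp [evF_of_mem _ ha, ev_add])

theorem germHom_res {U V : X.Opens} (hVU : V ≤ U) (hU : ∀ᶠ a in (F : Filter α), (g a).pt ∈ U)
    (hV : ∀ᶠ a in (F : Filter α), (g a).pt ∈ V) :
    (germHom F g V hV).comp (X.presheaf.map (homOfLE hVU).op).hom = germHom F g U hU := by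
  refine RingHom.ext fun b => Germ.coe_eq.mpr (hV.mono fun a ha => ?_)
  exact (evF_of_mem _ ha).trans ((ev_res (g a) hVU ha b).trans (evF_of_mem b (hVU ha)).symm)

theorem germHom_str (U : X.Opens) (hU : ∀ᶠ a in (F : Filter α), (g a).pt ∈ U) (c : ℂ) :
    germHom F g U hU (str X U c) = ((fun _ => c : α → ℂ) : Germ (F : Filter α) ℂ) :=
  Germ.coe_eq.mpr (hU.mono fun a ha => (evF_of_mem _ ha).trans (val_str (g a) U ha c))

end germHom

theorem SpecMap_fromSpec_comp_str {A : Type} [CommRing A] {U : X.Opens} (hU : IsAffineOpen U)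
    (φ : Γ(X, U) →+* A) :
    Spec.map (CommRingCat.ofHom φ) ≫ hU.fromSpec ≫ (X ↘ SC) =
      Spec.map (CommRingCat.ofHom (φ.comp (str X U))) := by
  have hS : IsAffineOpen (⊤ : SC.Opens) := isAffineOpen_top SC
  rw [← IsAffineOpen.SpecMap_appLE_fromSpec (X ↘ SC) hS hU le_top, IsAffineOpen.fromSpec_top,
    ← Category.assoc, ← Spec.map_comp, Scheme.isoSpec_Spec_inv, ← Spec.map_comp]
  rfl

set_option maxHeartbeats 1000000 in
theorem isProperMap_of_isProper [LocallyOfFiniteType (Y ↘ SC)] (f : X ⟶ Y) [f.IsOver SC]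
    [IsProper f] : IsProperMap (Pts.map f) := by
  classical
  refine isProperMap_iff_ultrafilter.mpr ⟨Pts.continuous_map f, fun F y hy => ?_⟩
  obtain ⟨V, hV, hyV⟩ := exists_affine_mem y
  obtain ⟨hmem, hb⟩ := (tendsto_nhds hV hyV).mp hy
  have hmem' : ∀ᶠ a in (F : Filter (Pts X)), a.pt ∈ f ⁻¹ᵁ V :=
    hmem.mono fun a ha => by rw [Pts.pt_map] at ha; exact ha
  obtain ⟨s, hs, hsV⟩ := isCompact_and_isOpen_iff_finite_and_eq_biUnion_affineOpens.mp
    ⟨f.isCompact_preimage hV.isCompact, (f ⁻¹ᵁ V).2⟩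
  obtain ⟨⟨U, hU⟩, hUs, hFU⟩ := (Ultrafilter.eventually_exists_mem_iff hs
    (P := fun (U : X.affineOpens) (a : Pts X) => a.pt ∈ (U : X.Opens))).mp
    (hmem'.mono fun a ha => by simpa using hsV.le ha)
  replace hU : IsAffineOpen U := hU
  replace hFU : ∀ᶠ a in (F : Filter (Pts X)), a.pt ∈ U := hFU
  have hUV : U ≤ f ⁻¹ᵁ V := fun a ha => hsV.ge (Set.mem_biUnion hUs ha)
  let φ := germHom F id U hFU
  let ψ : Γ(Y, V) →+* boundedGerms F :=
    (germHom F (Pts.map f) V hmem).codRestrict (boundedGerms F).toSubring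
      fun b => coe_mem_boundedGerms F (hb b)
  let ξ : Spec (CommRingCat.of (Germ (F : Filter (Pts X)) ℂ)) ⟶ X :=
    Spec.map (CommRingCat.ofHom φ) ≫ hU.fromSpec
  let h : Spec (CommRingCat.of (boundedGerms F)) ⟶ Y := Spec.map (CommRingCat.ofHom ψ) ≫ hV.fromSpec
  have hsq : ξ ≫ f = Spec.map (CommRingCat.ofHom (algebraMap (boundedGerms F)
      (Germ (F : Filter (Pts X)) ℂ))) ≫ h := by
    rw [Category.assoc, ← IsAffineOpen.SpecMap_appLE_fromSpec f hV hU hUV, ← Spec.map_comp_assoc,
      ← Spec.map_comp_assoc]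
    congr 2
    ext b
    refine Germ.coe_eq.mpr (hFU.mono fun a ha => ?_)
    exact (evF_of_mem _ ha).trans ((ev_map_appLE f a hUV ha (map_pt_mem f a hUV ha) b).trans
      (evF_of_mem b (map_pt_mem f a hUV ha)).symm)
  let sq : ValuativeCommSq f :=
    { R := boundedGerms F, K := Germ (F : Filter (Pts X)) ℂ, i₁ := ξ, i₂ := h, commSq := ⟨hsq⟩ }
  obtain ⟨⟨⟨l, hl₁, hl₂⟩⟩⟩ := ((UniversallyClosed.eq_valuativeCriterion ▸
    (inferInstance : UniversallyClosed f) : (ValuativeCriterion.Existence ⊓ @QuasiCompact) f).1) sq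
  change Spec.map _ ≫ l = ξ at hl₁
  change l ≫ f = h at hl₂
  obtain ⟨U', hU', hxU'⟩ := exists_isAffineOpen_mem (l (IsLocalRing.closedPoint (boundedGerms F)))
  obtain ⟨χ, hχ⟩ := L18.exists_eq_SpecMap_fromSpec hU' l (L18.range_subset_of_closedPoint_mem l hxU')
  have hι : Function.Injective (algebraMap (boundedGerms F) (Germ (F : Filter (Pts X)) ℂ)) :=
    Subtype.val_injective
  have hχc : ∀ c : ℂ, ((χ.hom (str X U' c) : boundedGerms F) : Germ (F : Filter (Pts X)) ℂ) =
      ((fun _ => c : Pts X → ℂ) : Germ (F : Filter (Pts X)) ℂ) := by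
    intro c
    have h1 : Spec.map (CommRingCat.ofHom (φ.comp (str X U))) = Spec.map (CommRingCat.ofHom
        (((algebraMap (boundedGerms F) (Germ (F : Filter (Pts X)) ℂ)).comp χ.hom).comp (str X U'))) := by
      have h3 : Spec.map (CommRingCat.ofHom ((algebraMap (boundedGerms F)
          (Germ (F : Filter (Pts X)) ℂ)).comp χ.hom)) =
          Spec.map (CommRingCat.ofHom (algebraMap sq.R sq.K)) ≫ Spec.map χ := by
        rw [← Spec.map_comp]; rfl
      rw [← SpecMap_fromSpec_comp_str hU, ← SpecMap_fromSpec_comp_str hU', ← Category.assoc,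
        show Spec.map (CommRingCat.ofHom φ) ≫ hU.fromSpec = ξ from rfl, ← hl₁, hχ, h3]
      simp only [Category.assoc]
    have h2 := congr($(Spec.map_injective h1) c)
    exact h2.symm.trans (germHom_str F id U hFU c)
  have hσ : ((stdPart F).comp χ.hom).comp (str X U') = RingHom.id ℂ := by
    refine RingHom.ext fun c => ?_
    have h1 : Tendsto (fun _ : Pts X => c) F (𝓝 c) := tendsto_const_nhds
    show stdPart F (χ.hom (str X U' c)) = c
    rw [show χ.hom (str X U' c) = ⟨_, coe_mem_boundedGerms F h1⟩ from Subtype.ext (hχc c)]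
    exact stdPart_coe F h1
  let x := mkPt hU' ((stdPart F).comp χ.hom) hσ
  refine ⟨x, Subtype.ext ?_, ?_⟩
  · show (Spec.map (CommRingCat.ofHom ((stdPart F).comp χ.hom)) ≫ hU'.fromSpec) ≫ f = y.1
    rw [CommRingCat.ofHom_comp, Spec.map_comp, Category.assoc, Category.assoc,
      show CommRingCat.ofHom χ.hom = χ from rfl, ← Category.assoc (Spec.map χ), ← hχ, hl₂,
      ← SpecMap_val_fromSpec y hV hyV, ← Spec.map_comp_assoc]
    congr 2
    ext b
    exact stdPart_coe F (hb b)
  · let η := ξ (IsLocalRing.closedPoint (Germ (F : Filter (Pts X)) ℂ))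
    have hηU : η ∈ U := by
      exact hU.range_fromSpec.le ⟨_, (Scheme.Hom.comp_apply (Spec.map (CommRingCat.ofHom φ)) hU.fromSpec _).symm⟩
    have hηU' : η ∈ U' := by
      show ξ _ ∈ U'
      have h1 : ∀ {T : Scheme.{0}} (a : T ⟶ Spec Γ(X, U')) (q : T), (a ≫ hU'.fromSpec) q ∈ U' :=
        fun a q => hU'.range_fromSpec.le ⟨a q, (Scheme.Hom.comp_apply a hU'.fromSpec q).symm⟩
      rw [← hl₁, hχ, ← Category.assoc]
      exact h1 _ _
    obtain ⟨d, hdU', hηd⟩ := hU.exists_basicOpen_le (V := U') ⟨η, hηU'⟩ hηU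
    have hd : φ d ≠ 0 := by
      intro h0
      let p : Spec Γ(X, U) := Spec.map (CommRingCat.ofHom φ)
        (IsLocalRing.closedPoint (Germ (F : Filter (Pts X)) ℂ))
      have h1 : p ∈ hU.fromSpec ⁻¹ᵁ X.basicOpen d := by
        show hU.fromSpec p ∈ X.basicOpen d
        exact (congrArg (· ∈ X.basicOpen d) (Scheme.Hom.comp_apply _ _ _)).mp hηd
      rw [hU.fromSpec_preimage_basicOpen] at h1
      refine (PrimeSpectrum.mem_basicOpen _ _).mp h1 ?_
      show φ d ∈ (IsLocalRing.closedPoint (Germ (F : Filter (Pts X)) ℂ)).asIdeal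
      rw [h0]
      exact zero_mem _
    have hev0 : ∀ᶠ a in (F : Filter (Pts X)), evF U d a ≠ 0 := by
      rcases F.em fun a => evF U d a = 0 with h | h
      · exact absurd (Germ.coe_eq.mpr h) hd
      · exact h
    let D := X.basicOpen d
    have hDa : IsAffineOpen D := hU.basicOpen d
    have hmemD : ∀ᶠ a in (F : Filter (Pts X)), a.pt ∈ D := by
      filter_upwards [hFU, hev0] with a ha ha0
      exact (mem_basicOpen_iff a ha d).mpr (by rwa [evF_of_mem d ha] at ha0)
    have hmemU' : ∀ᶠ a in (F : Filter (Pts X)), a.pt ∈ U' := hmemD.mono fun a ha => hdU' ha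
    refine (le_nhds hU' (pt_mkPt_mem _ _ _)).mpr ⟨hmemU', fun b => ?_⟩
    have h1 : Spec.map (CommRingCat.ofHom (germHom F id U' hmemU')) ≫ hU'.fromSpec = ξ := by
      show _ = Spec.map (CommRingCat.ofHom φ) ≫ hU.fromSpec
      rw [← germHom_res F id hdU' hmemU' hmemD,
        show φ = (germHom F id D hmemD).comp (X.presheaf.map (homOfLE (X.basicOpen_le d)).op).hom from
          (germHom_res F id (X.basicOpen_le d) hFU hmemD).symm,
        CommRingCat.ofHom_comp, CommRingCat.ofHom_comp, Spec.map_comp, Spec.map_comp,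
        Category.assoc, Category.assoc]
      congr 1
      exact (hU'.map_fromSpec hDa _).trans (hU.map_fromSpec hDa _).symm
    rw [← hl₁, hχ, ← Category.assoc, cancel_mono, ← Spec.map_comp] at h1
    have h2 := congr($(Spec.map_injective h1) b)
    have h3 : evF U' b = fun a : Pts X => evF U' b (id a) := rfl
    have h2' : ((fun a : Pts X => evF U' b a : Pts X → ℂ) : Germ (F : Filter (Pts X)) ℂ) =
        ((χ.hom b : boundedGerms F) : Germ (F : Filter (Pts X)) ℂ) := h2
    have hm : ((fun a : Pts X => evF U' b a : Pts X → ℂ) : Germ (F : Filter (Pts X)) ℂ) ∈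
        boundedGerms F := by rw [h2']; exact SetLike.coe_mem _
    have h4 : χ.hom b = ⟨_, hm⟩ := Subtype.ext h2'.symm
    have h5 := congr($(val_mkPt hU' ((stdPart F).comp χ.hom) hσ) b)
    rw [val_apply] at h5
    rw [h5, RingHom.comp_apply, h4]
    exact tendsto_stdPart F _

theorem preimage_image_closed [LocallyOfFiniteType (X ↘ SC)] [LocallyOfFiniteType (Y ↘ SC)]
    (f : X ⟶ Y) [f.IsOver SC] {Z : Set X} (hZ : IsClosed Z) :
    (Pts.pt ⁻¹' (f.base '' Z) : Set (Pts Y)) = Pts.map f '' (Pts.pt ⁻¹' Z) := by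
  refine subset_antisymm (fun y hy => ?_) ?_
  · obtain ⟨p, hp, hpy⟩ := hy
    have : JacobsonSpace ↥X := LocallyOfFiniteType.jacobsonSpace (X ↘ SC)
    obtain ⟨z, ⟨hzZ, hz⟩, hzc⟩ := nonempty_inter_closedPoints (Z := Z ∩ f.base ⁻¹' {y.pt})
      ⟨p, hp, hpy⟩ (hZ.inter ((isClosed_pt y).preimage f.continuous)).isLocallyClosed
    obtain ⟨x, rfl⟩ := exists_pt_eq hzc
    exact ⟨x, hzZ, pt_injective ((Pts.pt_map f x).trans hz)⟩
  · rintro _ ⟨x, hx, rfl⟩
    exact ⟨x.pt, hx, (Pts.pt_map f x).symm⟩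

theorem isProperMap_pullback_snd {S : Scheme.{0}} [S.Over SC] (f : X ⟶ S) (g : Y ⟶ S) [f.IsOver SC]
    [g.IsOver SC] (h : IsProperMap (Pts.map f)) : IsProperMap (Pts.map (pullback.snd f g)) := by
  refine isProperMap_iff_ultrafilter.mpr ⟨Pts.continuous_map _, fun F a ha => ?_⟩
  have h1 : Tendsto (Pts.map f) (F.map (Pts.map (pullback.fst f g))) (𝓝 (Pts.map g a)) := by
    rw [Ultrafilter.coe_map, tendsto_map'_iff]
    exact (((Pts.continuous_map g).tendsto a).comp ha).congr
      fun z => (Pts.map_pullback_condition f g z).symm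
  obtain ⟨x, hxa, hx⟩ := h.ultrafilter_le_nhds_of_tendsto h1
  obtain ⟨z, hz⟩ := (toFibreProd_bijective f g).2 ⟨(x, a), hxa⟩
  refine ⟨z, congrArg (fun q => q.1.2) hz, ?_⟩
  rw [(toFibreProd_isHomeomorph f g).isEmbedding.nhds_eq_comap, hz, ← map_le_iff_le_comap,
    nhds_induced, ← map_le_iff_le_comap, nhds_prod_eq]
  exact Tendsto.prodMk hx ha

theorem isProper_iff [LocallyOfFiniteType (X ↘ SC)] [LocallyOfFiniteType (Y ↘ SC)] (f : X ⟶ Y)
    [f.IsOver SC] [QuasiCompact f] :
    IsProper f ↔ IsProperMap (Pts.map f) ∧ IsSeparatedMap (Pts.map f) := by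
  refine ⟨fun h => ⟨isProperMap_of_isProper f, (isSeparated_iff f).mp inferInstance⟩, fun ⟨hp, hs⟩ => ?_⟩
  have : IsSeparated f := (isSeparated_iff f).mpr hs
  have := locallyOfFiniteType_of_isOver f
  suffices UniversallyClosed f by constructor
  refine L18.universallyClosed_of_affineSpace f fun n => ?_
  let P : Scheme.{0} := 𝔸(ULift.{0} (Fin n); Y)
  let _ : P.Over SC := ⟨(P ↘ Y) ≫ (Y ↘ SC)⟩
  have : (P ↘ Y).IsOver SC := ⟨rfl⟩
  have : LocallyOfFiniteType (P ↘ SC) := inferInstanceAs (LocallyOfFiniteType ((P ↘ Y) ≫ (Y ↘ SC)))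
  have : LocallyOfFiniteType ((pullback f (P ↘ Y)) ↘ SC) :=
    inferInstanceAs (LocallyOfFiniteType (pullback.fst f (P ↘ Y) ≫ (X ↘ SC)))
  have := isLocallyNoetherian (X := P)
  intro Z hZ
  refine isClosed_of_pts ((pullback.snd f (P ↘ Y)).isLocallyConstructible_image
    (isLocallyConstructible_of_isClosed hZ)) ?_
  rw [preimage_image_closed _ hZ]
  exact (isProperMap_pullback_snd f (P ↘ Y) hp).isClosedMap _ (hZ.preimage Pts.continuous_pt)

theorem isFinite_iff [LocallyOfFiniteType (X ↘ SC)] [LocallyOfFiniteType (Y ↘ SC)] (f : X ⟶ Y)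
    [f.IsOver SC] [QuasiCompact f] :
    IsFinite f ↔ IsProperMap (Pts.map f) ∧ IsSeparatedMap (Pts.map f) ∧
      ∀ y : Pts Y, (Pts.map f ⁻¹' {y}).Finite := by
  rw [← and_assoc, ← isProper_iff f, IsFinite.iff_isProper_and_locallyQuasiFinite]
  refine and_congr_right fun _ => ⟨fun _ y => ?_, fun h => ?_⟩
  · refine Set.Finite.of_finite_image ((f.finite_preimage_singleton y.pt).subset ?_)
      (pt_injective.injOn)
    rintro _ ⟨x, hx, rfl⟩
    rw [Set.mem_preimage, Set.mem_singleton_iff, ← hx]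
    exact (Pts.pt_map f x).symm
  have := locallyOfFiniteType_of_isOver f
  have : JacobsonSpace ↥X := LocallyOfFiniteType.jacobsonSpace (X ↘ SC)
  have hall : ∀ x ∈ closedPoints X, x ∈ f.quasiFiniteLocus := by
    intro p hp
    obtain ⟨x, rfl⟩ := exists_pt_eq hp
    rw [Scheme.Hom.mem_quasiFiniteLocus, Scheme.Hom.quasiFiniteAt_iff_isOpen_singleton_asFiber]
    set C := f.base ⁻¹' {(Pts.map f x).pt}
    have hC : IsClosed C := (isClosed_pt _).preimage f.continuous
    have hfin : (C ∩ closedPoints X).Finite := by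
      refine ((h (Pts.map f x)).image Pts.pt).subset ?_
      rintro q ⟨hq, hqc⟩
      obtain ⟨w, rfl⟩ := exists_pt_eq hqc
      exact ⟨w, pt_injective ((Pts.pt_map f w).trans hq), rfl⟩
    have hCsub : C ⊆ closedPoints X := by
      have h1 : closure (C ∩ closedPoints X) = C := JacobsonSpace.closure_inter_closedPoints hC
      have h2 : IsClosed (C ∩ closedPoints X) := by
        rw [← Set.biUnion_of_singleton (C ∩ closedPoints X)]
        exact hfin.isClosed_biUnion fun q hq => hq.2
      rw [h2.closure_eq] at h1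
      exact h1 ▸ Set.inter_subset_right
    have hCfin : C.Finite := by rwa [Set.inter_eq_left.mpr hCsub] at hfin
    have hclosed : IsClosed (C \ {x.pt}) := by
      rw [← Set.biUnion_of_singleton (C \ {x.pt})]
      exact (hCfin.subset Set.sdiff_subset).isClosed_biUnion fun q hq => hCsub hq.1
    rw [← (f.fiberHomeo (f x.pt)).isOpen_image]
    simp only [Set.image_singleton, Scheme.Hom.asFiber, Homeomorph.apply_symm_apply]
    refine ⟨(C \ {x.pt})ᶜ, hclosed.isOpen_compl, ?_⟩
    ext ⟨q, hq⟩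
    have hqC : q ∈ C := by
      show f q ∈ ({(Pts.map f x).pt} : Set Y)
      rw [Pts.pt_map]
      exact hq
    simp only [Set.mem_preimage, Set.mem_compl_iff, Set.mem_sdiff, hqC, true_and,
      Set.mem_singleton_iff, not_not]
    exact ⟨fun e => by simp [e], fun e => congrArg Subtype.val e⟩
  have htop : ∀ p : X, f.QuasiFiniteAt p := by
    intro p
    by_contra hne
    obtain ⟨z, hz, hzc⟩ := nonempty_inter_closedPoints (Z := ((f.quasiFiniteLocus : Set X))ᶜ) ⟨p, hne⟩
      f.quasiFiniteLocus.2.isClosed_compl.isLocallyClosed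
    exact hz (hall z hzc)
  refine locallyQuasiFinite_iff_isDiscrete_preimage_singleton.mpr fun y => ?_
  refine ⟨discreteTopology_iff_isOpen_singleton.mpr fun ⟨q, hq⟩ => ?_⟩
  have h1 : f q = y := hq
  subst h1
  have h2 := Scheme.Hom.quasiFiniteAt_iff_isOpen_singleton_asFiber.mp (htop q)
  rw [← (f.fiberHomeo (f q)).isOpen_image] at h2
  simp only [Set.image_singleton, Scheme.Hom.asFiber, Homeomorph.apply_symm_apply] at h2
  exact h2

theorem isProper_iff_compact [LocallyOfFiniteType (X ↘ SC)] [QuasiCompact (X ↘ SC)] :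
    IsProper (X ↘ SC) ↔ CompactSpace (Pts X) ∧ T2Space (Pts X) := by
  let _ : SC.Over SC := ⟨𝟙 SC⟩
  have : (X ↘ SC).IsOver SC := ⟨Category.comp_id _⟩
  have : LocallyOfFiniteType (SC ↘ SC) := inferInstanceAs (LocallyOfFiniteType (𝟙 SC))
  rw [isProper_iff (X ↘ SC)]
  let e₀ : Pts SC := ⟨𝟙 SC, Category.comp_id _⟩
  have : Subsingleton (Pts SC) := ⟨fun a b => Subtype.ext ((Category.comp_id _).symm.trans
    ((a.2.trans b.2.symm).trans (Category.comp_id _)))⟩
  have e : Pts.map (X ↘ SC) = fun _ : Pts X => e₀ := funext fun x => Subsingleton.elim _ _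
  rw [e, ← t2space_iff_isSeparatedMap]
  refine and_congr_left fun _ => ⟨fun h => ⟨?_⟩, fun _ => ?_⟩
  · have := h.isCompact_preimage (isCompact_singleton (x := e₀))
    simpa using this
  · exact Continuous.isProperMap continuous_const

end Groth.L02.An
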