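import Groth.Agent.L02.An.Pullback
import Groth.Prelude.Def_AnEps
import Mathlib.CategoryTheory.Sites.DenseSubsite.SheafEquiv
import Mathlib.AlgebraicGeometry.Morphisms.Etale
import Mathlib.AlgebraicGeometry.Sites.Etale
import Mathlib.CategoryTheory.Limits.Constructions.LimitsOfProductsAndEqualizers

/-!
The classical site of a space, and the comparison functor of sites.
-/

set_option linter.unusedSectionVars false

universe u

noncomputable section

open CategoryTheory TopologicalSpace Opposite Topology

namespace Groth.L02.An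

open _root_.An

section dense

variable (T : Type u) [TopologicalSpace T]

instance opensToCl_full : (opensToCl T).Full where
  map_surjective {U V} f := ⟨homOfLE fun x hx => by
      have := f.over ⟨x, hx⟩
      exact (show (f.toFun ⟨x, hx⟩).1 = x from this) ▸ (f.toFun ⟨x, hx⟩).2,
    Cl.hom_ext (funext fun a => Subtype.ext (f.over a).symm)⟩

instance opensToCl_faithful : (opensToCl T).Faithful where
  map_injective _ := Subsingleton.elim _ _

theorem exists_open_chart (A : Cl T) (a : A.E) :
    ∃ (V : Opens T) (s : (opensToCl T).obj V ⟶ A), IsOpenEmbedding s.toFun ∧ a ∈ Set.range s.toFun := by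
  obtain ⟨W, hW, hemb⟩ := isLocalHomeomorph_iff_isOpenEmbedding_restrict.mp A.lh a
  have ho : IsOpenEmbedding fun w : interior W => A.p w.1 :=
    hemb.comp (⟨.inclusion interior_subset, by
      rw [Set.range_inclusion]
      exact isOpen_interior.preimage continuous_subtype_val⟩ :
        IsOpenEmbedding (Set.inclusion (interior_subset (s := W))))
  let V : Opens T := ⟨Set.range fun w : interior W => A.p w.1, ho.isOpen_range⟩
  let e := ho.isEmbedding.toHomeomorph
  refine ⟨V, ⟨fun v => (e.symm v).1, continuous_subtype_val.comp e.symm.continuous, fun v => ?_⟩,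
    isOpen_interior.isOpenEmbedding_subtypeVal.comp e.symm.isOpenEmbedding,
    ⟨e ⟨a, mem_interior_iff_mem_nhds.mpr hW⟩, ?_⟩⟩
  · exact congrArg Subtype.val (e.apply_symm_apply v)
  · exact congrArg Subtype.val (e.symm_apply_apply _)

instance opensToCl_isDenseSubsite :
    (opensToCl T).IsDenseSubsite (Opens.grothendieckTopology T) (Cl.topology T) where
  isCoverDense' := ⟨fun A a => by
    obtain ⟨V, s, hs, ha⟩ := exists_open_chart T A a
    exact ⟨_, s, ⟨⟨V, 𝟙 _, s, Category.id_comp _⟩⟩, hs, ha⟩⟩
  functorPushforward_mem_iff {U S} := by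
    constructor
    · intro h x hx
      obtain ⟨B, g, ⟨V, k, m, hk, hfac⟩, -, b, hb⟩ := h ⟨x, hx⟩
      refine ⟨V, k, hk, ?_⟩
      have h1 := congrArg (fun φ => (φ.toFun b).1) hfac
      have h2 : ((g.toFun b).1 : T) = x := congrArg Subtype.val hb
      rw [← h2]
      exact h1 ▸ (m.toFun b).2
    · intro h a
      obtain ⟨V, k, hk, hV⟩ := h a.1 a.2
      have hVU : (V : Set T) ⊆ U := k.le
      refine ⟨_, (opensToCl T).map k, Sieve.image_mem_functorPushforward _ _ hk, ⟨.inclusion hVU, ?_⟩,
        ⟨a.1, hV⟩, rfl⟩
      show IsOpen (Set.range (Set.inclusion hVU))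
      rw [Set.range_inclusion]
      exact V.2.preimage continuous_subtype_val

end dense

open AlgebraicGeometry CategoryTheory.Limits

section eps

variable {X Y S P : Scheme.{0}} [X.Over SC] [Y.Over SC] [S.Over SC] [P.Over SC]

/-- The complex points of a cartesian square form a fibre product of spaces. -/
theorem isHomeomorph_of_isPullback {p : P ⟶ X} {q : P ⟶ Y} {f : X ⟶ S} {g : Y ⟶ S} [p.IsOver SC]
    [q.IsOver SC] [f.IsOver SC] [g.IsOver SC] (h : IsPullback p q f g) :
    IsHomeomorph (fun z : Pts P => (⟨(Pts.map p z, Pts.map q z), Subtype.ext (by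
      show (z.1 ≫ p) ≫ f = (z.1 ≫ q) ≫ g
      rw [Category.assoc, Category.assoc, h.w])⟩ :
        {w : Pts X × Pts Y // Pts.map f w.1 = Pts.map g w.2})) := by
  let e := h.isoPullback
  have : e.hom.IsOver SC := ⟨by
    show e.hom ≫ pullback.fst f g ≫ (X ↘ SC) = P ↘ SC
    rw [h.isoPullback_hom_fst_assoc, comp_over p]⟩
  have : e.inv.IsOver SC := ⟨by
    rw [Iso.inv_comp_eq, comp_over e.hom]⟩
  let E : Pts P ≃ₜ Pts (pullback f g) :=
    { toFun := Pts.map e.hom
      invFun := Pts.map e.inv
      left_inv := fun z => Subtype.ext (by simp [Pts.map_val])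
      right_inv := fun z => Subtype.ext (by simp [Pts.map_val])
      continuous_toFun := Pts.continuous_map _
      continuous_invFun := Pts.continuous_map _ }
  convert (toFibreProd_isHomeomorph f g).comp E.isHomeomorph using 1
  funext z
  refine Subtype.ext (Prod.ext (Subtype.ext ?_) (Subtype.ext ?_))
  · exact (by rw [Category.assoc, h.isoPullback_hom_fst] : (z.1 ≫ e.hom) ≫ pullback.fst f g = z.1 ≫ p).symm
  · exact (by rw [Category.assoc, h.isoPullback_hom_snd] : (z.1 ≫ e.hom) ≫ pullback.snd f g = z.1 ≫ q).symm

variable (X) [LocallyOfFiniteType (X ↘ SC)] [Fact EtaleLH]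

theorem eps_map_isPullback {P A B C : X.Etale} {p : P ⟶ A} {q : P ⟶ B} {f : A ⟶ C} {g : B ⟶ C}
    (h : IsPullback p q f g) :
    IsPullback ((eps X).map p) ((eps X).map q) ((eps X).map f) ((eps X).map g) := by
  have h2 : IsPullback p.left q.left f.left g.left :=
    h.map (Scheme.Etale.forget X ⋙ CategoryTheory.Over.forget X)
  have hφ := isHomeomorph_of_isPullback h2
  let e := hφ.homeomorph
  let D : ∀ s : PullbackCone ((eps X).map f) ((eps X).map g), s.pt.E →
      {w : Pts A.left × Pts B.left // Pts.map f.left w.1 = Pts.map g.left w.2} := fun s a =>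
    ⟨(s.fst.toFun a, s.snd.toFun a), congrArg (fun φ => φ.toFun a) s.condition⟩
  have hD : ∀ s, Continuous (D s) := fun s => (s.fst.continuous.prodMk s.snd.continuous).subtype_mk _
  have h1 : ∀ s a, Pts.map p.left (e.symm (D s a)) = s.fst.toFun a := fun s a =>
    congrArg (fun w => w.1.1) (e.apply_symm_apply (D s a))
  have h2 : ∀ s a, Pts.map q.left (e.symm (D s a)) = s.snd.toFun a := fun s a =>
    congrArg (fun w => w.1.2) (e.apply_symm_apply (D s a))
  let L : ∀ s : PullbackCone ((eps X).map f) ((eps X).map g), s.pt ⟶ (eps X).obj P := fun s =>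
    ⟨fun a => e.symm (D s a), e.symm.continuous.comp (hD s), fun a => by
      have h3 := ((eps X).map p).over (e.symm (D s a))
      refine h3.symm.trans ((congrArg ((eps X).obj A).p ?_).trans (s.fst.over a))
      exact h1 s a⟩
  refine ⟨⟨by rw [← Functor.map_comp, h.w, Functor.map_comp]⟩, ⟨PullbackCone.IsLimit.mk _ L
    (fun s => Cl.hom_ext (funext (h1 s))) (fun s => Cl.hom_ext (funext (h2 s))) fun s m hm₁ hm₂ => ?_⟩⟩
  refine Cl.hom_ext (funext fun a => e.injective ?_)
  have h4 : e (m.toFun a) = D s a := Subtype.ext (Prod.ext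
    (congrArg (fun φ => φ.toFun a) hm₁) (congrArg (fun φ => φ.toFun a) hm₂))
  exact h4.trans (e.apply_symm_apply (D s a)).symm

set_option backward.isDefEq.respectTransparency.types false in
instance eps_preservesFiniteLimits : PreservesFiniteLimits (eps X) := by
  have : PreservesLimitsOfShape (Discrete PEmpty.{1}) (eps X) := by
    have ht : IsTerminal (EtCoh.top X) :=
      MorphismProperty.Over.mkIdTerminal _ X
    have : PreservesLimit (Functor.empty.{0} X.Etale) (eps X) :=
      preservesLimit_of_preserves_limit_cone ht ((isLimitMapConeEmptyConeEquiv (eps X) _).symm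
        ((Cl.selfIsTerminal (Pts X)).ofIso (epsTopIso X).symm))
    exact preservesLimitsOfShape_pempty_of_preservesTerminal _
  have : PreservesLimitsOfShape WalkingCospan (eps X) := by
    refine ⟨fun {K} => ?_⟩
    have h1 : PreservesLimit (cospan (K.map WalkingCospan.Hom.inl) (K.map WalkingCospan.Hom.inr))
        (eps X) := by
      let h := IsPullback.of_hasPullback (K.map WalkingCospan.Hom.inl) (K.map WalkingCospan.Hom.inr)
      exact preservesLimit_of_preserves_limit_cone h.isLimit
        ((isLimitMapConePullbackConeEquiv (eps X) h.w).symm (eps_map_isPullback X h).isLimit)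
    exact preservesLimit_of_iso_diagram (eps X) (diagramIsoCospan K).symm
  exact preservesFiniteLimits_of_preservesTerminal_and_pullbacks (eps X)

instance eps_representablyFlat : RepresentablyFlat (eps X) := flat_of_preservesFiniteLimits _

set_option backward.isDefEq.respectTransparency.types false in
theorem eps_coverPreserving :
    CoverPreserving X.smallEtaleTopology (Cl.topology (Pts X)) (eps X) := by
  constructor
  intro U R hR a
  have eX : X.smallEtaleTopology =
      (X.smallPretopology (P := EtCoh.etaleMP) (Q := EtCoh.etaleMP)).toGrothendieck :=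
    Scheme.smallGrothendieckTopology_eq_toGrothendieck_smallPretopology X le_rfl
  rw [eX] at hR
  obtain ⟨V, g, v, hg, hget, hv⟩ :=
    (Scheme.mem_toGrothendieck_smallPretopology U R).1 hR (Pts.pt a)
  have : Etale g.left := hget
  have : Etale (V.left ↘ X) := V.prop
  have : Etale (U.left ↘ X) := U.prop
  have : LocallyOfFiniteType (V.left ↘ SC) :=
    inferInstanceAs (LocallyOfFiniteType ((V.left ↘ X) ≫ (X ↘ SC)))
  have : LocallyOfFiniteType (U.left ↘ SC) :=
    inferInstanceAs (LocallyOfFiniteType ((U.left ↘ X) ≫ (X ↘ SC)))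
  obtain ⟨b, hb⟩ : a ∈ Set.range (Pts.map (X := V.left) (Y := U.left) g.left) := by
    rw [← preimage_range g.left]
    exact ⟨v, hv⟩
  obtain ⟨W, hW, hemb⟩ := isLocalHomeomorph_iff_isOpenEmbedding_restrict.mp
    ((Fact.out : EtaleLH) V.left U.left g.left) b
  have ho : IsOpen (interior W : Set (Pts V.left)) := isOpen_interior
  refine ⟨Cl.restrictOpen ((eps X).obj V) (interior W) ho,
    Cl.restrictOpenι ((eps X).obj V) (interior W) ho ≫ (eps X).map g,
    Sieve.downward_closed _ (Sieve.image_mem_functorPushforward _ _ hg) _,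
    hemb.comp (⟨.inclusion interior_subset, by
      rw [Set.range_inclusion]
      exact isOpen_interior.preimage continuous_subtype_val⟩ :
        IsOpenEmbedding (Set.inclusion (interior_subset (s := W)))),
    ⟨b, mem_interior_iff_mem_nhds.mpr hW⟩, hb⟩

theorem epsCont : EpsCont X :=
  Functor.isContinuous_of_coverPreserving (compatiblePreservingOfFlat _ _) (eps_coverPreserving X)

end eps

end Groth.L02.An
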